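/-
helper23: Bender–Glauberman Appendix B, Theorems B.2 and B.3 (Puig): for a solvable group `G` of
odd order, `p` odd, `S` a Sylow `p`-subgroup and `T = O_p(G)`:
`L_*(S) ≤ L_*(T) ≤ L(T) ≤ L(S)` when `O_{p'}(G) = 1`, `Z(L(S))` is then normal in `G`, and in
general `G = O_{p'}(G) N_G(Z(L(S)))`.
Everything lives in `Cfsg.Agent.Helper23`.
-/
import Cfsg.Agent.Helper23.Puig
import Cfsg.Agent.Helper23.PuigSeq
import Cfsg.Agent.Helper51.Basic
import Cfsg.Agent.Helper11.ZJ
import Cfsg.Agent.Helper55.TwoClosed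

set_option autoImplicit false

namespace Cfsg.Agent.Helper23

open Cfsg Subgroup

universe u

section Conj

variable {G : Type u} [Group G]

theorem mem_normalizer_of_map_conj_eq {M : Subgroup G} {g : G}
    (h : M.map (MulAut.conj g).toMonoidHom = M) : g ∈ normalizer (M : Set G) := by
  rw [Subgroup.mem_normalizer_iff]
  intro x
  constructor
  · intro hx
    rw [← h]
    exact ⟨x, hx, rfl⟩
  · intro hx
    rw [← h] at hx
    obtain ⟨y, hy, hyx⟩ := hx
    have h1 : g * y * g⁻¹ = g * x * g⁻¹ := hyx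
    have h2 : y = x := by
      have h3 := congrArg (fun t => g⁻¹ * t * g) h1
      simpa [mul_assoc] using h3
    rwa [← h2]

theorem normalizer_le_normalizer_seqIn (H : Subgroup G) (n : ℕ) :
    normalizer (H : Set G) ≤ normalizer (seqIn H n : Set G) := by
  intro g hg
  apply mem_normalizer_of_map_conj_eq
  rw [map_seqIn (MulAut.conj g).toMonoidHom (fun x _ y _ h => (MulAut.conj g).injective h),
    Helper11.map_conj_eq_of_mem_normalizer H g hg]

theorem normalizer_le_normalizer_upperIn [Finite G] (H : Subgroup G) :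
    normalizer (H : Set G) ≤ normalizer (upperIn H : Set G) := by
  obtain ⟨N, hN⟩ := exists_stable H
  rw [← (hN N le_rfl).2]
  exact normalizer_le_normalizer_seqIn H _

theorem normalizer_le_normalizer_centerOf (M : Subgroup G) :
    normalizer (M : Set G) ≤ normalizer (centerOf M : Set G) := by
  intro g hg
  apply mem_normalizer_of_map_conj_eq
  rw [map_centerOf (MulAut.conj g).toMonoidHom (le_refl M)
    (fun x _ y _ h => (MulAut.conj g).injective h),
    Helper11.map_conj_eq_of_mem_normalizer M g hg]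

theorem normalizer_le_normalizer_center_upperIn [Finite G] (H : Subgroup G) :
    normalizer (H : Set G) ≤ normalizer (centerOf (upperIn H) : Set G) :=
  (normalizer_le_normalizer_upperIn H).trans (normalizer_le_normalizer_centerOf _)

theorem centerOf_isMulCommutative (M : Subgroup G) : IsMulCommutative (centerOf M) := by
  constructor; constructor
  rintro ⟨a, ha⟩ ⟨b, hb⟩
  apply Subtype.ext
  exact (Subgroup.mem_centralizer_iff.mp (Subgroup.mem_inf.mp hb).2 a (Subgroup.mem_inf.mp ha).1)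

theorem le_normalizer_of_le_centralizer' {A C : Subgroup G} (h : C ≤ centralizer (A : Set G)) :
    C ≤ normalizer (A : Set G) := by
  intro c hc
  rw [Subgroup.mem_normalizer_iff]
  intro a
  have hc' := Subgroup.mem_centralizer_iff.mp (h hc)
  constructor
  · intro ha
    rw [← hc' a ha, mul_assoc, mul_inv_cancel, mul_one]
    exact ha
  · intro ha
    have h1 := hc' _ ha
    have h2 : a = c * a * c⁻¹ := by
      have h3 := congrArg (fun z => c⁻¹ * z) h1
      simp only [mul_assoc, inv_mul_cancel_left] at h3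
      simpa [mul_assoc] using h3
    rw [h2]
    exact ha

end Conj

section Thm

variable {G : Type u} [Group G] [Finite G] [Group.IsSolvable G]

/-- **Bender–Glauberman B.2**, term by term. -/
theorem bg_b2_seq (hodd : Odd (Nat.card G)) (p : ℕ) [Fact p.Prime] (hO : pPrimeCore p G = ⊥)
    (S : Sylow p G) (n : ℕ) :
    seqIn (S : Subgroup G) (2 * n) ≤ seqIn (pCore p G) (2 * n) ∧
      seqIn (pCore p G) (2 * n + 1) ≤ seqIn (S : Subgroup G) (2 * n + 1) := by
  obtain ⟨T, hT⟩ : ∃ T : Subgroup G, T = pCore p G := ⟨_, rfl⟩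
  rw [← hT]
  have hTn : T.Normal := by rw [hT]; exact Helper11.pCore_normal p G
  have hTp : IsPGroup p T := by rw [hT]; exact Helper22.pCore_isPGroup p G
  have hTS : T ≤ (S : Subgroup G) := by rw [hT]; exact Helper11.pCore_le_sylow S
  -- a self-centralizing normal abelian subgroup of `T`
  have hnil : Group.IsNilpotent ↥T := hTp.isNilpotent
  obtain ⟨B, hBn, hBc, hBmax⟩ := Helper51.exists_maximal_normal_abelian (G := ↥T)
  have hBcent := Helper51.centralizer_le_of_maximal_normal_abelian B hBn hBc hBmax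
  obtain ⟨E, hE⟩ : ∃ E : Subgroup G, E = B.map T.subtype := ⟨_, rfl⟩
  have hET : E ≤ T := by rw [hE]; exact Subgroup.map_subtype_le B
  have hEc : IsMulCommutative E := by rw [hE]; infer_instance
  have hTE : T ≤ normalizer (E : Set G) := by
    have h1 : (normalizer (B : Set ↥T)).map T.subtype ≤ normalizer ((B.map T.subtype : Subgroup G) : Set G) :=
      Subgroup.le_normalizer_map T.subtype
    rw [Subgroup.normalizer_eq_top_iff.mpr hBn, ← MonoidHom.range_eq_map, Subgroup.range_subtype,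
      ← hE] at h1
    exact h1
  have hEcent : T ⊓ centralizer (E : Set G) ≤ E := by
    intro x hx
    obtain ⟨hxT, hxc⟩ := Subgroup.mem_inf.mp hx
    have h1 : (⟨x, hxT⟩ : ↥T) ∈ centralizer (B : Set ↥T) := by
      rw [Subgroup.mem_centralizer_iff]
      intro b hb
      apply Subtype.ext
      have hbE : (b : G) ∈ E := by rw [hE]; exact ⟨b, hb, rfl⟩
      exact Subgroup.mem_centralizer_iff.mp hxc _ hbE
    rw [hE]
    exact ⟨⟨x, hxT⟩, hBcent h1, rfl⟩
  have hEseq : ∀ k : ℕ, E ≤ seqIn T (k + 1) := fun k =>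
    le_stepIn hET hEc ((seqIn_le T k).trans hTE)
  -- abelian subgroups normalized by an odd term of the series of `T` lie in `T`
  have key : ∀ (k : ℕ) (A : Subgroup G), IsMulCommutative A →
      seqIn T (2 * k + 1) ≤ normalizer (A : Set G) → A ≤ T := by
    intro k A hAc hAn
    have hPn : (seqIn T (2 * k + 1)).Normal := by
      rw [← Subgroup.normalizer_eq_top_iff, ← top_le_iff]
      exact (Subgroup.normalizer_eq_top_iff.mpr hTn).ge.trans
        (normalizer_le_normalizer_seqIn T _)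
    have hPp : IsPGroup p (seqIn T (2 * k + 1)) := hTp.to_le (seqIn_le T _)
    have hCP : pCore p G ⊓ centralizer (seqIn T (2 * k + 1) : Set G) ≤ seqIn T (2 * k + 1) := by
      rw [← hT]
      refine (inf_le_inf_left T (Subgroup.centralizer_le ?_)).trans (hEcent.trans (hEseq _))
      exact hEseq (2 * k)
    have h1 := (bg_b1 hodd p (seqIn T (2 * k + 1)) hPp {A}
      (fun B hB => by
        rw [Set.mem_singleton_iff] at hB
        subst hB
        exact ⟨hAc, hAn⟩)).2 hO hCP
    rw [sSup_singleton, ← hT] at h1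
    exact h1
  induction n with
  | zero => exact ⟨le_rfl, stepIn_mono hTS ⊥⟩
  | succ n ih =>
    have h1 : seqIn (S : Subgroup G) (2 * (n + 1)) ≤ seqIn T (2 * (n + 1)) := by
      show stepIn (S : Subgroup G) (seqIn (S : Subgroup G) (2 * n + 1)) ≤
        stepIn T (seqIn T (2 * n + 1))
      apply sSup_le
      rintro A ⟨-, hAc, hAn⟩
      exact le_stepIn (key n A hAc (ih.2.trans hAn)) hAc (ih.2.trans hAn)
    refine ⟨h1, ?_⟩
    show stepIn T (seqIn T (2 * (n + 1))) ≤
      stepIn (S : Subgroup G) (seqIn (S : Subgroup G) (2 * (n + 1)))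
    exact (stepIn_anti T h1).trans (stepIn_mono hTS _)

/-- **Bender–Glauberman B.2**. -/
theorem bg_b2 (hodd : Odd (Nat.card G)) (p : ℕ) [Fact p.Prime] (hO : pPrimeCore p G = ⊥)
    (S : Sylow p G) :
    lowerIn (S : Subgroup G) ≤ lowerIn (pCore p G) ∧ lowerIn (pCore p G) ≤ upperIn (pCore p G) ∧
      upperIn (pCore p G) ≤ upperIn (S : Subgroup G) := by
  refine ⟨?_, lowerIn_le_upperIn _, ?_⟩
  · exact iSup_le (fun n => (bg_b2_seq hodd p hO S n).1.trans (seqIn_even_le_lowerIn _ n))
  · exact le_iInf (fun n => (upperIn_le_seqIn_odd _ n).trans (bg_b2_seq hodd p hO S n).2)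

/-- **Puig's theorem** (Bender–Glauberman B.3): if `O_{p'}(G) = 1` then `Z(L(S))` is normal. -/
theorem puig_center_normal (hodd : Odd (Nat.card G)) (p : ℕ) [Fact p.Prime]
    (hO : pPrimeCore p G = ⊥) (S : Sylow p G) :
    (centerOf (upperIn (S : Subgroup G))).Normal := by
  obtain ⟨h1, h2, h3⟩ := bg_b2 hodd p hO S
  obtain ⟨T, hT⟩ : ∃ T : Subgroup G, T = pCore p G := ⟨_, rfl⟩
  rw [← hT] at h1 h2 h3
  have hTn : T.Normal := by rw [hT]; exact Helper11.pCore_normal p G
  have hTp : IsPGroup p T := by rw [hT]; exact Helper22.pCore_isPGroup p G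
  have hTS : T ≤ (S : Subgroup G) := by rw [hT]; exact Helper11.pCore_le_sylow S
  obtain ⟨Z, hZ⟩ : ∃ Z : Subgroup G, Z = centerOf (upperIn (S : Subgroup G)) := ⟨_, rfl⟩
  obtain ⟨Z₀, hZ₀⟩ : ∃ Z₀ : Subgroup G, Z₀ = centerOf (upperIn T) := ⟨_, rfl⟩
  rw [← hZ]
  have hZ₀n : Z₀.Normal := by
    rw [← Subgroup.normalizer_eq_top_iff, ← top_le_iff, hZ₀]
    exact (Subgroup.normalizer_eq_top_iff.mpr hTn).ge.trans
      (normalizer_le_normalizer_center_upperIn T)
  have hZ₀T : Z₀ ≤ T := by rw [hZ₀]; exact inf_le_left.trans (upperIn_le T)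
  have hZ₀p : IsPGroup p Z₀ := hTp.to_le hZ₀T
  have hZ₀c : IsMulCommutative Z₀ := by rw [hZ₀]; exact centerOf_isMulCommutative _
  have hZc : IsMulCommutative Z := by rw [hZ]; exact centerOf_isMulCommutative _
  have hZ₀low : Z₀ ≤ lowerIn (S : Subgroup G) := by
    rw [← stepIn_upperIn]
    refine le_stepIn (hZ₀T.trans hTS) hZ₀c ?_
    rw [Subgroup.normalizer_eq_top_iff.mpr hZ₀n]
    exact le_top
  have hZlow : Z ≤ lowerIn (S : Subgroup G) := by
    rw [← stepIn_upperIn]
    refine le_stepIn ?_ hZc ?_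
    · rw [hZ]; exact inf_le_left.trans (upperIn_le _)
    · apply le_normalizer_of_le_centralizer'
      intro x hx
      rw [Subgroup.mem_centralizer_iff]
      intro z hz
      rw [SetLike.mem_coe, hZ] at hz
      exact (Subgroup.mem_centralizer_iff.mp (Subgroup.mem_inf.mp hz).2 x hx).symm
  have hZZ₀ : Z ≤ Z₀ := by
    intro z hz
    rw [hZ₀]
    refine Subgroup.mem_inf.mpr ⟨h2 (h1 (hZlow hz)), ?_⟩
    rw [hZ] at hz
    exact Subgroup.centralizer_le h3 (Subgroup.mem_inf.mp hz).2
  -- `L(S)` maps into `O_p(G / C_G(Z₀))`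
  have hb1 := (bg_b1 hodd p Z₀ hZ₀p
    {A : Subgroup G | A ≤ (S : Subgroup G) ∧ IsMulCommutative A ∧
      lowerIn (S : Subgroup G) ≤ normalizer (A : Set G)}
    (fun A hA => ⟨hA.2.1, hZ₀low.trans hA.2.2⟩)).1
  have hsup : sSup {A : Subgroup G | A ≤ (S : Subgroup G) ∧ IsMulCommutative A ∧
      lowerIn (S : Subgroup G) ≤ normalizer (A : Set G)} = upperIn (S : Subgroup G) :=
    stepIn_lowerIn (S : Subgroup G)
  rw [hsup] at hb1
  obtain ⟨K, hK⟩ : ∃ K : Subgroup G, K = (pCore p (G ⧸ centralizer (Z₀ : Set G))).comap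
    (QuotientGroup.mk' (centralizer (Z₀ : Set G))) := ⟨_, rfl⟩
  have hKn : K.Normal := by
    have hch := Helper22.pCore_characteristic p (G ⧸ centralizer (Z₀ : Set G))
    have : (pCore p (G ⧸ centralizer (Z₀ : Set G))).Normal := inferInstance
    rw [hK]
    infer_instance
  have hLK : upperIn (S : Subgroup G) ≤ K := by
    rw [hK]
    exact Subgroup.map_le_iff_le_comap.mp hb1
  have hR := puig_eq_of_upperIn_le (inf_le_left : (S : Subgroup G) ⊓ K ≤ (S : Subgroup G))
    (le_inf (upperIn_le _) hLK)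
  have hNR : normalizer (((S : Subgroup G) ⊓ K : Subgroup G) : Set G) ≤ normalizer (Z : Set G) := by
    have h4 := normalizer_le_normalizer_center_upperIn ((S : Subgroup G) ⊓ K)
    rw [hR.1, ← hZ] at h4
    exact h4
  have hNS : (S : Subgroup G) ≤ normalizer (Z : Set G) := by
    rw [hZ]
    exact Subgroup.le_normalizer.trans (normalizer_le_normalizer_center_upperIn _)
  have hNC : centralizer (Z₀ : Set G) ≤ normalizer (Z : Set G) :=
    le_normalizer_of_le_centralizer' (Subgroup.centralizer_le hZZ₀)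
  have hKN : K ≤ normalizer (Z : Set G) := by
    intro k hk
    rw [hK, Subgroup.mem_comap] at hk
    have hsurj : Function.Surjective (QuotientGroup.mk' (centralizer (Z₀ : Set G))) :=
      QuotientGroup.mk'_surjective _
    have h5 : pCore p (G ⧸ centralizer (Z₀ : Set G)) ≤
        ((S.mapSurjective hsurj : Sylow p (G ⧸ centralizer (Z₀ : Set G))) : Subgroup _) :=
      Helper11.pCore_le_sylow _
    have h6 := h5 hk
    rw [Sylow.coe_mapSurjective] at h6
    obtain ⟨s, hs, hsk⟩ := h6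
    have h7 : s⁻¹ * k ∈ centralizer (Z₀ : Set G) := by
      rw [← QuotientGroup.eq_one_iff, QuotientGroup.mk_mul, QuotientGroup.mk_inv]
      have h8 : (QuotientGroup.mk s : G ⧸ centralizer (Z₀ : Set G)) = QuotientGroup.mk k := hsk
      rw [h8, inv_mul_cancel]
    have h9 : k = s * (s⁻¹ * k) := by group
    rw [h9]
    exact Subgroup.mul_mem _ (hNS hs) (hNC h7)
  rw [← Subgroup.normalizer_eq_top_iff, ← top_le_iff]
  intro g _
  obtain ⟨l, hl, n, hn, rfl⟩ := Helper11.frattini_inf S K g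
  exact Subgroup.mul_mem _ (hKN hl) (hNR hn)

/-- **Puig's theorem**, factorization form: `G = O_{p'}(G) N_G(Z(L(S)))`. -/
theorem puig_factorization (hodd : Odd (Nat.card G)) (p : ℕ) [Fact p.Prime] (S : Sylow p G) :
    pPrimeCore p G ⊔ normalizer (centerOf (upperIn (S : Subgroup G)) : Set G) = ⊤ := by
  have hpp : p.Prime := Fact.out
  obtain ⟨φ, hφdef⟩ : ∃ φ : G →* G ⧸ pPrimeCore p G, φ = QuotientGroup.mk' (pPrimeCore p G) :=
    ⟨_, rfl⟩
  have hφ : Function.Surjective φ := by rw [hφdef]; exact QuotientGroup.mk'_surjective _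
  have hker : ∀ x y : G, φ x = φ y → x⁻¹ * y ∈ pPrimeCore p G := by
    intro x y h
    rw [hφdef] at h
    exact QuotientGroup.eq.mp h
  have hinj : ∀ x ∈ (S : Subgroup G), ∀ y ∈ (S : Subgroup G), φ x = φ y → x = y := by
    intro x hx y hy h
    have h1 := hker x y h
    have h2 : x⁻¹ * y ∈ (S : Subgroup G) := Subgroup.mul_mem _ (Subgroup.inv_mem _ hx) hy
    obtain ⟨k, hk⟩ := S.2 ⟨x⁻¹ * y, h2⟩
    have hk' : (x⁻¹ * y) ^ p ^ k = 1 := congrArg Subtype.val hk
    have h3 : orderOf (x⁻¹ * y) ∣ p ^ k := orderOf_dvd_of_pow_eq_one hk'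
    have h4 : orderOf (x⁻¹ * y) ∣ Nat.card (pPrimeCore p G) :=
      Subgroup.orderOf_dvd_natCard _ h1
    have h5 : (orderOf (x⁻¹ * y)).Coprime (p ^ k) :=
      Nat.Coprime.coprime_dvd_left h4
        (Nat.Coprime.pow_right k (Helper22.card_pPrimeCore_coprime p G))
    have h6 : orderOf (x⁻¹ * y) = 1 := Nat.Coprime.eq_one_of_dvd h5 h3
    rw [orderOf_eq_one_iff] at h6
    have h7 : y = x * (x⁻¹ * y) := by group
    rw [h7, h6, mul_one]
  have hoddq : Odd (Nat.card (G ⧸ pPrimeCore p G)) :=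
    hodd.of_dvd_nat (Subgroup.card_quotient_dvd_card _)
  have hOq := Helper55.pPrimeCore_quotient_eq_bot p G
  have hnorm := puig_center_normal hoddq p hOq (S.mapSurjective hφ)
  rw [Sylow.coe_mapSurjective, ← map_upperIn φ hinj, ← map_centerOf φ (upperIn_le _) hinj] at hnorm
  obtain ⟨Z, hZ⟩ : ∃ Z : Subgroup G, Z = centerOf (upperIn (S : Subgroup G)) := ⟨_, rfl⟩
  rw [← hZ] at hnorm ⊢
  have hZS : Z ≤ (S : Subgroup G) := by rw [hZ]; exact inf_le_left.trans (upperIn_le _)
  rw [eq_top_iff]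
  intro g _
  have hMn : ((Z.map φ).comap φ).Normal := hnorm.comap φ
  obtain ⟨l, hl, n, hn, rfl⟩ := Helper11.frattini_inf S ((Z.map φ).comap φ) g
  have hSM : (S : Subgroup G) ⊓ (Z.map φ).comap φ = Z := by
    apply le_antisymm
    · intro s hs
      obtain ⟨hs1, hs2⟩ := Subgroup.mem_inf.mp hs
      obtain ⟨z, hz, hzs⟩ := Subgroup.mem_comap.mp hs2
      have h1 : z = s := hinj z (hZS hz) s hs1 hzs
      rwa [← h1]
    · exact le_inf hZS (Subgroup.le_comap_map φ Z)
  rw [hSM] at hn
  obtain ⟨z, hz, hzl⟩ := Subgroup.mem_comap.mp hl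
  have h1 : l * z⁻¹ ∈ pPrimeCore p G := by
    have h2 := hker l⁻¹ z⁻¹ (by rw [map_inv, map_inv, hzl])
    rwa [inv_inv] at h2
  have h3 : l * n = (l * z⁻¹) * (z * n) := by group
  rw [h3]
  exact Subgroup.mul_mem_sup h1 (Subgroup.mul_mem _ (Subgroup.le_normalizer hz) hn)

end Thm

end Cfsg.Agent.Helper23
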