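/-
helper23: tools for the uniqueness theorems of Bender–Glauberman, Section 9, in a minimal simple
group of odd order: Sylow subgroups of subgroups (internal form), `O_{p'}` of a subgroup,
Puig's factorization for proper subgroups, and the "maximal intersection" argument.
Everything lives in `Cfsg.Agent.Helper23`.
-/
import Cfsg.Agent.Helper23.Trans
import Cfsg.Agent.Helper23.PuigThm
import Cfsg.Agent.Helper23.Rank2Fit
import Cfsg.Agent.Helper34.PComp1

set_option autoImplicit false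

namespace Cfsg.Agent.Helper23

open Cfsg Subgroup Cfsg.Agent.Helper35
open scoped commutatorElement Pointwise

universe u

variable {G : Type u} [Group G] [Finite G]

/-! ### Maximal subgroups of a minimal simple group -/

theorem uq_isSolvable (hG : IsMinSimpleOddOrder G) {H : Subgroup G} (hH : H ≠ ⊤) :
    Group.IsSolvable ↥H := hG.2.2.2 H hH

theorem uq_odd (hG : IsMinSimpleOddOrder G) (H : Subgroup G) : Odd (Nat.card ↥H) :=
  hG.1.of_dvd_nat (Subgroup.card_subgroup_dvd_card H)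

theorem uq_exists_coatom_ge {X : Subgroup G} (hX : X ≠ ⊤) :
    ∃ M : Subgroup G, IsCoatom M ∧ X ≤ M :=
  (eq_top_or_exists_le_coatom X).resolve_left hX

omit [Finite G] in
theorem uq_eq_of_coatom_le {M N : Subgroup G} (hM : IsCoatom M) (hN : N ≠ ⊤) (h : M ≤ N) :
    N = M := by
  by_contra hne
  exact hN (hM.2 N (lt_of_le_of_ne h (Ne.symm hne)))

theorem uq_normalizer_eq (hG : IsMinSimpleOddOrder G) {M X : Subgroup G} (hM : IsCoatom M)
    (hX1 : X ≠ ⊥) (hXM : X ≤ M) (h : M ≤ normalizer (X : Set G)) :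
    normalizer (X : Set G) = M := by
  have := hG.2.1
  have hX2 : X ≠ ⊤ := fun h2 => hM.1 (top_le_iff.mp (h2 ▸ hXM))
  exact uq_eq_of_coatom_le hM (normalizer_ne_top_of_simple hX1 hX2) h

/-! ### Sylow subgroups of a subgroup, internal form -/

/-- `S` is a Sylow `p`-subgroup of the subgroup `H`. -/
def IsSylowOf (p : ℕ) (S H : Subgroup G) : Prop :=
  S ≤ H ∧ IsPGroup p S ∧ ∀ T : Subgroup G, T ≤ H → IsPGroup p T → S ≤ T → T = S

omit [Finite G] in
theorem IsSylowOf.exists_sylow {p : ℕ} {S H : Subgroup G} (h : IsSylowOf p S H) :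
    ∃ P : Sylow p ↥H, (P : Subgroup ↥H) = S.subgroupOf H := by
  refine ⟨⟨S.subgroupOf H, h.2.1.comap_subtype, ?_⟩, rfl⟩
  intro Q hQ hle
  have h1 : Q.map H.subtype = S := by
    apply h.2.2 _ (Subgroup.map_subtype_le Q) (hQ.map _)
    intro s hs
    exact ⟨⟨s, h.1 hs⟩, hle (Subgroup.mem_subgroupOf.mpr hs), rfl⟩
  ext x
  rw [Subgroup.mem_subgroupOf, ← h1]
  constructor
  · intro hx
    exact ⟨x, hx, rfl⟩
  · rintro ⟨y, hy, hyx⟩
    have : y = x := Subtype.ext hyx
    rwa [← this]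

omit [Finite G] in
theorem isSylowOf_map {p : ℕ} {H : Subgroup G} (P : Sylow p ↥H) :
    IsSylowOf p ((P : Subgroup ↥H).map H.subtype) H := by
  refine ⟨Subgroup.map_subtype_le _, P.2.map _, ?_⟩
  intro T hTH hT hle
  have h1 : T.subgroupOf H = (P : Subgroup ↥H) := by
    apply P.3 hT.comap_subtype
    intro x hx
    exact Subgroup.mem_subgroupOf.mpr (hle ⟨x, hx, rfl⟩)
  rw [← h1]
  exact (Subgroup.map_subgroupOf_eq_of_le hTH).symm

theorem exists_isSylowOf_ge {p : ℕ} [Fact p.Prime] {T H : Subgroup G} (hT : IsPGroup p T)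
    (hTH : T ≤ H) : ∃ S : Subgroup G, IsSylowOf p S H ∧ T ≤ S := by
  obtain ⟨P, hP⟩ := (hT.comap_subtype (K := H)).exists_le_sylow
  refine ⟨(P : Subgroup ↥H).map H.subtype, isSylowOf_map P, ?_⟩
  intro t ht
  exact ⟨⟨t, hTH ht⟩, hP (Subgroup.mem_subgroupOf.mpr ht), rfl⟩

omit [Finite G] in
theorem IsSylowOf.of_le {p : ℕ} {S H K : Subgroup G} (h : IsSylowOf p S H) (hSK : S ≤ K)
    (hKH : K ≤ H) : IsSylowOf p S K :=
  ⟨hSK, h.2.1, fun T hT hTp hle => h.2.2 T (hT.trans hKH) hTp hle⟩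

/-- A Sylow subgroup of `H` whose normalizer in `K` lies in `H` is a Sylow subgroup of `K`. -/
theorem IsSylowOf.of_normalizer_inf_le {p : ℕ} [Fact p.Prime] {S H K : Subgroup G}
    (h : IsSylowOf p S H) (hSK : S ≤ K) (hN : normalizer (S : Set G) ⊓ K ≤ H) :
    IsSylowOf p S K := by
  refine ⟨hSK, h.2.1, fun T hT hTp hle => ?_⟩
  by_contra hne
  have hlt : S < T := lt_of_le_of_ne hle (Ne.symm hne)
  obtain ⟨x, hxT, hxN, hxS⟩ := exists_mem_normalizer_not_mem Fact.out hTp hlt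
  have hxH : x ∈ H := hN (Subgroup.mem_inf.mpr ⟨hxN, hT hxT⟩)
  have h1 : T ⊓ H = S := h.2.2 (T ⊓ H) inf_le_right (hTp.to_le inf_le_left) (le_inf hle h.1)
  exact hxS (h1 ▸ Subgroup.mem_inf.mpr ⟨hxT, hxH⟩)

omit [Finite G] in
theorem isSylowOf_top {p : ℕ} (P : Sylow p G) : IsSylowOf p (P : Subgroup G) ⊤ :=
  ⟨le_top, P.2, fun _ _ hT hle => P.3 hT hle⟩

omit [Finite G] in
theorem IsSylowOf.exists_sylow_top {p : ℕ} {S : Subgroup G} (h : IsSylowOf p S ⊤) :
    ∃ P : Sylow p G, (P : Subgroup G) = S :=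
  ⟨⟨S, h.2.1, fun {Q} hQ hle => h.2.2 Q le_top hQ hle⟩, rfl⟩

/-! ### `O_{p'}` of a subgroup -/

omit [Finite G] in
theorem uq_le_normalizer_coreIn (p : ℕ) (H : Subgroup G) :
    H ≤ normalizer (Helper34.coreIn p H : Set G) := by
  intro h hh
  apply Helper24.mem_normalizer_of_conj_mem
  · intro x hx
    exact Helper34.conj_mem_coreIn (fun y hy => H.mul_mem (H.mul_mem hh hy) (H.inv_mem hh))
      (fun y hy => H.mul_mem (H.mul_mem (H.inv_mem hh) hy) hh) hx
  · intro x hx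
    have := Helper34.conj_mem_coreIn (g := h⁻¹)
      (fun y hy => H.mul_mem (H.mul_mem (H.inv_mem hh) hy) (H.inv_mem (H.inv_mem hh)))
      (fun y hy => H.mul_mem (H.mul_mem (H.inv_mem (H.inv_mem hh)) hy) (H.inv_mem hh)) hx
    simpa using this

omit [Finite G] in
theorem uq_le_coreIn {p : ℕ} {Y H : Subgroup G} (hYH : Y ≤ H)
    (hn : H ≤ normalizer (Y : Set G)) (hc : (Nat.card Y).Coprime p) :
    Y ≤ Helper34.coreIn p H :=
  Helper34.le_coreIn hYH
    (fun k hk m hm => (Subgroup.mem_normalizer_iff.mp (hn hk) m).mp hm) hc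

/-- A `p'`-subgroup of a solvable group `H` normalized by a Sylow `p`-subgroup of `H` lies in
`O_{p'}(H)`. -/
theorem le_coreIn_of_isSylowOf {p : ℕ} [Fact p.Prime] {S H Y : Subgroup G}
    (hH : Group.IsSolvable ↥H) (hS : IsSylowOf p S H) (hYH : Y ≤ H)
    (hcop : (Nat.card Y).Coprime p) (hSY : S ≤ normalizer (Y : Set G)) :
    Y ≤ Helper34.coreIn p H := by
  obtain ⟨P, hP⟩ := hS.exists_sylow
  obtain ⟨φ, hφdef⟩ : ∃ φ : ↥H →* ↥H ⧸ pPrimeCore p ↥H, φ = QuotientGroup.mk' (pPrimeCore p ↥H) :=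
    ⟨_, rfl⟩
  have hφ : Function.Surjective φ := by rw [hφdef]; exact QuotientGroup.mk'_surjective _
  have hker : φ.ker = pPrimeCore p ↥H := by rw [hφdef]; exact QuotientGroup.ker_mk' _
  have hbot := Helper34.pPrimeCore_quotient_eq_bot p ↥H
  have hcore : ∀ D : Subgroup (↥H ⧸ pPrimeCore p ↥H), D.Normal → (Nat.card D).Coprime p →
      D = ⊥ := by
    intro D hD hDc
    have := Helper24.le_pPrimeCore hD hDc
    rw [hbot] at this
    exact le_bot_iff.mp this
  have hcent := Helper24.centralizer_pCore_le (G := ↥H ⧸ pPrimeCore p ↥H) p hcore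
  have hRp : IsPGroup p (pCore p (↥H ⧸ pPrimeCore p ↥H)) := Helper24.isPGroup_pCore p _
  have hRS : pCore p (↥H ⧸ pPrimeCore p ↥H) ≤ (P : Subgroup ↥H).map φ := by
    have := Helper11.pCore_le_sylow (P.mapSurjective hφ)
    rwa [Sylow.coe_mapSurjective] at this
  have hYcard : (Nat.card ((Y.subgroupOf H).map φ)).Coprime p := by
    refine Nat.Coprime.coprime_dvd_left (Subgroup.card_map_dvd _ _) ?_
    rw [natCard_subgroupOf_eq hYH]
    exact hcop
  have hinf : pCore p (↥H ⧸ pPrimeCore p ↥H) ⊓ (Y.subgroupOf H).map φ = ⊥ :=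
    Helper24.inf_eq_bot_of_isPGroup_of_coprime hRp hYcard
  have hle : (Y.subgroupOf H).map φ ≤ centralizer (pCore p (↥H ⧸ pPrimeCore p ↥H) : Set _) := by
    rintro _ ⟨y, hy, rfl⟩
    rw [Subgroup.mem_centralizer_iff]
    intro r hr
    obtain ⟨s, hs, rfl⟩ := hRS hr
    have hsS : (s : G) ∈ S := by
      rw [hP] at hs
      exact Subgroup.mem_subgroupOf.mp hs
    have hyY : (y : G) ∈ Y := Subgroup.mem_subgroupOf.mp hy
    have h1 : ⁅φ s, φ y⁆ ∈ pCore p (↥H ⧸ pPrimeCore p ↥H) ⊓ (Y.subgroupOf H).map φ := by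
      refine Subgroup.mem_inf.mpr ⟨?_, ?_⟩
      · have h2 : ⁅φ s, φ y⁆ = φ s * (φ y * (φ s)⁻¹ * (φ y)⁻¹) := by
          rw [commutatorElement_def]; group
        rw [h2]
        exact Subgroup.mul_mem _ hr
          ((inferInstance : (pCore p (↥H ⧸ pPrimeCore p ↥H)).Normal).conj_mem _
            (Subgroup.inv_mem _ hr) _)
      · rw [← map_commutatorElement]
        refine Subgroup.mem_map_of_mem _ ?_
        rw [Subgroup.mem_subgroupOf]
        have h3 : ((⁅s, y⁆ : ↥H) : G) = (s : G) * y * (s : G)⁻¹ * (y : G)⁻¹ := by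
          rw [commutatorElement_def]; rfl
        rw [h3]
        exact Y.mul_mem ((Subgroup.mem_normalizer_iff.mp (hSY hsS) _).mp hyY) (Y.inv_mem hyY)
    rw [hinf, Subgroup.mem_bot] at h1
    exact commutatorElement_eq_one_iff_mul_comm.mp h1
  have hbot2 : (Y.subgroupOf H).map φ = ⊥ := by
    rw [eq_bot_iff, ← hinf]
    exact le_inf (hle.trans hcent) le_rfl
  have hYker : Y.subgroupOf H ≤ pPrimeCore p ↥H := by
    rw [← hker]
    exact (Subgroup.map_eq_bot_iff _).mp hbot2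
  intro y hy
  exact ⟨⟨y, hYH hy⟩, hYker (Subgroup.mem_subgroupOf.mpr hy), rfl⟩

/-! ### Puig's subgroup for Sylow subgroups of subgroups -/

omit [Finite G] in
theorem centerOf_le_upperIn (S : Subgroup G) : centerOf S ≤ upperIn S := by
  refine le_iInf (fun n => ?_)
  exact le_stepIn inf_le_left (centerOf_isMulCommutative S)
    ((seqIn_le S (2 * n)).trans (le_normalizer.trans (normalizer_le_normalizer_centerOf S)))

theorem centerOf_ne_bot {p : ℕ} [Fact p.Prime] {S : Subgroup G} (hS : IsPGroup p S)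
    (hS1 : S ≠ ⊥) : centerOf S ≠ ⊥ := by
  haveI : Nontrivial ↥S := (Subgroup.nontrivial_iff_ne_bot S).mpr hS1
  have h1 : Nontrivial (center ↥S) := hS.center_nontrivial
  rw [← map_center_subtype]
  intro h
  have h2 : center ↥S = ⊥ := by
    rw [eq_bot_iff]
    intro x hx
    have h3 : (S.subtype x) ∈ (center ↥S).map S.subtype := ⟨x, hx, rfl⟩
    rw [h, Subgroup.mem_bot] at h3
    exact Subgroup.mem_bot.mpr (Subtype.ext h3)
  exact (Subgroup.nontrivial_iff_ne_bot _).mp h1 h2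

theorem puig_ne_bot {p : ℕ} [Fact p.Prime] {S : Subgroup G} (hS : IsPGroup p S) (hS1 : S ≠ ⊥) :
    centerOf (upperIn S) ≠ ⊥ := by
  have h1 : upperIn S ≠ ⊥ := by
    intro h
    have h2 := centerOf_le_upperIn S
    rw [h, le_bot_iff] at h2
    exact centerOf_ne_bot hS hS1 h2
  exact centerOf_ne_bot (hS.to_le (upperIn_le S)) h1

omit [Finite G] in
theorem puig_le (S : Subgroup G) : centerOf (upperIn S) ≤ S := inf_le_left.trans (upperIn_le S)

/-- Puig's factorization for a proper subgroup `H` of a minimal simple group of odd order and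
a Sylow `p`-subgroup `S` of `H`: `H = O_{p'}(H) N_H(Z(L(S)))`. -/
theorem puig_factor (hG : IsMinSimpleOddOrder G) {p : ℕ} [Fact p.Prime] {S H : Subgroup G}
    (hH : H ≠ ⊤) (hS : IsSylowOf p S H) :
    ∀ h ∈ H, ∃ a ∈ Helper34.coreIn p H,
      ∃ n ∈ normalizer (centerOf (upperIn S) : Set G), h = a * n := by
  haveI := uq_isSolvable hG hH
  obtain ⟨P, hP⟩ := hS.exists_sylow
  have hfac := puig_factorization (G := ↥H) (uq_odd hG H) p P
  have hmap : (centerOf (upperIn (P : Subgroup ↥H))).map H.subtype = centerOf (upperIn S) := by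
    rw [map_centerOf H.subtype (le_top : upperIn (P : Subgroup ↥H) ≤ ⊤)
      (fun x _ y _ h => Subtype.ext h),
      map_upperIn H.subtype (fun x _ y _ h => Subtype.ext h), hP,
      Subgroup.map_subgroupOf_eq_of_le hS.1]
  intro h hh
  have hmem : (⟨h, hh⟩ : ↥H) ∈ pPrimeCore p ↥H ⊔
      normalizer (centerOf (upperIn (P : Subgroup ↥H)) : Set ↥H) := by
    rw [hfac]; exact Subgroup.mem_top _
  have hnorm : normalizer ((pPrimeCore p ↥H : Subgroup ↥H) : Set ↥H) = ⊤ :=
    Subgroup.normalizer_eq_top_iff.mpr inferInstance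
  obtain ⟨a, ha, n, hn, hmul⟩ := exists_mul_of_mem_sup_of_le_normalizer
    (N := pPrimeCore p ↥H) (A := normalizer (centerOf (upperIn (P : Subgroup ↥H)) : Set ↥H))
    (hnorm ▸ le_top) hmem
  refine ⟨a, ⟨a, ha, rfl⟩, n, ?_, congrArg Subtype.val hmul⟩
  rw [← hmap]
  apply Helper24.mem_normalizer_of_conj_mem
  · rintro _ ⟨z, hz, rfl⟩
    exact ⟨n * z * n⁻¹, (Subgroup.mem_normalizer_iff.mp hn z).mp hz, rfl⟩
  · rintro _ ⟨z, hz, rfl⟩
    refine ⟨n⁻¹ * z * n, ?_, rfl⟩
    have := (Subgroup.mem_normalizer_iff.mp (Subgroup.inv_mem _ hn) z).mp hz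
    simpa using this

/-! ### The maximal intersection argument -/

/-- Let `B ≠ 1` be a `p`-subgroup of the maximal subgroup `M`.  If `M` is the only maximal
subgroup containing any given Sylow `p`-subgroup of `M` that contains `B`, and `O_{p'}(H) ≤ M`
for every maximal subgroup `H ≥ B`, then `M` is the only maximal subgroup containing `B`. -/
theorem uq_step3 (hG : IsMinSimpleOddOrder G) {p : ℕ} [Fact p.Prime] {M B : Subgroup G}
    (hM : IsCoatom M) (hBM : B ≤ M) (hBp : IsPGroup p B) (hB1 : B ≠ ⊥)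
    (h1 : ∀ P : Subgroup G, IsSylowOf p P M → B ≤ P →
      ∀ H : Subgroup G, IsCoatom H → P ≤ H → H = M)
    (h2 : ∀ H : Subgroup G, IsCoatom H → B ≤ H → Helper34.coreIn p H ≤ M) :
    ∀ H : Subgroup G, IsCoatom H → B ≤ H → H = M := by
  have hsimple := hG.2.1
  by_contra hcon
  push Not at hcon
  obtain ⟨H₀, hH₀, hBH₀, hne₀⟩ := hcon
  obtain ⟨⟨H, S⟩, ⟨hH, hHM, hBS, hSHM, hSp⟩, hmax⟩ := Set.exists_max_image
    {x : Subgroup G × Subgroup G |
      IsCoatom x.1 ∧ x.1 ≠ M ∧ B ≤ x.2 ∧ x.2 ≤ x.1 ⊓ M ∧ IsPGroup p x.2}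
    (fun x => Nat.card x.2) (Set.toFinite _) ⟨(H₀, B), hH₀, hne₀, le_rfl, le_inf hBH₀ hBM, hBp⟩
  simp only at hH hHM hBS hSHM hSp
  have hS1 : S ≠ ⊥ := fun h => hB1 (le_bot_iff.mp (h ▸ hBS))
  have hSM : S ≤ M := hSHM.trans inf_le_right
  have hSH : S ≤ H := hSHM.trans inf_le_left
  have hStop : S ≠ ⊤ := fun h => hM.1 (top_le_iff.mp (h ▸ hSM))
  have hkey : ∀ (H' T : Subgroup G), IsCoatom H' → T ≤ H' ⊓ M → IsPGroup p T → S < T →
      H' = M := by
    intro H' T hH' hT hTp hlt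
    by_contra hne
    have := hmax (H', T) ⟨hH', hne, hBS.trans hlt.le, hT, hTp⟩
    exact absurd (card_lt_card_of_lt hlt) (not_lt.mpr this)
  obtain ⟨P, hP, hSP⟩ := exists_isSylowOf_ge hSp hSM
  have hSltP : S < P := by
    refine lt_of_le_of_ne hSP (fun h => ?_)
    subst h
    exact hHM (h1 S hP hBS H hH hSH)
  obtain ⟨x, hxP, hxN, hxS⟩ := exists_mem_normalizer_not_mem Fact.out hP.2.1 hSltP
  have hT₀p : IsPGroup p (P ⊓ normalizer (S : Set G) : Subgroup G) := hP.2.1.to_le inf_le_left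
  have hT₀lt : S < P ⊓ normalizer (S : Set G) := by
    refine lt_of_le_of_ne (le_inf hSP le_normalizer) (fun h => hxS ?_)
    rw [h]; exact Subgroup.mem_inf.mpr ⟨hxP, hxN⟩
  have hNS : normalizer (S : Set G) ≤ M := by
    obtain ⟨H₁, hH₁, hle⟩ := uq_exists_coatom_ge (normalizer_ne_top_of_simple hS1 hStop)
    have := hkey H₁ _ hH₁ (le_inf (inf_le_right.trans hle) (inf_le_left.trans hP.1)) hT₀p hT₀lt
    rwa [this] at hle
  have hSsyl : IsSylowOf p S H := by
    refine ⟨hSH, hSp, fun T hT hTp hle => ?_⟩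
    by_contra hne
    have hlt : S < T := lt_of_le_of_ne hle (Ne.symm hne)
    obtain ⟨y, hyT, hyN, hyS⟩ := exists_mem_normalizer_not_mem Fact.out hTp hlt
    have hlt' : S < T ⊓ normalizer (S : Set G) := by
      refine lt_of_le_of_ne (le_inf hle le_normalizer) (fun h => hyS ?_)
      rw [h]; exact Subgroup.mem_inf.mpr ⟨hyT, hyN⟩
    exact hHM (hkey H _ hH (le_inf (inf_le_left.trans hT) (inf_le_right.trans hNS))
      (hTp.to_le inf_le_left) hlt')
  have hZ1 := puig_ne_bot hSp hS1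
  have hZS := puig_le S
  have hZtop : centerOf (upperIn S) ≠ ⊤ := fun h => hStop (top_le_iff.mp (h ▸ hZS))
  have hNZ : normalizer (centerOf (upperIn S) : Set G) ≤ M := by
    obtain ⟨H₂, hH₂, hle⟩ := uq_exists_coatom_ge (normalizer_ne_top_of_simple hZ1 hZtop)
    have hNle := (normalizer_le_normalizer_center_upperIn S).trans hle
    have := hkey H₂ _ hH₂ (le_inf (inf_le_right.trans hNle) (inf_le_left.trans hP.1)) hT₀p hT₀lt
    rwa [this] at hle
  have hHleM : H ≤ M := by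
    intro h hh
    obtain ⟨a, ha, n, hn, rfl⟩ := puig_factor hG hH.1 hSsyl h hh
    exact M.mul_mem (h2 H hH (hBS.trans hSH) ha) (hNZ hn)
  exact hHM (uq_eq_of_coatom_le hH hM.1 hHleM).symm

/-! ### Invariant `p'`-subgroups -/

theorem mem_invSubgroups_of_coprime {p : ℕ} [Fact p.Prime] {B Y : Subgroup G}
    (hcop : (Nat.card Y).Coprime p) (hBY : B ≤ normalizer (Y : Set G)) :
    Y ∈ invSubgroups ⊤ B (primesNotDvd p) := by
  refine ⟨le_top, fun q hq hqY => ⟨hq, fun hqp => ?_⟩, hBY⟩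
  have hpp : p.Prime := Fact.out
  have h1 : q = p := (Nat.prime_dvd_prime_iff_eq hq hpp).mp hqp
  subst h1
  exact (Nat.Prime.coprime_iff_not_dvd hq).mp hcop.symm hqY

/-- If every `B`-invariant `p'`-subgroup of `G` lies in the maximal subgroup `M`, then the
normalizer of every Sylow `p`-subgroup of `M` containing `B` lies in `M`. -/
theorem uq_normalizer_sylow_le (hG : IsMinSimpleOddOrder G) {p : ℕ} [Fact p.Prime]
    {M B P : Subgroup G} (hM : IsCoatom M) (hB1 : B ≠ ⊥)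
    (hstar : ∀ Y ∈ invSubgroups ⊤ B (primesNotDvd p), Y ≤ M)
    (hP : IsSylowOf p P M) (hBP : B ≤ P) : normalizer (P : Set G) ≤ M := by
  have hMsolv := uq_isSolvable hG hM.1
  have hP1 : P ≠ ⊥ := fun h => hB1 (le_bot_iff.mp (h ▸ hBP))
  by_cases hL : Helper34.coreIn p M = ⊥
  · have hZ1 := puig_ne_bot hP.2.1 hP1
    have hMZ : M ≤ normalizer (centerOf (upperIn P) : Set G) := by
      intro m hm
      obtain ⟨a, ha, n, hn, rfl⟩ := puig_factor hG hM.1 hP m hm
      rw [hL, Subgroup.mem_bot] at ha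
      rw [ha, one_mul]; exact hn
    have hNZ := uq_normalizer_eq hG hM hZ1 ((puig_le P).trans hP.1) hMZ
    exact (normalizer_le_normalizer_center_upperIn P).trans hNZ.le
  · have hNL := uq_normalizer_eq hG hM hL (Helper34.coreIn_le p M) (uq_le_normalizer_coreIn p M)
    intro x hx
    have hLcop := Helper34.card_coreIn_coprime p M
    have hLinv : Helper34.coreIn p M ∈ invSubgroups ⊤ P (primesNotDvd p) :=
      mem_invSubgroups_of_coprime hLcop (hP.1.trans (uq_le_normalizer_coreIn p M))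
    have hconj := conj_mem_invSubgroups hx hLinv
    have hcard : Nat.card (MulAut.conj x • Helper34.coreIn p M : Subgroup G) =
        Nat.card (Helper34.coreIn p M) := card_conj_smul x _
    have hcop' : (Nat.card (MulAut.conj x • Helper34.coreIn p M : Subgroup G)).Coprime p := by
      rw [hcard]; exact hLcop
    have hleM : MulAut.conj x • Helper34.coreIn p M ≤ M :=
      hstar _ (mem_invSubgroups_of_coprime hcop' (hBP.trans hconj.2.2))
    have hle : MulAut.conj x • Helper34.coreIn p M ≤ Helper34.coreIn p M :=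
      le_coreIn_of_isSylowOf hMsolv hP hleM hcop' hconj.2.2
    have heq : MulAut.conj x • Helper34.coreIn p M = Helper34.coreIn p M :=
      Subgroup.eq_of_le_of_card_ge hle hcard.ge
    rw [← hNL]
    exact mem_normalizer_iff_conj_smul_eq.mpr heq

/-! ### Subgroups of `p`-rank at most two -/

/-- The `p`-rank of a group is that of its Sylow `p`-subgroups. -/
theorem pRankLE_of_isSylowOf {p : ℕ} [Fact p.Prime] {P H : Subgroup G} (hP : IsSylowOf p P H)
    (hr : PRankLE p 2 ↥P) : PRankLE p 2 ↥H := by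
  obtain ⟨P', hP'⟩ := hP.exists_sylow
  intro B' hBc hBp
  have hBpg : IsPGroup p B' := fun b => ⟨1, by
    rw [pow_one]
    exact Subtype.ext (by simpa using hBp b b.2)⟩
  obtain ⟨Q, hQ⟩ := hBpg.exists_le_sylow
  obtain ⟨g, hg⟩ := MulAction.exists_smul_eq ↥H Q P'
  have h1 : ∀ b ∈ B', g * b * g⁻¹ ∈ (P' : Subgroup ↥H) := by
    intro b hb
    rw [← hg, Sylow.coe_subgroup_smul, mem_conj_smul]
    have h2 : g⁻¹ * (g * b * g⁻¹) * g = b := by group
    rw [h2]
    exact hQ hb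
  obtain ⟨f, hf⟩ : ∃ f : ↥H →* G, f = H.subtype.comp (MulAut.conj g).toMonoidHom := ⟨_, rfl⟩
  have hfinj : Function.Injective f := by
    rw [hf]
    exact H.subtype_injective.comp (MulAut.conj g).injective
  have hfP : ∀ b ∈ B', f b ∈ P := by
    intro b hb
    have h2 := h1 b hb
    rw [hP', Subgroup.mem_subgroupOf] at h2
    rw [hf]
    exact h2
  have hcard : Nat.card (B'.map f) ≤ p ^ 2 := by
    refine pRank_internal hr (B'.map f) ?_ ?_ ?_
    · rintro _ ⟨b, hb, rfl⟩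
      exact hfP b hb
    · rintro _ ⟨b, hb, rfl⟩ _ ⟨c, hc, rfl⟩
      rw [← map_mul, ← map_mul]
      have := hBc.is_comm.comm (⟨b, hb⟩ : B') ⟨c, hc⟩
      exact congrArg (fun z : B' => f (z : ↥H)) this
    · rintro _ ⟨b, hb, rfl⟩
      rw [← map_pow, hBp b hb, map_one]
  rwa [Subgroup.card_map_of_injective hfinj] at hcard

/-- A proper subgroup `H` of `p`-rank at most two of a minimal simple group of odd order
factorizes as `H = P O_{p'}(H) N_H(P)` for a Sylow `p`-subgroup `P` of `H`. -/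
theorem uq_factor_of_rank2 (hG : IsMinSimpleOddOrder G) {p : ℕ} [Fact p.Prime] (hp2 : p ≠ 2)
    {P H : Subgroup G} (hH : H ≠ ⊤) (hP : IsSylowOf p P H) (hr : PRankLE p 2 ↥P) :
    ∀ h ∈ H, ∃ s ∈ P, ∃ a ∈ Helper34.coreIn p H, ∃ n ∈ normalizer (P : Set G),
      h = s * a * n := by
  haveI := uq_isSolvable hG hH
  obtain ⟨P', hP'⟩ := hP.exists_sylow
  have hrH := pRankLE_of_isSylowOf hP hr
  obtain ⟨hcomm, -⟩ := rank2_solvable p hp2 (G := ↥H) (uq_odd hG H) hrH
  obtain ⟨φ, hφdef⟩ : ∃ φ : ↥H →* ↥H ⧸ pPrimeCore p ↥H, φ = QuotientGroup.mk' (pPrimeCore p ↥H) :=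
    ⟨_, rfl⟩
  have hφ : Function.Surjective φ := by rw [hφdef]; exact QuotientGroup.mk'_surjective _
  have hker : ∀ x y : ↥H, φ x = φ y → x⁻¹ * y ∈ pPrimeCore p ↥H := by
    intro x y h
    rw [hφdef] at h
    exact QuotientGroup.eq.mp h
  have hRS : pCore p (↥H ⧸ pPrimeCore p ↥H) ≤ (P' : Subgroup ↥H).map φ := by
    have := Helper11.pCore_le_sylow (P'.mapSurjective hφ)
    rwa [Sylow.coe_mapSurjective] at this
  have hnorm : ((P' : Subgroup ↥H).map φ).Normal := normal_of_commutator_le (hcomm.trans hRS)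
  have hNn : (((P' : Subgroup ↥H).map φ).comap φ).Normal := hnorm.comap φ
  have hfr := Sylow.normalizer_sup_eq_top' P' (Subgroup.le_comap_map φ (P' : Subgroup ↥H))
  intro h hh
  have hmem : (⟨h, hh⟩ : ↥H) ∈ ((P' : Subgroup ↥H).map φ).comap φ ⊔
      normalizer ((P' : Subgroup ↥H) : Set ↥H) := by
    have h0 : (⟨h, hh⟩ : ↥H) ∈ (⊤ : Subgroup ↥H) := Subgroup.mem_top _
    rw [← hfr, sup_comm] at h0
    exact h0
  have hnorm2 : normalizer ((((P' : Subgroup ↥H).map φ).comap φ : Subgroup ↥H) : Set ↥H) = ⊤ :=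
    Subgroup.normalizer_eq_top_iff.mpr hNn
  obtain ⟨m, hm, n, hn, hmul⟩ := exists_mul_of_mem_sup_of_le_normalizer
    (N := ((P' : Subgroup ↥H).map φ).comap φ) (A := normalizer ((P' : Subgroup ↥H) : Set ↥H))
    (hnorm2 ▸ le_top) hmem
  obtain ⟨s, hs, hsm⟩ := Subgroup.mem_comap.mp hm
  have ha := hker s m hsm
  refine ⟨s, ?_, ((s⁻¹ * m : ↥H) : G), ⟨_, ha, rfl⟩, n, ?_, ?_⟩
  · have hs' : s ∈ (P' : Subgroup ↥H) := hs
    rw [hP'] at hs'
    exact Subgroup.mem_subgroupOf.mp hs'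
  · have hn' : n ∈ normalizer (((P' : Subgroup ↥H) : Subgroup ↥H) : Set ↥H) := hn
    rw [hP'] at hn'
    replace hn := hn'
    apply Helper24.mem_normalizer_of_conj_mem
    · intro x hx
      have := (Subgroup.mem_normalizer_iff.mp hn ⟨x, hP.1 hx⟩).mp (Subgroup.mem_subgroupOf.mpr hx)
      exact Subgroup.mem_subgroupOf.mp this
    · intro x hx
      have := (Subgroup.mem_normalizer_iff.mp (Subgroup.inv_mem _ hn) ⟨x, hP.1 hx⟩).mp
        (Subgroup.mem_subgroupOf.mpr hx)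
      have h2 := Subgroup.mem_subgroupOf.mp this
      simpa using h2
  · have h3 : (⟨h, hh⟩ : ↥H) = s * (s⁻¹ * m) * n := by rw [hmul]; group
    exact congrArg Subtype.val h3

end Cfsg.Agent.Helper23
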