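/-
helper23: the uniqueness theorem of Bender–Glauberman, Theorem 9.1, in a minimal simple group
of odd order: a noncyclic elementary abelian `p`-subgroup `B` of a maximal subgroup `M` such
that every `B`-invariant `p'`-subgroup lies in `M` is contained in no other maximal subgroup.
Everything lives in `Cfsg.Agent.Helper23`.
-/
import Cfsg.Agent.Helper23.Uniq
import Cfsg.Agent.Helper23.BG76
import Cfsg.Agent.S1452
import Cfsg.Agent.S1457
import Cfsg.Agent.S3745
import Cfsg.Agent.Helper21.PRank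
import Cfsg.Agent.Helper1.Gen
import Cfsg.Agent.Helper34.PCons1

set_option autoImplicit false

namespace Cfsg.Agent.Helper23

open Cfsg Subgroup Cfsg.Agent.Helper35
open scoped commutatorElement Pointwise

universe u

variable {G : Type u} [Group G] [Finite G]

/-! ### Self-centralizing normal subgroups of rank three -/

omit [Finite G] in
theorem coe_mem_normalizer_map {H : Subgroup G} {X : Subgroup ↥H} {n : ↥H}
    (hn : n ∈ normalizer (X : Set ↥H)) : (n : G) ∈ normalizer (X.map H.subtype : Set G) := by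
  apply Helper24.mem_normalizer_of_conj_mem
  · rintro _ ⟨z, hz, rfl⟩
    exact ⟨n * z * n⁻¹, (Subgroup.mem_normalizer_iff.mp hn z).mp hz, rfl⟩
  · rintro _ ⟨z, hz, rfl⟩
    refine ⟨n⁻¹ * z * n, ?_, rfl⟩
    have := (Subgroup.mem_normalizer_iff.mp (Subgroup.inv_mem _ hn) z).mp hz
    simpa using this

theorem not_isCyclic_of_not_pRankLE {p : ℕ} [Fact p.Prime] {P : Subgroup G}
    (hr : ¬ PRankLE p 2 ↥P) : ¬ IsCyclic ↥P := by
  have hpp : p.Prime := Fact.out
  intro hc
  apply hr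
  intro E hE hEe
  haveI : IsCyclic E := inferInstance
  obtain ⟨e, he⟩ := IsCyclic.exists_generator (α := E)
  have h1 : orderOf e = Nat.card E := orderOf_eq_card_of_forall_mem_zpowers he
  have h2 : e ^ p = 1 := Subtype.ext (by simpa using hEe e e.2)
  have h3 : orderOf e ≤ p := Nat.le_of_dvd hpp.pos (orderOf_dvd_of_pow_eq_one h2)
  have := hpp.two_le
  nlinarith

/-- A `p`-group of rank at least three, `p` odd, has a self-centralizing normal subgroup of rank
at least three. -/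
theorem exists_isSCN_rank3 {p : ℕ} [Fact p.Prime] (hp2 : p ≠ 2) {P : Subgroup G}
    (hP : IsPGroup p P) (hr : ¬ PRankLE p 2 ↥P) :
    ∃ A : Subgroup G, IsSCN P A ∧ ¬ PRankLE p 2 ↥A := by
  have hnc := not_isCyclic_of_not_pRankLE hr
  obtain ⟨V, hVn, hV, hVc⟩ := Cfsg.Agent.S0126.result hp2 hP hnc
  haveI := hVn
  obtain ⟨A', -, hAn, hAc, hAr⟩ := Cfsg.Agent.S1452.result p hp2 hP hr V hV hVc
  refine ⟨A'.map P.subtype, ⟨Subgroup.map_subtype_le _, ?_, ?_⟩,
    Helper21.not_pRankLE_map P.subtype P.subtype_injective hAr⟩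
  · intro x hx
    have h1 : (⟨x, hx⟩ : ↥P) ∈ normalizer (A' : Set ↥P) := by
      rw [Subgroup.normalizer_eq_top_iff.mpr hAn]; exact Subgroup.mem_top _
    exact coe_mem_normalizer_map h1
  · ext x
    constructor
    · rintro ⟨hxP, hxc⟩
      have h1 : (⟨x, hxP⟩ : ↥P) ∈ centralizer (A' : Set ↥P) := by
        rw [Subgroup.mem_centralizer_iff]
        intro a ha
        exact Subtype.ext (Subgroup.mem_centralizer_iff.mp hxc a ⟨a, ha, rfl⟩)
      rw [hAc] at h1
      exact ⟨_, h1, rfl⟩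
    · rintro ⟨a, ha, rfl⟩
      have h1 : a ∈ centralizer (A' : Set ↥P) := by rw [hAc]; exact ha
      refine ⟨a.2, Subgroup.mem_centralizer_iff.mpr ?_⟩
      rintro _ ⟨b, hb, rfl⟩
      exact congrArg Subtype.val (Subgroup.mem_centralizer_iff.mp h1 b hb)

/-! ### Invariant `p'`-subgroups under the transitivity hypothesis -/

theorem dvd_card_of_isPGroup_ne_bot {p : ℕ} [Fact p.Prime] {A : Subgroup G}
    (hAp : IsPGroup p A) (hA1 : A ≠ ⊥) : p ∣ Nat.card A := by
  obtain ⟨n, hn⟩ := hAp.exists_card_eq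
  rcases Nat.eq_zero_or_pos n with h0 | h0
  · exfalso
    rw [h0, pow_zero] at hn
    exact hA1 (Subgroup.card_eq_one.mp hn)
  · rw [hn]; exact dvd_pow_self p h0.ne'

theorem not_dvd_card_of_isPGroup {p q : ℕ} [Fact p.Prime] {A : Subgroup G}
    (hAp : IsPGroup p A) (hq : q.Prime) (hqp : q ≠ p) : ¬ q ∣ Nat.card A := by
  have hpp : p.Prime := Fact.out
  obtain ⟨n, hn⟩ := hAp.exists_card_eq
  rw [hn]
  intro h
  exact hqp ((Nat.prime_dvd_prime_iff_eq hq hpp).mp (hq.dvd_of_dvd_pow h))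

/-- Under the transitivity hypothesis for the `p`-group `A`, every `A`-invariant `p'`-subgroup
of a proper subgroup `X ≥ A` lies in `O_{p'}(X)`. -/
theorem le_coreIn_of_TH {p : ℕ} [Fact p.Prime] {A X Y : Subgroup G}
    (hTH : TransitivityHypothesis A) (hAp : IsPGroup p A) (hX : X ≠ ⊤) (hAX : A ≤ X)
    (hYX : Y ≤ X) (hcop : (Nat.card Y).Coprime p) (hAY : A ≤ normalizer (Y : Set G)) :
    Y ≤ Helper34.coreIn p X := by
  have hpp : p.Prime := Fact.out
  have hpA := dvd_card_of_isPGroup_ne_bot hAp hTH.1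
  have h1 : Y ∈ invSubgroups X A (primesNotDvd (Nat.card A)) := by
    refine ⟨hYX, fun q hq hqY => ⟨hq, ?_⟩, hAY⟩
    apply not_dvd_card_of_isPGroup hAp hq
    rintro rfl
    exact (Nat.Prime.coprime_iff_not_dvd hq).mp hcop.symm hqY
  have h2 : Y ≤ piCoreOf (primesNotDvd (Nat.card A)) X := by
    rw [← hTH.2.2 X hX hAX]
    exact le_sSup h1
  refine h2.trans (uq_le_coreIn (piCoreOf_le _ _) (le_normalizer_piCoreOf _ _) ?_)
  refine Nat.Coprime.symm ((Nat.Prime.coprime_iff_not_dvd hpp).mpr (fun hdvd => ?_))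
  exact (mem_of_dvd_card_piCoreOf _ X hpp hdvd).2 hpA

/-- If every maximal `A`-invariant `q`-subgroup, `q ≠ p`, lies in `M`, then so does every
`A`-invariant `p'`-subgroup. -/
theorem le_of_maxInv_le (hG : IsMinSimpleOddOrder G) {p : ℕ} [Fact p.Prime] {A M Y : Subgroup G}
    (hAp : IsPGroup p A) (hA1 : A ≠ ⊥)
    (hmax : ∀ q : ℕ, q.Prime → q ≠ p → ∀ Q ∈ maxInvSubgroups ⊤ A {q}, Q ≤ M)
    (hcop : (Nat.card Y).Coprime p) (hAY : A ≤ normalizer (Y : Set G)) : Y ≤ M := by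
  have hpp : p.Prime := Fact.out
  have hpA := dvd_card_of_isPGroup_ne_bot hAp hA1
  have hYtop : Y ≠ ⊤ := by
    rintro rfl
    have h1 : p ∣ Nat.card (⊤ : Subgroup G) := by
      rw [Subgroup.card_top]
      exact hpA.trans (Subgroup.card_subgroup_dvd_card A)
    exact (Nat.Prime.coprime_iff_not_dvd hpp).mp hcop.symm h1
  have hYsolv := uq_isSolvable hG hYtop
  have hcopA : (Nat.card A).Coprime (Nat.card Y) := by
    obtain ⟨n, hn⟩ := hAp.exists_card_eq
    rw [hn]; exact Nat.Coprime.pow_left n hcop.symm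
  by_contra hYM
  have h1 : M.relIndex Y ≠ 1 := fun h => hYM (Subgroup.relIndex_eq_one.mp h)
  obtain ⟨q, hq, hqd⟩ := Nat.exists_prime_and_dvd h1
  have hqY : q ∣ Nat.card Y := hqd.trans (Subgroup.relIndex_dvd_card M Y)
  have hqp : q ≠ p := by
    rintro rfl
    exact (Nat.Prime.coprime_iff_not_dvd hq).mp hcop.symm hqY
  obtain ⟨⟨Yq, hYq, hAYq⟩, -, -⟩ := Cfsg.Agent.S3745.result A Y hAY hcopA hYsolv {q}
  have hinv : Yq ∈ invSubgroups ⊤ A {q} := ⟨le_top, hYq.2.1, hAYq⟩
  obtain ⟨Q, hQ, hYqQ⟩ := exists_maxInv_ge hinv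
  have hYqM : Yq ≤ M := hYqQ.trans (hmax q hq hqp Q hQ)
  have h2 : M.relIndex Y ∣ Yq.relIndex Y := by
    rw [← Subgroup.inf_relIndex_right M Y]
    exact Subgroup.relIndex_dvd_of_le_left Y (le_inf hYqM hYq.1)
  exact hYq.2.2 q hq rfl (hqd.trans h2)

/-! ### The case of rank at least three -/

theorem coprime_of_forall_dvd_singleton {p q : ℕ} [Fact p.Prime] {Q : Subgroup G} (hqp : q ≠ p)
    (h : ∀ r : ℕ, r.Prime → r ∣ Nat.card Q → r ∈ ({q} : Set ℕ)) : (Nat.card Q).Coprime p := by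
  have hpp : p.Prime := Fact.out
  refine Nat.Coprime.symm ((Nat.Prime.coprime_iff_not_dvd hpp).mpr (fun hdvd => ?_))
  exact hqp (h p hpp hdvd).symm

/-- Let `L = O_{p'}(M) ≠ 1`, let `P` be a Sylow `p`-subgroup of `G` of rank at least three
contained in `M`, and suppose every `B`-invariant `p'`-subgroup lies in `M`, where `1 ≠ B ≤ P`.
Then every maximal subgroup containing `P` lies in `M`. -/
theorem uq_le_of_rank3 (hG : IsMinSimpleOddOrder G) {p : ℕ} [Fact p.Prime] (hp2 : p ≠ 2)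
    {M B P H : Subgroup G} (hM : IsCoatom M)
    (hstar : ∀ Y ∈ invSubgroups ⊤ B (primesNotDvd p), Y ≤ M)
    (hL : Helper34.coreIn p M ≠ ⊥)
    (hPM : P ≤ M) (hPsyl : IsSylowOf p P ⊤) (hBP : B ≤ P) (hr : ¬ PRankLE p 2 ↥P)
    (hH : IsCoatom H) (hPH : P ≤ H) : H ≤ M := by
  have hpp : p.Prime := Fact.out
  have hsimple := hG.2.1
  obtain ⟨P', hP'⟩ := hPsyl.exists_sylow_top
  obtain ⟨A, hSCN, hAr⟩ := exists_isSCN_rank3 hp2 hPsyl.2.1 hr
  have hAP : A ≤ P := hSCN.1
  have hAp : IsPGroup p A := hPsyl.2.1.to_le hAP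
  have hAcent : A ≤ centralizer (A : Set G) := by
    intro a ha
    have h1 : a ∈ P ⊓ centralizer (A : Set G) := by rw [hSCN.2.2]; exact ha
    exact h1.2
  have hAc : IsMulCommutative A :=
    ⟨⟨fun a b => Subtype.ext (Subgroup.mem_centralizer_iff.mp (hAcent b.2) a a.2)⟩⟩
  have hA1 : A ≠ ⊥ := by
    rintro rfl
    apply hAr
    intro E _ _
    have h1 : Nat.card E = 1 := by
      haveI : Subsingleton (↥(⊥ : Subgroup G)) := inferInstance
      haveI : Subsingleton ↥E := inferInstance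
      exact Nat.card_unique
    rw [h1]
    exact Nat.one_le_pow _ _ hpp.pos
  have hpA := dvd_card_of_isPGroup_ne_bot hAp hA1
  have hpG : p ∣ Nat.card G := hpA.trans (Subgroup.card_subgroup_dvd_card A)
  have hAr1 : ¬ PRankLE p 1 ↥A := by
    intro h
    apply hAr
    intro E hE hEe
    exact (h E hE hEe).trans (Nat.pow_le_pow_right hpp.pos (by norm_num))
  have hTH : TransitivityHypothesis A :=
    transitivityHypothesis_criteria hG p hpG A hAp hAc
      (Or.inr ⟨P', by rw [hP']; exact hSCN, hAr1⟩)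
  have hK₀cop : (Nat.card (piCoreOf (primesNotDvd (Nat.card A))
      (centralizer (A : Set G)))).Coprime p := by
    refine Nat.Coprime.symm ((Nat.Prime.coprime_iff_not_dvd hpp).mpr (fun hdvd => ?_))
    exact (mem_of_dvd_card_piCoreOf _ _ hpp hdvd).2 hpA
  have hK₀M : piCoreOf (primesNotDvd (Nat.card A)) (centralizer (A : Set G)) ≤ M :=
    hstar _ (mem_invSubgroups_of_coprime hK₀cop
      (hBP.trans (hSCN.2.1.trans (normalizer_le_normalizer_piCoreOf_centralizer hG hTH))))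
  have hZ : ¬ RankLE 2 ↥(A ⊓ centralizer (A : Set G)) := by
    intro h
    exact hAr (pRankLE_of_le (le_inf le_rfl hAcent) (h p hpp))
  have hPπ : ∀ r : ℕ, r.Prime → r ∣ Nat.card P → r ∣ Nat.card A := by
    intro r hr' hrP
    by_contra hrA
    have hrp : r ≠ p := by rintro rfl; exact hrA hpA
    exact not_dvd_card_of_isPGroup hPsyl.2.1 hr' hrp hrP
  have hmaxM : ∀ q : ℕ, q.Prime → q ≠ p → ∀ Q ∈ maxInvSubgroups ⊤ A {q}, Q ≤ M := by
    intro q hq hqp Q hQ
    have hqA := not_dvd_card_of_isPGroup hAp hq hqp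
    have htr := trans_of_rank_three hG hTH hZ hq hqA
    have hsub := maxInv_subset_of_normal hG hTH hq hqA hPπ hAP hSCN.2.1 htr
    have hbot : (⊥ : Subgroup G) ∈ invSubgroups ⊤ P {q} := by
      refine ⟨le_top, fun r hr' hrd => ?_, ?_⟩
      · rw [Subgroup.card_bot] at hrd
        exact absurd (Nat.dvd_one.mp hrd) hr'.one_lt.ne'
      · intro x _
        rw [Subgroup.mem_normalizer_iff]
        intro y
        simp
    obtain ⟨Q₀, hQ₀, -⟩ := exists_maxInv_ge hbot
    have hQ₀M : Q₀ ≤ M :=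
      hstar _ (mem_invSubgroups_of_coprime (coprime_of_forall_dvd_singleton hqp hQ₀.1.2.1)
        (hBP.trans hQ₀.1.2.2))
    obtain ⟨k, hk, rfl⟩ := htr Q₀ (hsub hQ₀) Q hQ
    intro x hx
    rw [mem_conj_smul] at hx
    have h1 : x = k * (k⁻¹ * x * k) * k⁻¹ := by group
    rw [h1]
    exact M.mul_mem (M.mul_mem (hK₀M hk) (hQ₀M hx)) (M.inv_mem (hK₀M hk))
  have hinvM : ∀ Y : Subgroup G, (Nat.card Y).Coprime p → A ≤ normalizer (Y : Set G) → Y ≤ M :=
    fun Y hc hn => le_of_maxInv_le hG hAp hA1 hmaxM hc hn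
  have hNL := uq_normalizer_eq hG hM hL (Helper34.coreIn_le p M) (uq_le_normalizer_coreIn p M)
  have hLcop := Helper34.card_coreIn_coprime p M
  have hN : ∀ P₁ : Subgroup G, A ≤ P₁ → P₁ ≤ P → normalizer (P₁ : Set G) ≤ M := by
    intro P₁ hAP₁ hP₁P x hx
    have hLinv : Helper34.coreIn p M ∈ invSubgroups ⊤ P₁ (primesNotDvd p) :=
      mem_invSubgroups_of_coprime hLcop
        (hP₁P.trans (hPM.trans (uq_le_normalizer_coreIn p M)))
    have hconj := conj_mem_invSubgroups hx hLinv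
    have hcard : Nat.card (MulAut.conj x • Helper34.coreIn p M : Subgroup G) =
        Nat.card (Helper34.coreIn p M) := card_conj_smul x _
    have hcop' : (Nat.card (MulAut.conj x • Helper34.coreIn p M : Subgroup G)).Coprime p := by
      rw [hcard]; exact hLcop
    have hleM : MulAut.conj x • Helper34.coreIn p M ≤ M :=
      hinvM _ hcop' (hAP₁.trans hconj.2.2)
    have hle : MulAut.conj x • Helper34.coreIn p M ≤ Helper34.coreIn p M :=
      le_coreIn_of_TH hTH hAp hM.1 (hAP.trans hPM) hleM hcop' (hAP₁.trans hconj.2.2)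
    have heq : MulAut.conj x • Helper34.coreIn p M = Helper34.coreIn p M :=
      Subgroup.eq_of_le_of_card_ge hle hcard.ge
    rw [← hNL]
    exact mem_normalizer_iff_conj_smul_eq.mpr heq
  -- the maximal subgroup `H`
  haveI := uq_isSolvable hG hH.1
  have hPH' : IsSylowOf p P H := hPsyl.of_le hPH le_top
  obtain ⟨PH, hPHeq⟩ := hPH'.exists_sylow
  have hmemPH : ∀ x : ↥H, x ∈ (PH : Subgroup ↥H) ↔ (x : G) ∈ P := by
    intro x
    rw [hPHeq, Subgroup.mem_subgroupOf]
  have hle : A.subgroupOf H ≤ (PH : Subgroup ↥H) := by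
    intro x hx
    exact (hmemPH x).mpr (hAP (Subgroup.mem_subgroupOf.mp hx))
  have hcomm : IsMulCommutative ↥(A.subgroupOf H) :=
    ⟨⟨fun a b => Subtype.ext (Subtype.ext
      (Subgroup.mem_centralizer_iff.mp (hAcent (Subgroup.mem_subgroupOf.mp b.2)) _
        (Subgroup.mem_subgroupOf.mp a.2)))⟩⟩
  have hnorm : (PH : Subgroup ↥H) ≤ normalizer ((A.subgroupOf H : Subgroup ↥H) : Set ↥H) := by
    rw [hPHeq]
    exact subgroupOf_le_normalizer_subgroupOf hSCN.2.1
  have hAK : A.subgroupOf H ≤ pPrimePCore p ↥H :=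
    Cfsg.Agent.S1457.result (uq_odd hG H) p PH (A.subgroupOf H) hle hcomm hnorm
  haveI := Helper34.pPrimePCore_normal' p ↥H
  have hcoreH : Helper34.coreIn p H ≤ M :=
    hinvM _ (Helper34.card_coreIn_coprime p H)
      ((hAP.trans hPH).trans (uq_le_normalizer_coreIn p H))
  obtain ⟨φ, hφdef⟩ : ∃ φ : ↥H →* ↥H ⧸ pPrimeCore p ↥H, φ = QuotientGroup.mk' (pPrimeCore p ↥H) :=
    ⟨_, rfl⟩
  have hφ : Function.Surjective φ := by rw [hφdef]; exact QuotientGroup.mk'_surjective _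
  have hker : ∀ x y : ↥H, φ x = φ y → x⁻¹ * y ∈ pPrimeCore p ↥H := by
    intro x y h
    rw [hφdef] at h
    exact QuotientGroup.eq.mp h
  have hRS : pCore p (↥H ⧸ pPrimeCore p ↥H) ≤ (PH : Subgroup ↥H).map φ := by
    have := Helper11.pCore_le_sylow (PH.mapSurjective hφ)
    rwa [Sylow.coe_mapSurjective] at this
  intro h hh
  obtain ⟨l, hl, n, hn, hmul⟩ := Helper11.frattini_inf PH (pPrimePCore p ↥H) ⟨h, hh⟩
  have hnM : (n : G) ∈ M := by
    apply hN (((PH : Subgroup ↥H) ⊓ pPrimePCore p ↥H).map H.subtype) ?_ ?_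
      (coe_mem_normalizer_map hn)
    · intro a ha
      have haH : a ∈ H := hPH (hAP ha)
      have h1 : (⟨a, haH⟩ : ↥H) ∈ A.subgroupOf H := Subgroup.mem_subgroupOf.mpr ha
      exact ⟨⟨a, haH⟩, ⟨hle h1, hAK h1⟩, rfl⟩
    · rintro _ ⟨x, hx, rfl⟩
      exact (hmemPH x).mp hx.1
  have hlM : (l : G) ∈ M := by
    have h1 : φ l ∈ pCore p (↥H ⧸ pPrimeCore p ↥H) := by
      rw [hφdef]
      exact hl
    obtain ⟨s, hs, hsl⟩ := hRS h1
    have h2 := hker s l hsl
    have h3 : ((s⁻¹ * l : ↥H) : G) ∈ Helper34.coreIn p H := ⟨_, h2, rfl⟩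
    have h4 : (l : G) = (s : G) * ((s⁻¹ * l : ↥H) : G) := by
      push_cast
      group
    rw [h4]
    exact M.mul_mem (hPM ((hmemPH s).mp hs)) (hcoreH h3)
  have h5 : h = (l : G) * (n : G) := congrArg Subtype.val hmul
  rw [h5]
  exact M.mul_mem hlM hnM

/-! ### Bender–Glauberman, Theorem 9.1 -/

/-- If every `B`-invariant `p'`-subgroup lies in the maximal subgroup `M`, then `M` is the only
maximal subgroup containing a given Sylow `p`-subgroup of `M` that contains `B`. -/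
theorem uq_sylow_unique (hG : IsMinSimpleOddOrder G) {p : ℕ} [Fact p.Prime]
    {M B P : Subgroup G} (hM : IsCoatom M) (hBp : IsPGroup p B) (hB1 : B ≠ ⊥)
    (hstar : ∀ Y ∈ invSubgroups ⊤ B (primesNotDvd p), Y ≤ M)
    (hP : IsSylowOf p P M) (hBP : B ≤ P) :
    ∀ H : Subgroup G, IsCoatom H → P ≤ H → H = M := by
  intro H hH hPH
  have hpp : p.Prime := Fact.out
  have hp2 : p ≠ 2 := by
    rintro rfl
    have h1 : 2 ∣ Nat.card G :=
      (dvd_card_of_isPGroup_ne_bot hBp hB1).trans (Subgroup.card_subgroup_dvd_card B)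
    exact (Nat.not_even_iff_odd.mpr hG.1) (even_iff_two_dvd.mpr h1)
  have hNP := uq_normalizer_sylow_le hG hM hB1 hstar hP hBP
  have hPtop : IsSylowOf p P ⊤ := hP.of_normalizer_inf_le le_top (inf_le_left.trans hNP)
  have hPH' : IsSylowOf p P H := hPtop.of_le hPH le_top
  have hcoreH : Helper34.coreIn p H ≤ M :=
    hstar _ (mem_invSubgroups_of_coprime (Helper34.card_coreIn_coprime p H)
      ((hBP.trans hPH).trans (uq_le_normalizer_coreIn p H)))
  suffices hle : H ≤ M from (uq_eq_of_coatom_le hH hM.1 hle).symm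
  have hP1 : P ≠ ⊥ := fun h => hB1 (le_bot_iff.mp (h ▸ hBP))
  by_cases hL : Helper34.coreIn p M = ⊥
  · have hZ1 := puig_ne_bot hP.2.1 hP1
    have hMZ : M ≤ normalizer (centerOf (upperIn P) : Set G) := by
      intro m hm
      obtain ⟨a, ha, n, hn, rfl⟩ := puig_factor hG hM.1 hP m hm
      rw [hL, Subgroup.mem_bot] at ha
      rw [ha, one_mul]; exact hn
    have hNZ := uq_normalizer_eq hG hM hZ1 ((puig_le P).trans hP.1) hMZ
    intro h hh
    obtain ⟨a, ha, n, hn, rfl⟩ := puig_factor hG hH.1 hPH' h hh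
    exact M.mul_mem (hcoreH ha) (hNZ.le hn)
  · by_cases hr : PRankLE p 2 ↥P
    · intro h hh
      obtain ⟨s, hs, a, ha, n, hn, rfl⟩ := uq_factor_of_rank2 hG hp2 hH.1 hPH' hr h hh
      exact M.mul_mem (M.mul_mem (hP.1 hs) (hcoreH ha)) (hNP hn)
    · exact uq_le_of_rank3 hG hp2 hM hstar hL hP.1 hPtop hBP hr hH hPH

/-- **Bender–Glauberman, Theorem 9.1(b)**: if `B ≠ 1` is a `p`-subgroup of the maximal subgroup
`M` and every `B`-invariant `p'`-subgroup lies in `M`, then `M` is the only maximal subgroup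
containing `B`. -/
theorem uq_of_star (hG : IsMinSimpleOddOrder G) {p : ℕ} [Fact p.Prime]
    {M B : Subgroup G} (hM : IsCoatom M) (hBM : B ≤ M) (hBp : IsPGroup p B) (hB1 : B ≠ ⊥)
    (hstar : ∀ Y ∈ invSubgroups ⊤ B (primesNotDvd p), Y ≤ M) :
    ∀ H : Subgroup G, IsCoatom H → B ≤ H → H = M :=
  uq_step3 hG hM hBM hBp hB1 (fun _ hP hBP => uq_sylow_unique hG hM hBp hB1 hstar hP hBP)
    (fun H _ hBH => hstar _ (mem_invSubgroups_of_coprime (Helper34.card_coreIn_coprime p H)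
      (hBH.trans (uq_le_normalizer_coreIn p H))))

end Cfsg.Agent.Helper23
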