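/-
helper23: Bender–Glauberman, Theorems 9.2 and 9.3, in a minimal simple group of odd order:
uniqueness passes to subgroups of rank at least two of the centralizer, and to noncyclic
`p`-subgroups whose centralizer has `p`-rank at least three.
Everything lives in `Cfsg.Agent.Helper23`.
-/
import Cfsg.Agent.Helper23.Uniq2
import Cfsg.Agent.S1398
import Cfsg.Agent.Helper22.NormalElemAb

set_option autoImplicit false

namespace Cfsg.Agent.Helper23

open Cfsg Subgroup Cfsg.Agent.Helper35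
open scoped commutatorElement Pointwise

universe u

variable {G : Type u} [Group G] [Finite G]

/-! ### Small tools -/

omit [Finite G] in
theorem isMulCommutative_of_le {H K : Subgroup G} (h : H ≤ K) (hK : IsMulCommutative ↥K) :
    IsMulCommutative ↥H := by
  refine ⟨⟨fun a b => Subtype.ext ?_⟩⟩
  have h1 : (⟨a, h a.2⟩ : ↥K) * ⟨b, h b.2⟩ = ⟨b, h b.2⟩ * ⟨a, h a.2⟩ := hK.is_comm.comm _ _
  have h2 : (a : G) * (b : G) = (b : G) * (a : G) := congrArg Subtype.val h1
  exact h2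

theorem not_isCyclic_of_card_gt {p : ℕ} (hp : p.Prime) {E : Subgroup G}
    (hEe : ∀ x ∈ E, x ^ p = 1) (hc : p < Nat.card E) : ¬ IsCyclic ↥E := by
  intro hcyc
  obtain ⟨e, he⟩ := IsCyclic.exists_generator (α := E)
  have h1 : orderOf e = Nat.card E := orderOf_eq_card_of_forall_mem_zpowers he
  have h2 : e ^ p = 1 := Subtype.ext (by simpa using hEe e e.2)
  have h3 : orderOf e ≤ p := Nat.le_of_dvd hp.pos (orderOf_dvd_of_pow_eq_one h2)
  omega

omit [Finite G] in
/-- An elementary abelian subgroup of large order, extracted from a failure of `PRankLE`. -/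
theorem exists_elemAb_of_not_pRankLE {p k : ℕ} {Z : Subgroup G} (h : ¬ PRankLE p k ↥Z) :
    ∃ E : Subgroup G, E ≤ Z ∧ IsMulCommutative ↥E ∧ (∀ x ∈ E, x ^ p = 1) ∧
      p ^ k < Nat.card E := by
  unfold PRankLE at h
  push Not at h
  obtain ⟨B, hBc, hBp, hcard⟩ := h
  refine ⟨B.map Z.subtype, Subgroup.map_subtype_le _, ?_, ?_, ?_⟩
  · refine ⟨⟨fun x y => Subtype.ext ?_⟩⟩
    obtain ⟨x', hx', hx⟩ := x.2
    obtain ⟨y', hy', hy⟩ := y.2
    have h1 : (⟨x', hx'⟩ : ↥B) * ⟨y', hy'⟩ = ⟨y', hy'⟩ * ⟨x', hx'⟩ := mul_comm' _ _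
    have h2 : x' * y' = y' * x' := congrArg Subtype.val h1
    show (x : G) * (y : G) = (y : G) * (x : G)
    rw [← hx, ← hy, ← map_mul, ← map_mul, h2]
  · rintro _ ⟨x', hx', rfl⟩
    rw [← map_pow, hBp x' hx', map_one]
  · rwa [Subgroup.card_map_of_injective Z.subtype_injective]

omit [Finite G] in
theorem not_rankLE_one_of_elemAb {p : ℕ} (hp : p.Prime) {C K : Subgroup G} (hCK : C ≤ K)
    (hc : IsMulCommutative ↥C) (he : ∀ x ∈ C, x ^ p = 1) (hcard : p < Nat.card C) :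
    ¬ RankLE 1 ↥K :=
  fun h => Helper21.not_pRankLE_of_elemAb hCK hc he
    (by rw [pow_one]; exact not_le.mpr hcard) (h p hp)

omit [Finite G] in
theorem isCoatom_conj_smul (g : G) {M : Subgroup G} (hM : IsCoatom M) :
    IsCoatom (MulAut.conj g • M) :=
  (OrderIso.isCoatom_iff (MulAut.conj g).mapSubgroup M).mpr hM

omit [Finite G] in
theorem inUniqueMaximal_conj (g : G) {A : Subgroup G} (h : InUniqueMaximal A) :
    InUniqueMaximal (MulAut.conj g • A) := by
  obtain ⟨M, ⟨hM, hAM⟩, huniq⟩ := h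
  refine ⟨MulAut.conj g • M, ⟨isCoatom_conj_smul g hM, conj_smul_le_conj_smul hAM⟩,
    fun H hH => ?_⟩
  have h1 : MulAut.conj g⁻¹ • H = M := by
    apply huniq _ ⟨isCoatom_conj_smul g⁻¹ hH.1, ?_⟩
    have h2 := conj_smul_le_conj_smul (g := g⁻¹) hH.2
    rwa [conj_smul_conj_smul, inv_mul_cancel, map_one, one_smul] at h2
  rw [← h1, conj_smul_conj_smul, mul_inv_cancel, map_one, one_smul]

omit [Finite G] in
theorem isMulCommutative_conj_smul (g : G) {A : Subgroup G} (hA : IsMulCommutative ↥A) :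
    IsMulCommutative ↥(MulAut.conj g • A) := by
  refine ⟨⟨fun a b => Subtype.ext ?_⟩⟩
  have ha := mem_conj_smul.mp a.2
  have hb := mem_conj_smul.mp b.2
  have h1 : g⁻¹ * (a : G) * g * (g⁻¹ * (b : G) * g) = g⁻¹ * (b : G) * g * (g⁻¹ * (a : G) * g) :=
    congrArg Subtype.val (hA.is_comm.comm ⟨_, ha⟩ ⟨_, hb⟩)
  have h2 : (a : G) * (b : G) = g * (g⁻¹ * (a : G) * g * (g⁻¹ * (b : G) * g)) * g⁻¹ := by group
  show (a : G) * (b : G) = (b : G) * (a : G)
  rw [h2, h1]
  group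

/-! ### Bender–Glauberman, Theorem 9.2 -/

/-- **Bender–Glauberman, Theorem 9.2**: if `L` lies in a unique maximal subgroup and
`K ≤ C_G(L)` has rank at least two, then `K` lies in a unique maximal subgroup. -/
theorem uq_92 (hG : IsMinSimpleOddOrder G) {L K : Subgroup G} (hL : InUniqueMaximal L)
    (hK : K ≤ centralizer (L : Set G)) (hKr : ¬ RankLE 1 ↥K) : InUniqueMaximal K := by
  have hsimple := hG.2.1
  obtain ⟨M, ⟨hM, hLM⟩, huniq⟩ := hL
  have hproper : ∀ X : Subgroup G, X ≠ ⊤ → L ≤ X → X ≤ M := by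
    intro X hX hLX
    obtain ⟨H, hH, hXH⟩ := uq_exists_coatom_ge hX
    have h1 := huniq H ⟨hH, hLX.trans hXH⟩
    rw [← h1]; exact hXH
  have hL1 : L ≠ ⊥ := by
    rintro rfl
    obtain ⟨x, hx⟩ : ∃ x : G, x ∉ M := by
      by_contra hcon
      push Not at hcon
      exact hM.1 (eq_top_iff.mpr (fun x _ => hcon x))
    have h1 : zpowers x = ⊤ := by
      by_contra h2
      exact hx (hproper _ h2 bot_le (mem_zpowers x))
    apply hG.2.2.1
    refine ⟨⟨fun a b => ?_⟩⟩
    have ha : a ∈ zpowers x := h1 ▸ mem_top a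
    have hb : b ∈ zpowers x := h1 ▸ mem_top b
    obtain ⟨m, rfl⟩ := ha
    obtain ⟨n, rfl⟩ := hb
    exact zpow_mul_comm x m n
  have hL2 : L ≠ ⊤ := fun h => hM.1 (top_le_iff.mp (h ▸ hLM))
  have hNL : normalizer (L : Set G) ≤ M :=
    hproper _ (normalizer_ne_top_of_simple hL1 hL2) le_normalizer
  have hKM : K ≤ M := hK.trans ((centralizer_le_normalizer _).trans hNL)
  obtain ⟨p, hp, E, hEK, hEc, hEe, hcard⟩ := exists_elemAb_of_not_rankLE hKr
  haveI := Fact.mk hp
  rw [pow_one] at hcard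
  have hEnc : ¬ IsCyclic ↥E := not_isCyclic_of_card_gt hp hEe hcard
  have hcent : ∀ b ∈ E, b ≠ 1 → centralizer ({b} : Set G) ≤ M := by
    intro b hb hb1
    apply hproper _ (centralizer_singleton_ne_top hG.2 hb1)
    intro l hl
    rw [Subgroup.mem_centralizer_iff]
    intro x hx
    rw [Set.mem_singleton_iff] at hx
    subst hx
    exact (Subgroup.mem_centralizer_iff.mp (hK (hEK hb)) l hl).symm
  obtain ⟨M', -, huniq'⟩ :=
    Cfsg.Agent.S1398.result hG M hM p E (hEK.trans hKM) ⟨hEc, hEe⟩ hEnc (Or.inl hcent)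
  have hMM' : M = M' := huniq' M ⟨hM, hEK.trans hKM⟩
  refine ⟨M, ⟨hM, hKM⟩, fun H hH => ?_⟩
  rw [hMM']
  exact huniq' H ⟨hH.1, hEK.trans hH.2⟩

/-! ### Normal elementary abelian subgroups of order `p ^ 2` -/

/-- A normal elementary abelian subgroup `E` of order `p ^ 2` of a `p`-group is centralized by a
subgroup of index at most `p` of any given subgroup. -/
theorem card_le_mul_card_inf_centralizer_sq {P : Type*} [Group P] [Finite P] {p : ℕ}
    [Fact p.Prime] (hP : IsPGroup p P) (E : Subgroup P) [E.Normal]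
    (hE : IsElementaryAbelian p E) (hEc : Nat.card E = p ^ 2) (S : Subgroup P) :
    Nat.card S ≤ p * Nat.card (S ⊓ centralizer (E : Set P) : Subgroup P) := by
  have hpp : p.Prime := Fact.out
  obtain ⟨V, hVn, hVE, hVc⟩ := Helper22.exists_normal_le_card hP E 2 hEc 1 (by norm_num)
  rw [pow_one] at hVc
  haveI := hVn
  have hVcent : ∀ n : P, ∀ v ∈ V, v * n = n * v := by
    intro n v hv
    have h1 : n ∈ normalizer (V : Set P) := by
      rw [normalizer_eq_top_iff.mpr hVn]; exact mem_top n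
    obtain ⟨k, hk⟩ := hP n
    have h2 := Cfsg.Agent.S0100.mem_centralizer_of_mem_normalizer_of_card_prime V hVc n h1 k hk
    exact Subgroup.mem_centralizer_iff.mp h2 v hv
  obtain ⟨y, hyE, hyV⟩ : ∃ y ∈ E, y ∉ V :=
    exists_not_mem_of_card_lt (by rw [hVc, hEc]; nlinarith [hpp.one_lt])
  have hVe : IsElementaryAbelian p V :=
    ⟨isMulCommutative_of_le hVE hE.1, fun v hv => hE.2 v (hVE hv)⟩
  have hyc : ∀ v ∈ V, y * v = v * y := by
    intro v hv
    have h1 : (⟨y, hyE⟩ : ↥E) * ⟨v, hVE hv⟩ = ⟨v, hVE hv⟩ * ⟨y, hyE⟩ := hE.1.is_comm.comm _ _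
    exact congrArg Subtype.val h1
  obtain ⟨-, hcard⟩ := Helper22.elemAb_sup_zpowers' V hVe y hyV (hE.2 y hyE) hyc
  have hEeq : V ⊔ zpowers y = E :=
    Subgroup.eq_of_le_of_card_ge (sup_le hVE ((zpowers_le).mpr hyE))
      (by rw [hcard, hVc, hEc, sq])
  have hcomm : ∀ s ∈ S, s * y * s⁻¹ * y⁻¹ ∈ V := by
    intro s _
    have hs : s ∈ normalizer (E : Set P) := by
      rw [normalizer_eq_top_iff.mpr inferInstance]; exact mem_top s
    exact Cfsg.Agent.S0100.comm_mem_of_index_prime hP V E hVE (by rw [hVc, hEc, sq]) s hs y hyE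
  have h1 := Helper22.card_le_card_mul_card_inf_centralizer S V y hcomm
  rw [hVc] at h1
  refine h1.trans (Nat.mul_le_mul_left p (Subgroup.card_le_of_le ?_))
  intro s hs
  refine ⟨hs.1, Subgroup.mem_centralizer_iff.mpr ?_⟩
  intro e he
  have h2 : V ⊔ zpowers y ≤ centralizer ({s} : Set P) := by
    refine sup_le (fun v hv => ?_) ((zpowers_le).mpr ?_)
    · refine Subgroup.mem_centralizer_iff.mpr ?_
      intro x hx
      rw [Set.mem_singleton_iff] at hx
      subst hx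
      exact (hVcent x v hv).symm
    · refine Subgroup.mem_centralizer_iff.mpr ?_
      intro x hx
      rw [Set.mem_singleton_iff] at hx
      subst hx
      exact (Subgroup.mem_centralizer_iff.mp hs.2 y rfl).symm
  rw [← hEeq] at he
  exact (Subgroup.mem_centralizer_iff.mp (h2 he) s rfl).symm

/-- A noncyclic `p`-subgroup `P`, `p` odd, has a normal elementary abelian subgroup `E₀` of
order `p ^ 2`, and every subgroup `T` of `P` satisfies `|T : C_T(E₀)| ≤ p`. -/
theorem exists_normal_elemAb_sq_in {p : ℕ} [Fact p.Prime] (hp2 : p ≠ 2) {P : Subgroup G}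
    (hP : IsPGroup p P) (hnc : ¬ IsCyclic ↥P) :
    ∃ E₀ : Subgroup G, E₀ ≤ P ∧ IsMulCommutative ↥E₀ ∧ (∀ x ∈ E₀, x ^ p = 1) ∧
      Nat.card E₀ = p ^ 2 ∧ P ≤ normalizer (E₀ : Set G) ∧
      ∀ T : Subgroup G, T ≤ P →
        Nat.card T ≤ p * Nat.card (T ⊓ centralizer (E₀ : Set G) : Subgroup G) := by
  obtain ⟨V, hVn, hV, hVc⟩ := Cfsg.Agent.S0126.result hp2 hP hnc
  haveI := hVn
  refine ⟨V.map P.subtype, Subgroup.map_subtype_le _, ?_, ?_, ?_, ?_, ?_⟩
  · refine ⟨⟨fun x y => Subtype.ext ?_⟩⟩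
    obtain ⟨x', hx', hx⟩ := x.2
    obtain ⟨y', hy', hy⟩ := y.2
    have h1 : (⟨x', hx'⟩ : ↥V) * ⟨y', hy'⟩ = ⟨y', hy'⟩ * ⟨x', hx'⟩ := hV.1.is_comm.comm _ _
    have h2 : x' * y' = y' * x' := congrArg Subtype.val h1
    show (x : G) * (y : G) = (y : G) * (x : G)
    rw [← hx, ← hy, ← map_mul, ← map_mul, h2]
  · rintro _ ⟨x', hx', rfl⟩
    rw [← map_pow, hV.2 x' hx', map_one]
  · rw [Subgroup.card_map_of_injective P.subtype_injective, hVc]
  · intro x hx
    have h1 : (⟨x, hx⟩ : ↥P) ∈ normalizer (V : Set ↥P) := by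
      rw [Subgroup.normalizer_eq_top_iff.mpr hVn]; exact Subgroup.mem_top _
    exact coe_mem_normalizer_map h1
  · intro T hT
    have h1 := card_le_mul_card_inf_centralizer_sq hP V hV hVc (T.subgroupOf P)
    rw [natCard_subgroupOf_eq hT] at h1
    refine h1.trans (Nat.mul_le_mul_left p ?_)
    rw [← Subgroup.card_map_of_injective P.subtype_injective]
    apply Subgroup.card_le_of_le
    rintro _ ⟨x, ⟨hxT, hxc⟩, rfl⟩
    refine ⟨Subgroup.mem_subgroupOf.mp hxT, Subgroup.mem_centralizer_iff.mpr ?_⟩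
    rintro _ ⟨e, he, rfl⟩
    exact congrArg Subtype.val (Subgroup.mem_centralizer_iff.mp hxc e he)

/-! ### Bender–Glauberman, Theorem 9.3 -/

theorem uq_93_aux (hG : IsMinSimpleOddOrder G) {p : ℕ} [Fact p.Prime] (hp2 : p ≠ 2)
    {P A B E : Subgroup G} (hP : IsPGroup p P) (hAP : A ≤ P) (hAc : IsMulCommutative ↥A)
    (hA3 : ¬ PRankLE p 2 ↥A) (hAU : InUniqueMaximal A) (hBP : B ≤ P) (hBnc : ¬ IsCyclic ↥B)
    (hEP : E ≤ P) (hEc : IsMulCommutative ↥E) (hEe : ∀ x ∈ E, x ^ p = 1)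
    (hE3 : p ^ 2 < Nat.card E) (hEB : E ≤ centralizer (B : Set G)) : InUniqueMaximal B := by
  have hpp : p.Prime := Fact.out
  have hncP : ¬ IsCyclic ↥P := not_isCyclic_of_not_pRankLE (Helper21.not_pRankLE_mono hAP hA3)
  obtain ⟨E₀, hE₀P, hE₀c, hE₀e, hE₀card, hE₀n, hE₀cnt⟩ := exists_normal_elemAb_sq_in hp2 hP hncP
  obtain ⟨A₁, hA₁A, hA₁c, hA₁e, hA₁card⟩ := exists_elemAb_of_not_pRankLE hA3
  have hlt : ∀ T : Subgroup G, T ≤ P → p ^ 2 < Nat.card T →
      p < Nat.card (T ⊓ centralizer (E₀ : Set G) : Subgroup G) := by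
    intro T hT hc
    have h1 := hE₀cnt T hT
    have h2 : p * p < p * Nat.card (T ⊓ centralizer (E₀ : Set G) : Subgroup G) := by
      rw [← sq]; exact lt_of_lt_of_le hc h1
    exact Nat.lt_of_mul_lt_mul_left h2
  -- `C_{A₁}(E₀)` lies in a unique maximal subgroup
  have hC₁U : InUniqueMaximal (A₁ ⊓ centralizer (E₀ : Set G)) := by
    refine uq_92 hG hAU ?_ (not_rankLE_one_of_elemAb hpp le_rfl
      (isMulCommutative_of_le inf_le_left hA₁c) (fun x hx => hA₁e x hx.1)
      (hlt A₁ (hA₁A.trans hAP) hA₁card))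
    intro x hx
    refine Subgroup.mem_centralizer_iff.mpr (fun a ha => ?_)
    have h1 : (⟨a, ha⟩ : ↥A) * ⟨x, hA₁A hx.1⟩ = ⟨x, hA₁A hx.1⟩ * ⟨a, ha⟩ := hAc.is_comm.comm _ _
    exact congrArg Subtype.val h1
  -- `E₀` lies in a unique maximal subgroup
  have hE₀U : InUniqueMaximal E₀ := by
    refine uq_92 hG hC₁U ?_ (not_rankLE_one_of_elemAb hpp le_rfl hE₀c hE₀e
      (by rw [hE₀card]; nlinarith [hpp.one_lt]))
    intro e he
    refine Subgroup.mem_centralizer_iff.mpr (fun x hx => ?_)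
    exact (Subgroup.mem_centralizer_iff.mp hx.2 e he).symm
  -- `C_E(E₀)` lies in a unique maximal subgroup
  have hC₂U : InUniqueMaximal (E ⊓ centralizer (E₀ : Set G)) :=
    uq_92 hG hE₀U inf_le_right (not_rankLE_one_of_elemAb hpp le_rfl
      (isMulCommutative_of_le inf_le_left hEc) (fun x hx => hEe x hx.1) (hlt E hEP hE3))
  -- and finally `B`
  have hBr : ¬ RankLE 1 ↥B := by
    obtain ⟨V, -, hV, hVc⟩ := Cfsg.Agent.S0126.result hp2 (hP.to_le hBP) hBnc
    intro h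
    have h1 := h p hpp V hV.1 hV.2
    rw [hVc, pow_one] at h1
    nlinarith [hpp.one_lt]
  refine uq_92 hG hC₂U ?_ hBr
  intro b hb
  refine Subgroup.mem_centralizer_iff.mpr (fun x hx => ?_)
  exact (Subgroup.mem_centralizer_iff.mp (hEB hx.1) b hb).symm

/-- **Bender–Glauberman, Theorem 9.3**: if an abelian `p`-subgroup `A` of rank at least three
lies in a unique maximal subgroup, then so does every noncyclic `p`-subgroup `B` whose
centralizer has `p`-rank at least three. -/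
theorem uq_93 (hG : IsMinSimpleOddOrder G) (p : ℕ) [Fact p.Prime] (A B : Subgroup G)
    (hAp : IsPGroup p A) (hAc : IsMulCommutative ↥A) (hA3 : ¬ PRankLE p 2 ↥A)
    (hAU : InUniqueMaximal A) (hBp : IsPGroup p B) (hBnc : ¬ IsCyclic ↥B)
    (hB3 : ¬ PRankLE p 2 ↥(centralizer (B : Set G))) : InUniqueMaximal B := by
  have hpp : p.Prime := Fact.out
  have hA1 : A ≠ ⊥ := by
    rintro rfl
    apply hA3
    intro E _ _
    have h1 : Nat.card E = 1 := by
      haveI : Subsingleton (↥(⊥ : Subgroup G)) := inferInstance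
      haveI : Subsingleton ↥E := inferInstance
      exact Nat.card_unique
    rw [h1]
    exact Nat.one_le_pow _ _ hpp.pos
  have hp2 : p ≠ 2 := by
    rintro rfl
    have h1 : 2 ∣ Nat.card G :=
      (dvd_card_of_isPGroup_ne_bot hAp hA1).trans (Subgroup.card_subgroup_dvd_card A)
    exact (Nat.not_even_iff_odd.mpr hG.1) (even_iff_two_dvd.mpr h1)
  obtain ⟨E, hEB, hEc, hEe, hE3⟩ := exists_elemAb_of_not_pRankLE hB3
  have hEp : IsPGroup p E := fun e => ⟨1, by
    rw [pow_one]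
    exact Subtype.ext (by simpa using hEe e e.2)⟩
  have hBEp : IsPGroup p ↥(B ⊔ E) :=
    IsPGroup.to_sup_of_normal_left' hBp hEp (hEB.trans (centralizer_le_normalizer _))
  obtain ⟨P, hP⟩ := hBEp.exists_le_sylow
  obtain ⟨P₀, hP₀⟩ := hAp.exists_le_sylow
  obtain ⟨g, hg⟩ := MulAction.exists_smul_eq G P₀ P
  have hA'P : MulAut.conj g • A ≤ (P : Subgroup G) := by
    rw [← hg, Sylow.coe_subgroup_smul]
    exact conj_smul_le_conj_smul hP₀
  exact uq_93_aux hG hp2 P.2 hA'P (isMulCommutative_conj_smul g hAc)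
    (Helper21.not_pRankLE_conj g hA3) (inUniqueMaximal_conj g hAU) (le_sup_left.trans hP) hBnc
    (le_sup_right.trans hP) hEc hEe hE3 hEB

end Cfsg.Agent.Helper23
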