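/-
helper23: general lemmas for Bender–Glauberman, Theorem 8.1 (the Fitting subgroup of a maximal
subgroup): coprime lifting into `O_{q'}`, fixed points in cosets, coprime action centralizing
the Fitting subgroup, and `O_q(H)`, `F(H)` of a subgroup `H` viewed in the ambient group.
Everything lives in `Cfsg.Agent.Helper23`.
-/
import Cfsg.Agent.Helper23.Uniq3
import Cfsg.Agent.Helper19.ThompsonNPC
import Cfsg.Agent.Helper22.SolvableCore
import Cfsg.Agent.Helper22.Fitting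
import Cfsg.Prelude.Def_Amalgam

set_option autoImplicit false

namespace Cfsg.Agent.Helper23

open Cfsg Subgroup Cfsg.Agent.Helper35
open scoped commutatorElement Pointwise

universe u

/-! ### Type-level lemmas -/

theorem f81_eq_bot_of_isPGroup_of_coprime {H : Type*} [Group H] [Finite H] {q : ℕ}
    [Fact q.Prime] {Y : Subgroup H} (h : IsPGroup q Y) (hc : (Nat.card Y).Coprime q) :
    Y = ⊥ := by
  have hq : q.Prime := Fact.out
  obtain ⟨n, hn⟩ := h.exists_card_eq
  rcases Nat.eq_zero_or_pos n with h0 | h0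
  · rw [h0, pow_zero] at hn
    exact Subgroup.card_eq_one.mp hn
  · exfalso
    rw [hn] at hc
    have h1 : q ∣ q ^ n := dvd_pow_self q h0.ne'
    exact hq.one_lt.ne' (Nat.Coprime.eq_one_of_dvd (Nat.Coprime.coprime_dvd_left h1 hc) dvd_rfl)

/-- Coprime lifting: let `U` be a `q`-subgroup and `V` a `q'`-subgroup of the solvable group
`H`, commuting elementwise, such that the commutators `[x, v]`, `x ∈ C_H(U)`, `v ∈ V`, lie in a
`q'`-subgroup. Then `V ≤ O_{q'}(H)`. -/
theorem f81_le_pPrimeCore_of_lift {H : Type*} [Group H] [Finite H] [Group.IsSolvable H] (q : ℕ)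
    [Fact q.Prime] (U V W : Subgroup H) (hU : IsPGroup q U)
    (hUV : V ≤ centralizer (U : Set H)) (hV : (Nat.card V).Coprime q)
    (hW : (Nat.card W).Coprime q)
    (hcomm : ∀ x ∈ centralizer (U : Set H), ∀ v ∈ V, x * v * x⁻¹ * v⁻¹ ∈ W) :
    V ≤ pPrimeCore q H := by
  have hqp : q.Prime := Fact.out
  obtain ⟨φ, hφdef⟩ : ∃ φ : H →* H ⧸ pPrimeCore q H, φ = QuotientGroup.mk' (pPrimeCore q H) :=
    ⟨_, rfl⟩
  have hcore : ∀ D : Subgroup (H ⧸ pPrimeCore q H), D.Normal → (Nat.card D).Coprime q → D = ⊥ :=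
    Cfsg.Agent.Helper24.eq_bot_of_normal_coprime_quotient_pPrimeCore q
  have hHH := Cfsg.Agent.Helper24.centralizer_pCore_le (G := H ⧸ pPrimeCore q H) q hcore
  have hRq : IsPGroup q (pCore q (H ⧸ pPrimeCore q H)) := Cfsg.Agent.Helper24.isPGroup_pCore q _
  have hRn : (pCore q (H ⧸ pPrimeCore q H)).Normal := Cfsg.Agent.Helper11.pCore_normal q _
  have hUbar : IsPGroup q (U.map φ) := hU.map φ
  have hVbar : (Nat.card (V.map φ)).Coprime q :=
    Nat.Coprime.coprime_dvd_left (Subgroup.card_map_dvd V φ) hV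
  have hWbar : (Nat.card (W.map φ)).Coprime q :=
    Nat.Coprime.coprime_dvd_left (Subgroup.card_map_dvd W φ) hW
  have hAB : ⁅V.map φ, U.map φ⁆ = ⊥ := by
    rw [← Subgroup.map_commutator, Subgroup.commutator_eq_bot_iff_le_centralizer.mpr hUV,
      Subgroup.map_bot]
  have hRW : pCore q (H ⧸ pPrimeCore q H) ⊓ W.map φ = ⊥ := by
    apply disjoint_iff.mp
    apply Subgroup.disjoint_of_coprime_natCard
    obtain ⟨n, hn⟩ := hRq.exists_card_eq
    rw [hn]
    exact Nat.Coprime.pow_left n hWbar.symm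
  have hC : pCore q (H ⧸ pPrimeCore q H) ⊓ centralizer (U.map φ : Set (H ⧸ pPrimeCore q H)) ≤
      centralizer (V.map φ : Set (H ⧸ pPrimeCore q H)) := by
    rintro xb ⟨hxR, hxU⟩
    have hxU' : xb ∈ centralizer ((U.map (QuotientGroup.mk' (pPrimeCore q H)) :
        Subgroup (H ⧸ pPrimeCore q H)) : Set (H ⧸ pPrimeCore q H)) := by
      rw [← hφdef]; exact hxU
    obtain ⟨x, hx, hxe⟩ := Cfsg.Agent.Helper19.cent_lift U (pPrimeCore q H) hU
      (Cfsg.Agent.Helper22.card_pPrimeCore_coprime q H) hxU'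
    rw [← hφdef] at hxe
    subst hxe
    refine Subgroup.mem_centralizer_iff.mpr ?_
    rintro _ ⟨v, hv, rfl⟩
    have h1 := hcomm x hx v hv
    have h2 : φ (x * v * x⁻¹ * v⁻¹) ∈ pCore q (H ⧸ pPrimeCore q H) := by
      have e : φ (x * v * x⁻¹ * v⁻¹) = φ x * (φ v * (φ x)⁻¹ * (φ v)⁻¹) := by
        simp only [map_mul, map_inv]; group
      rw [e]
      exact Subgroup.mul_mem _ hxR (hRn.conj_mem _ (Subgroup.inv_mem _ hxR) _)
    have h3 : φ (x * v * x⁻¹ * v⁻¹) = 1 := by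
      have h4 : φ (x * v * x⁻¹ * v⁻¹) ∈ pCore q (H ⧸ pPrimeCore q H) ⊓ W.map φ :=
        ⟨h2, ⟨_, h1, rfl⟩⟩
      rw [hRW] at h4
      exact Subgroup.mem_bot.mp h4
    have e2 : φ (x * v * x⁻¹ * v⁻¹) = φ x * φ v * (φ x)⁻¹ * (φ v)⁻¹ := by
      simp only [map_mul, map_inv]
    rw [e2] at h3
    calc φ v * φ x = (φ x * φ v * (φ x)⁻¹ * (φ v)⁻¹)⁻¹ * (φ x * φ v) := by group
      _ = φ x * φ v := by rw [h3, inv_one, one_mul]
  have hR_le := Cfsg.Agent.Helper24.thompson_AxB (V.map φ) (U.map φ) hUbar hAB hVbar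
    (Nat.card (pCore q (H ⧸ pPrimeCore q H))) (pCore q (H ⧸ pPrimeCore q H)) le_rfl hRq
    (by rw [Subgroup.normalizer_eq_top_iff.mpr hRn]; exact le_top)
    (by rw [Subgroup.normalizer_eq_top_iff.mpr hRn]; exact le_top) hC
  have hVR : V.map φ ≤ pCore q (H ⧸ pPrimeCore q H) :=
    (Subgroup.le_centralizer_iff.mp hR_le).trans hHH
  have hbot : V.map φ = ⊥ := f81_eq_bot_of_isPGroup_of_coprime (hRq.to_le hVR) hVbar
  intro v hv
  have h5 : φ v ∈ V.map φ := ⟨v, hv, rfl⟩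
  rw [hbot, Subgroup.mem_bot, hφdef] at h5
  exact (QuotientGroup.eq_one_iff v).mp h5

/-- A `q`-subgroup acting coprimely on the normal subgroup `N` of the solvable group `K` and
centralizing `F(K) ∩ N` centralizes `N`. -/
theorem f81_le_centralizer_of_fitting_inf_le {K : Type*} [Group K] [Finite K]
    [Group.IsSolvable K] {q : ℕ} [Fact q.Prime] (N U : Subgroup K) [hN : N.Normal]
    (hU : IsPGroup q U) (hcop : (Nat.card N).Coprime q)
    (hF : fittingSubgroup K ⊓ N ≤ centralizer (U : Set K)) : N ≤ centralizer (U : Set K) := by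
  have hFn : (fittingSubgroup K).Normal := Cfsg.Agent.Helper22.fittingSubgroup_normal K
  haveI : (fittingSubgroup K ⊓ N).Normal := Subgroup.normal_inf_normal _ _
  have hCF : N ⊓ centralizer ((fittingSubgroup K ⊓ N : Subgroup K) : Set K) ≤
      fittingSubgroup K ⊓ N := by
    rintro x ⟨hxN, hxC⟩
    have hsub := Cfsg.Agent.Helper22.fittingSubgroup_map_subtype_le (K := N) hN.isSubnormal
    have h1 : (⟨x, hxN⟩ : ↥N) ∈ centralizer (fittingSubgroup ↥N : Set ↥N) := by
      refine Subgroup.mem_centralizer_iff.mpr (fun y hy => Subtype.ext ?_)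
      have h2 : (y : K) ∈ fittingSubgroup K ⊓ N := ⟨hsub ⟨y, hy, rfl⟩, y.2⟩
      exact Subgroup.mem_centralizer_iff.mp hxC _ h2
    have h3 := Cfsg.Agent.Helper22.centralizer_fittingSubgroup_le_of_isSolvable (G := ↥N) h1
    exact ⟨hsub ⟨_, h3, rfl⟩, hxN⟩
  have hFU : ⁅(fittingSubgroup K ⊓ N : Subgroup K), U⁆ = ⊥ :=
    Subgroup.commutator_eq_bot_iff_le_centralizer.mpr hF
  have h1 : ⁅⁅U, (fittingSubgroup K ⊓ N : Subgroup K)⁆, N⁆ = ⊥ := by
    rw [Subgroup.commutator_comm U, hFU, Subgroup.commutator_comm]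
    exact Subgroup.commutator_eq_bot_iff_le_centralizer.mpr (fun x _ => by
      exact Subgroup.mem_centralizer_iff.mpr (fun y hy => by
        rw [Subgroup.mem_bot.mp hy]; simp))
  have h2 : ⁅⁅(fittingSubgroup K ⊓ N : Subgroup K), N⁆, U⁆ = ⊥ := by
    rw [eq_bot_iff, ← hFU]
    exact Subgroup.commutator_mono (Subgroup.commutator_le_left _ _) le_rfl
  have h3 := Subgroup.commutator_commutator_eq_bot_of_rotate h1 h2
  have h4 : ⁅N, U⁆ ≤ centralizer ((fittingSubgroup K ⊓ N : Subgroup K) : Set K) :=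
    Subgroup.commutator_eq_bot_iff_le_centralizer.mp h3
  have h5 : ⁅N, U⁆ ≤ centralizer (U : Set K) :=
    ((le_inf (Subgroup.commutator_le_left N U) h4).trans hCF).trans hF
  refine Cfsg.Agent.Helper24.le_centralizer_of_commutator_le_centralizer
    (by rw [Subgroup.normalizer_eq_top_iff.mpr hN]; exact le_top) ?_ h5
  obtain ⟨n, hn⟩ := hU.exists_card_eq
  rw [hn]
  exact Nat.Coprime.pow_left n hcop.symm

variable {G : Type u} [Group G] [Finite G]

/-! ### Fixed points in cosets -/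

/-- If the `r`-group `R` normalizes the `r'`-subgroup `N` and stabilizes the coset `y N` under
conjugation, then `R` centralizes some element of that coset. -/
theorem f81_exists_fixed_in_coset {r : ℕ} [Fact r.Prime] {R N : Subgroup G} (hR : IsPGroup r R)
    (hN : (Nat.card N).Coprime r) (hRN : R ≤ normalizer (N : Set G)) (y : G)
    (hy : ∀ a ∈ R, y⁻¹ * (a * y * a⁻¹) ∈ N) :
    ∃ c : G, y⁻¹ * c ∈ N ∧ ∀ a ∈ R, a * c * a⁻¹ = c := by
  classical
  let Ω := {c : G // y⁻¹ * c ∈ N}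
  have hmem : ∀ (a : ↥R) (c : Ω), y⁻¹ * ((a : G) * (c : G) * (a : G)⁻¹) ∈ N := by
    intro a c
    have e : y⁻¹ * ((a : G) * (c : G) * (a : G)⁻¹) =
        (y⁻¹ * ((a : G) * y * (a : G)⁻¹)) * ((a : G) * (y⁻¹ * (c : G)) * (a : G)⁻¹) := by group
    rw [e]
    exact mul_mem (hy a a.2) ((Subgroup.mem_normalizer_iff.mp (hRN a.2) _).mp c.2)
  let act : MulAction ↥R Ω :=
    { smul := fun a c => ⟨(a : G) * (c : G) * (a : G)⁻¹, hmem a c⟩
      one_smul := fun c => Subtype.ext (by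
        show ((1 : ↥R) : G) * (c : G) * ((1 : ↥R) : G)⁻¹ = c
        simp)
      mul_smul := fun a b c => Subtype.ext (by
        show ((a * b : ↥R) : G) * (c : G) * ((a * b : ↥R) : G)⁻¹ =
          (a : G) * ((b : G) * (c : G) * (b : G)⁻¹) * (a : G)⁻¹
        simp [mul_assoc]) }
  let e : ↥N ≃ Ω :=
    { toFun := fun n => ⟨y * n, by simp⟩
      invFun := fun c => ⟨y⁻¹ * c, c.2⟩
      left_inv := fun n => by simp
      right_inv := fun c => by simp }
  have : Finite Ω := Finite.of_equiv _ e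
  have hcard := hR.card_modEq_card_fixedPoints Ω
  have hne : Nat.card (MulAction.fixedPoints ↥R Ω) ≠ 0 := by
    intro h0
    rw [h0, ← Nat.card_congr e] at hcard
    have hdvd : r ∣ Nat.card N := (Nat.modEq_zero_iff_dvd.1 hcard)
    exact (Fact.out : r.Prime).one_lt.ne' (Nat.Coprime.eq_one_of_dvd hN.symm hdvd)
  obtain ⟨⟨c, hc⟩⟩ : Nonempty (MulAction.fixedPoints ↥R Ω) := by
    by_contra hemp
    rw [not_nonempty_iff] at hemp
    exact hne Nat.card_of_isEmpty
  exact ⟨c, c.2, fun a ha => congrArg Subtype.val (hc ⟨a, ha⟩)⟩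

/-- If the `r`-group `R` acts on `Y` without nontrivial fixed points and trivially modulo the
`R`-invariant `r'`-subgroup `N ≤ Y`, then `Y = N`. -/
theorem f81_le_of_fixed_points_trivial {r : ℕ} [Fact r.Prime] {R Y N : Subgroup G}
    (hR : IsPGroup r R) (hNY : N ≤ Y) (hN : (Nat.card N).Coprime r)
    (hRN : R ≤ normalizer (N : Set G))
    (hYN : ∀ y ∈ Y, ∀ a ∈ R, y⁻¹ * (a * y * a⁻¹) ∈ N)
    (hC : Y ⊓ centralizer (R : Set G) = ⊥) : Y ≤ N := by
  intro y hy
  obtain ⟨c, hc, hfix⟩ := f81_exists_fixed_in_coset hR hN hRN y (hYN y hy)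
  have hcY : c ∈ Y := by
    have e : c = y * (y⁻¹ * c) := by group
    rw [e]; exact Y.mul_mem hy (hNY hc)
  have hcC : c ∈ centralizer (R : Set G) := by
    refine Subgroup.mem_centralizer_iff.mpr (fun a ha => ?_)
    have h1 := hfix a ha
    calc a * c = a * c * a⁻¹ * a := by group
      _ = c * a := by rw [h1]
  have hc1 : c = 1 := by
    have h2 : c ∈ Y ⊓ centralizer (R : Set G) := ⟨hcY, hcC⟩
    rw [hC] at h2; exact Subgroup.mem_bot.mp h2
  rw [hc1, mul_one] at hc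
  simpa using N.inv_mem hc

/-! ### Coprime lifting, in the ambient group -/

theorem f81_le_coreIn_of_lift {q : ℕ} [Fact q.Prime] {X U V W : Subgroup G}
    (hX : Group.IsSolvable ↥X) (hUX : U ≤ X) (hVX : V ≤ X) (hU : IsPGroup q U)
    (hUV : V ≤ centralizer (U : Set G)) (hV : (Nat.card V).Coprime q)
    (hW : (Nat.card W).Coprime q)
    (hcomm : ∀ x ∈ X, x ∈ centralizer (U : Set G) → ∀ v ∈ V, x * v * x⁻¹ * v⁻¹ ∈ W) :
    V ≤ Helper34.coreIn q X := by
  have h := f81_le_pPrimeCore_of_lift (H := ↥X) q (U.subgroupOf X) (V.subgroupOf X)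
    ((W ⊓ X).subgroupOf X) hU.comap_subtype ?_ ?_ ?_ ?_
  · intro v hv
    exact ⟨⟨v, hVX hv⟩, h (Subgroup.mem_subgroupOf.mpr hv), rfl⟩
  · intro v hv
    refine Subgroup.mem_centralizer_iff.mpr (fun u hu => Subtype.ext ?_)
    exact Subgroup.mem_centralizer_iff.mp (hUV (Subgroup.mem_subgroupOf.mp hv)) _
      (Subgroup.mem_subgroupOf.mp hu)
  · rw [natCard_subgroupOf_eq hVX]; exact hV
  · rw [natCard_subgroupOf_eq inf_le_right]
    exact Nat.Coprime.coprime_dvd_left (Subgroup.card_dvd_of_le inf_le_left) hW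
  · intro x hx v hv
    have hxc : (x : G) ∈ centralizer (U : Set G) := by
      refine Subgroup.mem_centralizer_iff.mpr (fun u hu => ?_)
      have := Subgroup.mem_centralizer_iff.mp hx ⟨u, hUX hu⟩ (Subgroup.mem_subgroupOf.mpr hu)
      exact congrArg Subtype.val this
    rw [Subgroup.mem_subgroupOf]
    refine ⟨hcomm x x.2 hxc v (Subgroup.mem_subgroupOf.mp hv), ?_⟩
    exact (x * v * x⁻¹ * v⁻¹).2

/-! ### `O_q(H)` and `F(H)` in the ambient group -/

omit [Finite G] in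
theorem f81_pCoreOf_le (q : ℕ) (H : Subgroup G) : pCoreOf q H ≤ H :=
  Subgroup.map_subtype_le _

omit [Finite G] in
theorem f81_isPGroup_pCoreOf (q : ℕ) (H : Subgroup G) : IsPGroup q ↥(pCoreOf q H) :=
  (Cfsg.Agent.Helper24.isPGroup_pCore q ↥H).map _

omit [Finite G] in
theorem f81_le_normalizer_pCoreOf (q : ℕ) (H : Subgroup G) :
    H ≤ normalizer (pCoreOf q H : Set G) := by
  intro h hh
  have := Cfsg.Agent.Helper22.pCore_characteristic q ↥H
  apply Helper24.mem_normalizer_of_conj_mem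
  · intro x hx
    exact Helper34.conj_mem_map_subtype_of_characteristic (pCore q ↥H)
      (fun y hy => H.mul_mem (H.mul_mem hh hy) (H.inv_mem hh))
      (fun y hy => H.mul_mem (H.mul_mem (H.inv_mem hh) hy) hh) hx
  · intro x hx
    have := Helper34.conj_mem_map_subtype_of_characteristic (pCore q ↥H) (g := h⁻¹)
      (fun y hy => H.mul_mem (H.mul_mem (H.inv_mem hh) hy) (H.inv_mem (H.inv_mem hh)))
      (fun y hy => H.mul_mem (H.mul_mem (H.inv_mem (H.inv_mem hh)) hy) (H.inv_mem hh)) hx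
    rwa [inv_inv] at this

omit [Finite G] in
theorem f81_le_pCoreOf {q : ℕ} {Y H : Subgroup G} (hYH : Y ≤ H)
    (hn : H ≤ normalizer (Y : Set G)) (hq : IsPGroup q Y) : Y ≤ pCoreOf q H := by
  have h1 : Y.subgroupOf H ≤ pCore q ↥H :=
    Cfsg.Agent.Helper24.le_pCore (Subgroup.normal_subgroupOf_of_le_normalizer hn) hq.comap_subtype
  intro y hy
  exact ⟨⟨y, hYH hy⟩, h1 (Subgroup.mem_subgroupOf.mpr hy), rfl⟩

theorem f81_pCoreOf_le_fittingOf (q : ℕ) [Fact q.Prime] (H : Subgroup G) :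
    pCoreOf q H ≤ fittingOf H := by
  apply Subgroup.map_mono
  apply le_sSup
  exact ⟨Cfsg.Agent.Helper11.pCore_normal q ↥H,
    (Cfsg.Agent.Helper24.isPGroup_pCore q ↥H).isNilpotent⟩

theorem f81_le_pCoreOf_of_le_fittingOf {q : ℕ} [Fact q.Prime] {Y H : Subgroup G}
    (hY : Y ≤ fittingOf H) (hq : IsPGroup q Y) : Y ≤ pCoreOf q H := by
  have hYH : Y ≤ H := hY.trans (Subgroup.map_subtype_le _)
  have h1 : Y.subgroupOf H ≤ fittingSubgroup ↥H := by
    intro y hy
    obtain ⟨z, hz, hzy⟩ := hY (Subgroup.mem_subgroupOf.mp hy)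
    have : z = y := Subtype.ext hzy
    rw [← this]; exact hz
  have h2 := le_pCore_of_le_fittingSubgroup q h1 hq.comap_subtype
  intro y hy
  exact ⟨⟨y, hYH hy⟩, h2 (Subgroup.mem_subgroupOf.mpr hy), rfl⟩

/-- In a solvable subgroup `H`, a subgroup centralizing every `O_q(H)` lies in `F(H)`. -/
theorem f81_le_fittingOf_of_le_centralizer {Y H : Subgroup G} (hH : Group.IsSolvable ↥H)
    (hYH : Y ≤ H) (hc : ∀ q : ℕ, q.Prime → Y ≤ centralizer (pCoreOf q H : Set G)) :
    Y ≤ fittingOf H := by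
  have h1 : fittingSubgroup ↥H ≤ centralizer ((Y.subgroupOf H : Subgroup ↥H) : Set ↥H) := by
    rw [Cfsg.Agent.Helper22.fittingSubgroup_eq_iSup_pCore]
    refine iSup_le (fun q => ?_)
    intro z hz
    refine Subgroup.mem_centralizer_iff.mpr (fun y hy => Subtype.ext ?_)
    have h2 : (z : G) ∈ pCoreOf (q : ℕ) H := ⟨z, hz, rfl⟩
    exact (Subgroup.mem_centralizer_iff.mp (hc q q.2 (Subgroup.mem_subgroupOf.mp hy)) _ h2).symm
  have h3 : Y.subgroupOf H ≤ fittingSubgroup ↥H :=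
    (Subgroup.le_centralizer_iff.mp h1).trans
      Cfsg.Agent.Helper22.centralizer_fittingSubgroup_le_of_isSolvable
  intro y hy
  exact ⟨⟨y, hYH hy⟩, h3 (Subgroup.mem_subgroupOf.mpr hy), rfl⟩

/-- A subgroup of `F(H)` whose order involves only primes `q` with `O_q(H) = 1` is trivial. -/
theorem f81_eq_bot_of_le_fittingOf {Y H : Subgroup G} (hY : Y ≤ fittingOf H)
    (hq : ∀ q : ℕ, q.Prime → q ∣ Nat.card Y → pCoreOf q H = ⊥) : Y = ⊥ := by
  by_contra hne
  have h1 : Nat.card Y ≠ 1 := fun h => hne (Subgroup.card_eq_one.mp h)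
  obtain ⟨q, hqp, hqd⟩ := Nat.exists_prime_and_dvd h1
  haveI := Fact.mk hqp
  obtain ⟨y, hy⟩ := exists_prime_orderOf_dvd_card' q hqd
  have h2 : IsPGroup q (zpowers (y : G)) := by
    rw [IsPGroup.iff_card]   
    refine ⟨1, ?_⟩
    rw [Nat.card_zpowers, Subgroup.orderOf_coe, hy, pow_one]
  have h3 : zpowers (y : G) ≤ pCoreOf q H :=
    f81_le_pCoreOf_of_le_fittingOf ((zpowers_le.mpr y.2).trans hY) h2
  rw [hq q hqp hqd] at h3
  have h4 : (y : G) = 1 := Subgroup.mem_bot.mp (h3 (mem_zpowers _))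
  have h5 : orderOf (y : G) = q := by rw [Subgroup.orderOf_coe]; exact hy
  rw [h4, orderOf_one] at h5
  exact hqp.one_lt.ne' h5.symm

end Cfsg.Agent.Helper23
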