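/-
helper23: Bender–Glauberman, Theorem 8.1(b): if `F(M)` is a `p`-group for the maximal subgroup
`M` of a minimal simple group of odd order, then the Sylow `p`-subgroups of `M` are Sylow in `G`
and every `A ∈ SCN_3(P)` lies in `F(M)` and in a unique maximal subgroup.
Everything lives in `Cfsg.Agent.Helper23`.
-/
import Cfsg.Agent.Helper23.Fit81a

set_option autoImplicit false

namespace Cfsg.Agent.Helper23

open Cfsg Subgroup Cfsg.Agent.Helper35
open scoped commutatorElement Pointwise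

universe u

variable {G : Type u} [Group G] [Finite G]

omit [Finite G] in
theorem f81_ne_bot_of_not_pRankLE {p k : ℕ} (hp : p.Prime) {A : Subgroup G}
    (hA : ¬ PRankLE p k ↥A) : A ≠ ⊥ := by
  rintro rfl
  apply hA
  intro E _ _
  have h1 : Nat.card E = 1 := by
    haveI : Subsingleton (↥(⊥ : Subgroup G)) := inferInstance
    haveI : Subsingleton ↥E := inferInstance
    exact Nat.card_unique
  rw [h1]
  exact Nat.one_le_pow _ _ hp.pos

theorem f81_eq_bot_of_isPGroup_of_isPGroup {p q : ℕ} [Fact p.Prime] [Fact q.Prime] (hne : q ≠ p)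
    {Y : Subgroup G} (hq : IsPGroup q Y) (hp : IsPGroup p Y) : Y = ⊥ := by
  apply f81_eq_bot_of_isPGroup_of_coprime hp
  obtain ⟨n, hn⟩ := hq.exists_card_eq
  rw [hn]
  exact Nat.Coprime.pow_left n ((Nat.coprime_primes Fact.out Fact.out).mpr hne)

omit [Finite G] in
theorem f81_le_normalizer_fittingOf (H : Subgroup G) :
    H ≤ normalizer (fittingOf H : Set G) := by
  intro h hh
  have := Cfsg.Agent.Helper22.fittingSubgroup_characteristic ↥H
  apply Helper24.mem_normalizer_of_conj_mem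
  · intro x hx
    exact Helper34.conj_mem_map_subtype_of_characteristic (fittingSubgroup ↥H)
      (fun y hy => H.mul_mem (H.mul_mem hh hy) (H.inv_mem hh))
      (fun y hy => H.mul_mem (H.mul_mem (H.inv_mem hh) hy) hh) hx
  · intro x hx
    have := Helper34.conj_mem_map_subtype_of_characteristic (fittingSubgroup ↥H) (g := h⁻¹)
      (fun y hy => H.mul_mem (H.mul_mem (H.inv_mem hh) hy) (H.inv_mem (H.inv_mem hh)))
      (fun y hy => H.mul_mem (H.mul_mem (H.inv_mem (H.inv_mem hh)) hy) (H.inv_mem hh)) hx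
    rwa [inv_inv] at this

omit [Finite G] in
theorem f81_fittingOf_le (H : Subgroup G) : fittingOf H ≤ H := Subgroup.map_subtype_le _

/-- Two normal subgroups of `M` of coprime orders commute elementwise. -/
theorem f81_le_centralizer_of_coprime {M X Y : Subgroup G} (hXM : X ≤ M) (hYM : Y ≤ M)
    (hX : M ≤ normalizer (X : Set G)) (hY : M ≤ normalizer (Y : Set G))
    (hcop : (Nat.card X).Coprime (Nat.card Y)) : X ≤ centralizer (Y : Set G) := by
  intro x hx
  refine Subgroup.mem_centralizer_iff.mpr (fun y hy => ?_)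
  have h1 : x * y * x⁻¹ * y⁻¹ ∈ X ⊓ Y := by
    constructor
    · have := (Subgroup.mem_normalizer_iff.mp (hX (hYM hy)) x⁻¹).mp (Subgroup.inv_mem _ hx)
      have e : x * y * x⁻¹ * y⁻¹ = x * (y * x⁻¹ * y⁻¹) := by group
      rw [e]; exact Subgroup.mul_mem _ hx this
    · have := (Subgroup.mem_normalizer_iff.mp (hY (hXM hx)) y).mp hy
      exact Subgroup.mul_mem _ this (Subgroup.inv_mem _ hy)
  have h2 : X ⊓ Y = ⊥ := disjoint_iff.mp (Subgroup.disjoint_of_coprime_natCard hcop)
  rw [h2, Subgroup.mem_bot] at h1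
  calc y * x = (x * y * x⁻¹ * y⁻¹)⁻¹ * (x * y) := by group
    _ = x * y := by rw [h1, inv_one, one_mul]

/-- If `F(M)` is a `p`-group and `M` is solvable, then `O_{p'}(M) = 1`. -/
theorem f81_coreIn_eq_bot {p : ℕ} [Fact p.Prime] {M : Subgroup G} (hM : Group.IsSolvable ↥M)
    (hF : IsPGroup p ↥(fittingOf M)) : Helper34.coreIn p M = ⊥ := by
  have hL : Helper34.coreIn p M ≤ fittingOf M := by
    apply f81_le_fittingOf_of_le_centralizer hM (Helper34.coreIn_le p M)
    intro q hq
    haveI := Fact.mk hq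
    by_cases hqp : q = p
    · subst hqp
      apply f81_le_centralizer_of_coprime (Helper34.coreIn_le q M) (f81_pCoreOf_le q M)
        (uq_le_normalizer_coreIn q M) (f81_le_normalizer_pCoreOf q M)
      obtain ⟨n, hn⟩ := (f81_isPGroup_pCoreOf q M).exists_card_eq
      rw [hn]; exact Nat.Coprime.pow_right n (Helper34.card_coreIn_coprime q M)
    · have h1 : pCoreOf q M = ⊥ :=
        f81_eq_bot_of_isPGroup_of_isPGroup hqp (f81_isPGroup_pCoreOf q M)
          (hF.to_le (f81_pCoreOf_le_fittingOf q M))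
      rw [h1]
      intro x _
      refine Subgroup.mem_centralizer_iff.mpr (fun y hy => ?_)
      rw [Subgroup.mem_bot.mp hy]; simp
  exact f81_eq_bot_of_isPGroup_of_coprime (hF.to_le hL) (Helper34.card_coreIn_coprime p M)

/-- If `O_{p'}(M) = 1`, then the normalizer of a nontrivial Sylow `p`-subgroup of the maximal
subgroup `M` lies in `M`. -/
theorem f81_normalizer_le (hG : IsMinSimpleOddOrder G) {p : ℕ} [Fact p.Prime]
    {M P : Subgroup G} (hM : IsCoatom M) (hL : Helper34.coreIn p M = ⊥)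
    (hP : IsSylowOf p P M) (hP1 : P ≠ ⊥) : normalizer (P : Set G) ≤ M := by
  have hZ1 := puig_ne_bot hP.2.1 hP1
  have hMZ : M ≤ normalizer (centerOf (upperIn P) : Set G) := by
    intro m hm
    obtain ⟨a, ha, n, hn, rfl⟩ := puig_factor hG hM.1 hP m hm
    rw [hL, Subgroup.mem_bot] at ha
    rw [ha, one_mul]; exact hn
  have hNZ := uq_normalizer_eq hG hM hZ1 ((puig_le P).trans hP.1) hMZ
  exact (normalizer_le_normalizer_center_upperIn P).trans hNZ.le

/-- A normal `p`-subgroup of `M` lies in every Sylow `p`-subgroup of `M`. -/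
theorem f81_le_of_isSylowOf {p : ℕ} [Fact p.Prime] {M P R : Subgroup G} (hP : IsSylowOf p P M)
    (hRM : R ≤ M) (hR : IsPGroup p R) (hn : M ≤ normalizer (R : Set G)) : R ≤ P := by
  have h1 : IsPGroup p ↥(R ⊔ P) :=
    IsPGroup.to_sup_of_normal_left' hR hP.2.1 (hP.1.trans hn)
  have h2 := hP.2.2 (R ⊔ P) (sup_le hRM hP.1) h1 le_sup_right
  rw [← h2]; exact le_sup_left

/-- **Bender–Glauberman, Theorem 8.1(b)**. -/
theorem f81_part_b (hG : IsMinSimpleOddOrder G) {p : ℕ} [Fact p.Prime] {M P A : Subgroup G}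
    (hM : IsCoatom M) (hF : IsPGroup p ↥(fittingOf M)) (hP : IsSylowOf p P M)
    (hSCN : IsSCN P A) (hA3 : ¬ PRankLE p 2 ↥A) :
    A ≤ fittingOf M ∧ ∀ H : Subgroup G, IsCoatom H → A ≤ H → H = M := by
  have hpp : p.Prime := Fact.out
  have hsimple := hG.2.1
  have hMsolv := uq_isSolvable hG hM.1
  have hcore := f81_coreIn_eq_bot hMsolv hF
  have hA1 : A ≠ ⊥ := f81_ne_bot_of_not_pRankLE hpp hA3
  have hAP : A ≤ P := hSCN.1
  have hP1 : P ≠ ⊥ := fun h => hA1 (le_bot_iff.mp (h ▸ hAP))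
  have hNP := f81_normalizer_le hG hM hcore hP hP1
  have hPtop : IsSylowOf p P ⊤ := hP.of_normalizer_inf_le le_top (inf_le_left.trans hNP)
  obtain ⟨P', hP'⟩ := hPtop.exists_sylow_top
  have hAp : IsPGroup p A := hP.2.1.to_le hAP
  have hAM : A ≤ M := hAP.trans hP.1
  have hAcent : A ≤ centralizer (A : Set G) := by
    intro a ha
    have h1 : a ∈ P ⊓ centralizer (A : Set G) := by rw [hSCN.2.2]; exact ha
    exact h1.2
  have hAc : IsMulCommutative A :=
    ⟨⟨fun a b => Subtype.ext (Subgroup.mem_centralizer_iff.mp (hAcent b.2) a a.2)⟩⟩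
  have hpA := dvd_card_of_isPGroup_ne_bot hAp hA1
  have hpG : p ∣ Nat.card G := hpA.trans (Subgroup.card_subgroup_dvd_card A)
  have hAr1 : ¬ PRankLE p 1 ↥A := by
    intro h
    apply hA3
    intro E hE hEe
    exact (h E hE hEe).trans (Nat.pow_le_pow_right hpp.pos (by norm_num))
  -- `A ≤ F(M)`
  obtain ⟨PM, hPMeq⟩ := hP.exists_sylow
  haveI := hMsolv
  have hle : A.subgroupOf M ≤ (PM : Subgroup ↥M) := by
    intro x hx
    rw [hPMeq, Subgroup.mem_subgroupOf]
    exact hAP (Subgroup.mem_subgroupOf.mp hx)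
  have hcomm : IsMulCommutative ↥(A.subgroupOf M) :=
    ⟨⟨fun a b => Subtype.ext (Subtype.ext
      (Subgroup.mem_centralizer_iff.mp (hAcent (Subgroup.mem_subgroupOf.mp b.2)) _
        (Subgroup.mem_subgroupOf.mp a.2)))⟩⟩
  have hnorm : (PM : Subgroup ↥M) ≤ normalizer ((A.subgroupOf M : Subgroup ↥M) : Set ↥M) := by
    rw [hPMeq]
    exact subgroupOf_le_normalizer_subgroupOf hSCN.2.1
  have hAK : A.subgroupOf M ≤ pPrimePCore p ↥M :=
    Cfsg.Agent.S1457.result (uq_odd hG M) p PM (A.subgroupOf M) hle hcomm hnorm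
  have hcore' : pPrimeCore p ↥M = ⊥ :=
    (Subgroup.map_eq_bot_iff_of_injective _ M.subtype_injective).mp hcore
  have hKp : IsPGroup p ↥(pPrimePCore p ↥M) := by
    have hinj : Function.Injective (QuotientGroup.mk' (pPrimeCore p ↥M)) := by
      rw [← MonoidHom.ker_eq_bot_iff, QuotientGroup.ker_mk', hcore']
    exact (Cfsg.Agent.Helper24.isPGroup_pCore p _).comap_of_injective _ hinj
  have hKn := Helper34.pPrimePCore_normal' p ↥M
  have hAF : A ≤ fittingOf M := by
    intro a ha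
    have h1 : (⟨a, hAM ha⟩ : ↥M) ∈ pPrimePCore p ↥M := hAK (Subgroup.mem_subgroupOf.mpr ha)
    have h2 : pPrimePCore p ↥M ≤ fittingSubgroup ↥M := le_sSup ⟨hKn, hKp.isNilpotent⟩
    exact ⟨_, h2 h1, rfl⟩
  refine ⟨hAF, ?_⟩
  -- the transitivity hypothesis and the transitivity theorem
  have hTH : TransitivityHypothesis A :=
    transitivityHypothesis_criteria hG p hpG A hAp hAc
      (Or.inr ⟨P', by rw [hP']; exact hSCN, hAr1⟩)
  have hZ : ¬ RankLE 2 ↥(A ⊓ centralizer (A : Set G)) := by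
    intro h
    exact hA3 (pRankLE_of_le (le_inf le_rfl hAcent) (h p hpp))
  have hRM : fittingOf M ≤ M := f81_fittingOf_le M
  have hRP : fittingOf M ≤ P := f81_le_of_isSylowOf hP hRM hF (f81_le_normalizer_fittingOf M)
  have hRn : fittingOf M ≤ normalizer (A : Set G) := hRP.trans hSCN.2.1
  have hR1 : fittingOf M ≠ ⊥ := fun h => hA1 (le_bot_iff.mp (h ▸ hAF))
  have hRtop : fittingOf M ≠ ⊤ := fun h => hM.1 (top_le_iff.mp (h ▸ hRM))
  have hPπ : ∀ r : ℕ, r.Prime → r ∣ Nat.card (fittingOf M) → r ∣ Nat.card A := by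
    intro r hr' hrP
    by_contra hrA
    have hrp : r ≠ p := by rintro rfl; exact hrA hpA
    exact not_dvd_card_of_isPGroup hF hr' hrp hrP
  have hNR := uq_normalizer_eq hG hM hR1 hRM (f81_le_normalizer_fittingOf M)
  have hTHR := transitivityHypothesis_of_le hTH hRtop hAF hPπ
  have hKR : piCoreOf (primesNotDvd (Nat.card A)) (centralizer (fittingOf M : Set G)) = ⊥ := by
    rw [← le_bot_iff, ← hcore]
    have h1 := normalizer_le_normalizer_piCoreOf_centralizer hG hTHR
    rw [primesNotDvd_card_eq hAF hPπ, hNR] at h1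
    refine uq_le_coreIn ?_ h1 ?_
    · refine (piCoreOf_le _ _).trans ((centralizer_le_normalizer _).trans hNR.le)
    · refine Nat.Coprime.symm ((Nat.Prime.coprime_iff_not_dvd hpp).mpr (fun hdvd => ?_))
      exact (mem_of_dvd_card_piCoreOf _ _ hpp hdvd).2 hpA
  have hmax : ∀ q : ℕ, q.Prime → q ≠ p → ∀ Q ∈ maxInvSubgroups ⊤ A {q}, Q ≤ M := by
    intro q hq hqp Q hQ
    have hqA := not_dvd_card_of_isPGroup hAp hq hqp
    have htr := trans_of_rank_three hG hTH hZ hq hqA
    have hsub := maxInv_subset_of_normal hG hTH hq hqA hPπ hAF hRn htr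
    have htrR := trans_of_normal hG hTH hq hqA hPπ hAF hRn htr
    have hbot : (⊥ : Subgroup G) ∈ invSubgroups ⊤ (fittingOf M) {q} := by
      refine ⟨le_top, fun r hr' hrd => ?_, ?_⟩
      · rw [Subgroup.card_bot] at hrd
        exact absurd (Nat.dvd_one.mp hrd) hr'.one_lt.ne'
      · intro x _
        rw [Subgroup.mem_normalizer_iff]
        intro y
        simp
    obtain ⟨Q₀, hQ₀, -⟩ := exists_maxInv_ge hbot
    have hQ₀cop : (Nat.card Q₀).Coprime p := coprime_of_forall_dvd_singleton hqp hQ₀.1.2.1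
    have hMQ₀ : M ≤ normalizer (Q₀ : Set G) := by
      intro m hm
      have hmN : m ∈ normalizer (fittingOf M : Set G) := f81_le_normalizer_fittingOf M hm
      obtain ⟨k, hk, e⟩ := htrR Q₀ hQ₀ _ (conj_mem_maxInvSubgroups hmN hQ₀)
      rw [hKR, Subgroup.mem_bot] at hk
      rw [hk, map_one, one_smul] at e
      exact mem_normalizer_iff_conj_smul_eq.mpr e
    have hQ₀bot : Q₀ = ⊥ := by
      by_contra hne
      have hQtop : Q₀ ≠ ⊤ := by
        rintro rfl
        have h1 : p ∣ Nat.card (⊤ : Subgroup G) := by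
          rw [Subgroup.card_top]; exact hpG
        exact (Nat.Prime.coprime_iff_not_dvd hpp).mp hQ₀cop.symm h1
      have hNtop := normalizer_ne_top_of_simple hne hQtop
      have hNeq := uq_eq_of_coatom_le hM hNtop hMQ₀
      have hQ₀M : Q₀ ≤ M := by rw [← hNeq]; exact le_normalizer
      have h2 := uq_le_coreIn hQ₀M hMQ₀ hQ₀cop
      rw [hcore, le_bot_iff] at h2
      exact hne h2
    obtain ⟨k, -, e⟩ := htr Q₀ (hsub hQ₀) Q hQ
    have hQbot : Q = ⊥ := by
      apply Subgroup.card_eq_one.mp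
      rw [e, card_conj_smul, hQ₀bot, Subgroup.card_bot]
    rw [hQbot]; exact bot_le
  have hstar : ∀ Y ∈ invSubgroups ⊤ A (primesNotDvd p), Y ≤ M := by
    intro Y hY
    refine le_of_maxInv_le hG hAp hA1 hmax ?_ hY.2.2
    refine Nat.Coprime.symm ((Nat.Prime.coprime_iff_not_dvd hpp).mpr (fun hdvd => ?_))
    exact (hY.2.1 p hpp hdvd).2 (dvd_refl p)
  exact uq_of_star hG hM hAM hAp hA1 hstar

end Cfsg.Agent.Helper23
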