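/-
helper23: Bender–Glauberman, Theorem 8.1(a), first half: for a maximal subgroup `M` of a minimal
simple group of odd order whose Fitting subgroup `F` is not a `p`-group and an elementary abelian
`p`-subgroup `A₀` of `F` of rank at least three, the subgroup `A = C_F(A₀)` satisfies the
transitivity hypothesis and normalizes no nontrivial `π(F)'`-subgroup of `G`.
Everything lives in `Cfsg.Agent.Helper23`.
-/
import Cfsg.Agent.Helper23.Fit81b
import Cfsg.Agent.Helper62.Subnormal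

set_option autoImplicit false

namespace Cfsg.Agent.Helper23

open Cfsg Subgroup Cfsg.Agent.Helper35
open scoped commutatorElement Pointwise

universe u

variable {G : Type u} [Group G] [Finite G]

/-- `C_{F(M)}(A₀)`. -/
def f81A (M A₀ : Subgroup G) : Subgroup G := fittingOf M ⊓ centralizer (A₀ : Set G)

/-- The `r`-part `C_{O_r(M)}(A₀)` of `C_{F(M)}(A₀)`. -/
def f81Ar (r : ℕ) (M A₀ : Subgroup G) : Subgroup G := pCoreOf r M ⊓ centralizer (A₀ : Set G)

/-- The setting of Theorem 8.1(a). -/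
structure F81 (M A₀ : Subgroup G) (p : ℕ) : Prop where
  hG : IsMinSimpleOddOrder G
  hM : IsCoatom M
  hA₀ : A₀ ≤ fittingOf M
  hA₀c : IsMulCommutative ↥A₀
  hA₀e : ∀ a ∈ A₀, a ^ p = 1
  hA₀3 : p ^ 3 ≤ Nat.card A₀
  hFnp : ¬ IsPGroup p ↥(fittingOf M)

omit [Finite G] in
theorem f81_le_normalizer_inf {A X Y : Subgroup G} (hX : A ≤ normalizer (X : Set G))
    (hY : A ≤ normalizer (Y : Set G)) : A ≤ normalizer ((X ⊓ Y : Subgroup G) : Set G) := by
  intro a ha
  rw [Subgroup.mem_normalizer_iff]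
  intro g
  rw [Subgroup.mem_inf, Subgroup.mem_inf, Subgroup.mem_normalizer_iff.mp (hX ha) g,
    Subgroup.mem_normalizer_iff.mp (hY ha) g]

theorem f81_pCoreOf_ne_bot_of_dvd {q : ℕ} (hq : q.Prime) {Y H : Subgroup G}
    (hY : Y ≤ fittingOf H) (hd : q ∣ Nat.card Y) : pCoreOf q H ≠ ⊥ := by
  intro hbot
  haveI := Fact.mk hq
  obtain ⟨y, hy⟩ := exists_prime_orderOf_dvd_card' q hd
  have h2 : IsPGroup q (zpowers (y : G)) := by
    rw [IsPGroup.iff_card]
    refine ⟨1, ?_⟩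
    rw [Nat.card_zpowers, Subgroup.orderOf_coe, hy, pow_one]
  have h3 : zpowers (y : G) ≤ pCoreOf q H :=
    f81_le_pCoreOf_of_le_fittingOf ((zpowers_le.mpr y.2).trans hY) h2
  rw [hbot] at h3
  have h4 : (y : G) = 1 := Subgroup.mem_bot.mp (h3 (mem_zpowers _))
  have h5 : orderOf (y : G) = q := by rw [Subgroup.orderOf_coe]; exact hy
  rw [h4, orderOf_one] at h5
  exact hq.one_lt.ne' h5.symm

section Setup

variable {M A₀ : Subgroup G} {p : ℕ} [Fact p.Prime]

theorem F81.solv (h : F81 M A₀ p) : Group.IsSolvable ↥M := uq_isSolvable h.hG h.hM.1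

omit [Finite G] [Fact p.Prime] in
theorem F81.A₀p (h : F81 M A₀ p) : IsPGroup p A₀ := fun a => ⟨1, by
  rw [pow_one]
  exact Subtype.ext (by simpa using h.hA₀e a a.2)⟩

theorem F81.A₀_le_core (h : F81 M A₀ p) : A₀ ≤ pCoreOf p M :=
  f81_le_pCoreOf_of_le_fittingOf h.hA₀ h.A₀p

omit [Fact p.Prime] in
theorem F81.A₀_ne_bot (h : F81 M A₀ p) (hp : p.Prime) : A₀ ≠ ⊥ := by
  intro e
  have h1 := h.hA₀3
  rw [e, Subgroup.card_bot] at h1
  have := Nat.one_lt_pow (n := 3) (by norm_num) hp.one_lt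
  omega

omit [Fact p.Prime] in
theorem f81_core_comm (M : Subgroup G) {q r : ℕ} (hq : q.Prime) (hr : r.Prime) (hqr : q ≠ r) :
    pCoreOf q M ≤ centralizer (pCoreOf r M : Set G) := by
  apply f81_le_centralizer_of_coprime (f81_pCoreOf_le q M) (f81_pCoreOf_le r M)
    (f81_le_normalizer_pCoreOf q M) (f81_le_normalizer_pCoreOf r M)
  haveI := Fact.mk hq
  haveI := Fact.mk hr
  obtain ⟨a, ha⟩ := (f81_isPGroup_pCoreOf q M).exists_card_eq
  obtain ⟨b, hb⟩ := (f81_isPGroup_pCoreOf r M).exists_card_eq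
  rw [ha, hb]
  exact Nat.Coprime.pow _ _ ((Nat.coprime_primes hq hr).mpr hqr)

theorem F81.core_le_A (h : F81 M A₀ p) {r : ℕ} (hr : r.Prime) (hrp : r ≠ p) :
    pCoreOf r M ≤ f81A M A₀ := by
  haveI := Fact.mk hr
  refine le_inf (f81_pCoreOf_le_fittingOf r M) ?_
  exact (f81_core_comm M hr Fact.out hrp).trans (Subgroup.centralizer_le h.A₀_le_core)

omit [Fact p.Prime] in
theorem f81Ar_le_A {r : ℕ} (hr : r.Prime) (M A₀ : Subgroup G) : f81Ar r M A₀ ≤ f81A M A₀ := by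
  haveI := Fact.mk hr
  exact inf_le_inf (f81_pCoreOf_le_fittingOf r M) le_rfl

theorem F81.center_le_Ar (h : F81 M A₀ p) {r : ℕ} (hr : r.Prime) :
    centerOf (pCoreOf r M) ≤ f81Ar r M A₀ := by
  refine le_inf inf_le_left ?_
  by_cases hrp : r = p
  · subst hrp
    exact inf_le_right.trans (Subgroup.centralizer_le h.A₀_le_core)
  · exact inf_le_left.trans ((h.core_le_A hr hrp).trans inf_le_right)

omit [Finite G] [Fact p.Prime] in
theorem F81.A₀_le_A (h : F81 M A₀ p) : A₀ ≤ f81A M A₀ := by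
  intro a ha
  refine ⟨h.hA₀ ha, Subgroup.mem_centralizer_iff.mpr (fun b hb => ?_)⟩
  have h1 : (⟨b, hb⟩ : ↥A₀) * ⟨a, ha⟩ = ⟨a, ha⟩ * ⟨b, hb⟩ := h.hA₀c.is_comm.comm _ _
  exact congrArg Subtype.val h1

omit [Finite G] [Fact p.Prime] in
theorem f81A_le_M (M A₀ : Subgroup G) : f81A M A₀ ≤ M :=
  inf_le_left.trans (f81_fittingOf_le M)

theorem F81.core_ne_bot (h : F81 M A₀ p) : pCoreOf p M ≠ ⊥ :=
  fun e => h.A₀_ne_bot Fact.out (le_bot_iff.mp (e ▸ h.A₀_le_core))

theorem F81.dvd_card_A_iff (h : F81 M A₀ p) {q : ℕ} (hq : q.Prime) :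
    q ∣ Nat.card (f81A M A₀) ↔ pCoreOf q M ≠ ⊥ := by
  constructor
  · intro hd
    exact f81_pCoreOf_ne_bot_of_dvd hq (inf_le_left : f81A M A₀ ≤ fittingOf M) hd
  · intro hne
    haveI := Fact.mk hq
    have hZp : IsPGroup q (centerOf (pCoreOf q M)) :=
      (f81_isPGroup_pCoreOf q M).to_le inf_le_left
    have hZ1 := centerOf_ne_bot (f81_isPGroup_pCoreOf q M) hne
    exact (dvd_card_of_isPGroup_ne_bot hZp hZ1).trans
      (Subgroup.card_dvd_of_le ((h.center_le_Ar hq).trans (f81Ar_le_A hq M A₀)))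

theorem F81.dvd_card_A_of_dvd_card_F (h : F81 M A₀ p) {q : ℕ} (hq : q.Prime)
    (hd : q ∣ Nat.card (fittingOf M)) : q ∣ Nat.card (f81A M A₀) :=
  (h.dvd_card_A_iff hq).mpr (f81_pCoreOf_ne_bot_of_dvd hq le_rfl hd)

theorem F81.exists_other (h : F81 M A₀ p) (r : ℕ) :
    ∃ q : ℕ, q.Prime ∧ q ≠ r ∧ pCoreOf q M ≠ ⊥ := by
  have hpp : p.Prime := Fact.out
  by_cases hrp : r = p
  · subst hrp
    by_contra hcon
    push Not at hcon
    apply h.hFnp
    have h1 : ∀ {d : ℕ}, d.Prime → d ∣ Nat.card (fittingOf M) → d = r := by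
      intro d hd hdd
      by_contra hne
      exact f81_pCoreOf_ne_bot_of_dvd hd le_rfl hdd (hcon d hd hne)
    exact IsPGroup.of_card (Nat.eq_prime_pow_of_unique_prime_dvd Nat.card_pos.ne' h1)
  · exact ⟨p, hpp, fun e => hrp e.symm, h.core_ne_bot⟩

theorem F81.centralizer_le (h : F81 M A₀ p) {r : ℕ} (hr : r.Prime) (hne : pCoreOf r M ≠ ⊥)
    {X : Subgroup G} (hX : centerOf (pCoreOf r M) ≤ X) : centralizer (X : Set G) ≤ M := by
  haveI := Fact.mk hr
  have hZ1 := centerOf_ne_bot (f81_isPGroup_pCoreOf r M) hne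
  have hZM : centerOf (pCoreOf r M) ≤ M := inf_le_left.trans (f81_pCoreOf_le r M)
  have hMZ : M ≤ normalizer (centerOf (pCoreOf r M) : Set G) :=
    (f81_le_normalizer_pCoreOf r M).trans (normalizer_le_normalizer_centerOf _)
  have hN := uq_normalizer_eq h.hG h.hM hZ1 hZM hMZ
  exact ((Subgroup.centralizer_le hX).trans (centralizer_le_normalizer _)).trans hN.le

omit [Finite G] [Fact p.Prime] in
theorem f81A_le_normalizer_Ar (r : ℕ) (M A₀ : Subgroup G) :
    f81A M A₀ ≤ normalizer (f81Ar r M A₀ : Set G) := by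
  apply f81_le_normalizer_inf
  · exact (f81A_le_M M A₀).trans (f81_le_normalizer_pCoreOf r M)
  · intro a ha
    rw [Subgroup.mem_normalizer_iff]
    intro g
    constructor
    · intro hg
      exact Subgroup.mul_mem _ (Subgroup.mul_mem _ ha.2 hg) (Subgroup.inv_mem _ ha.2)
    · intro hg
      have := Subgroup.mul_mem _ (Subgroup.mul_mem _ (Subgroup.inv_mem _ ha.2) hg) ha.2
      have e : a⁻¹ * (a * g * a⁻¹) * a = g := by group
      rwa [e] at this

/-- `M` has no nontrivial `A`-invariant `π(F)'`-subgroup. -/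
theorem F81.no_inv (h : F81 M A₀ p) {Y : Subgroup G} (hYM : Y ≤ M)
    (hAY : f81A M A₀ ≤ normalizer (Y : Set G))
    (hY : ∀ q : ℕ, q.Prime → q ∣ Nat.card Y → ¬ q ∣ Nat.card (f81A M A₀)) : Y = ⊥ := by
  have hpp : p.Prime := Fact.out
  have hMsolv := h.solv
  have hcopF : (Nat.card Y).Coprime (Nat.card (fittingOf M)) :=
    Nat.coprime_of_dvd (fun q hq h1 h2 => hY q hq h1 (h.dvd_card_A_of_dvd_card_F hq h2))
  have hYF : Y ⊓ fittingOf M = ⊥ := disjoint_iff.mp (Subgroup.disjoint_of_coprime_natCard hcopF)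
  have hYA : Y ≤ centralizer (f81A M A₀ : Set G) := by
    intro y hy
    refine Subgroup.mem_centralizer_iff.mpr (fun a ha => ?_)
    have h1 : y * a * y⁻¹ * a⁻¹ ∈ Y ⊓ fittingOf M := by
      constructor
      · have := (Subgroup.mem_normalizer_iff.mp (hAY ha) y⁻¹).mp (Subgroup.inv_mem _ hy)
        have e : y * a * y⁻¹ * a⁻¹ = y * (a * y⁻¹ * a⁻¹) := by group
        rw [e]; exact Subgroup.mul_mem _ hy this
      · have := (Subgroup.mem_normalizer_iff.mp (f81_le_normalizer_fittingOf M (hYM hy)) a).mp ha.1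
        exact Subgroup.mul_mem _ this (Subgroup.inv_mem _ ha.1)
    rw [hYF, Subgroup.mem_bot] at h1
    calc a * y = (y * a * y⁻¹ * a⁻¹)⁻¹ * (y * a) := by group
      _ = y * a := by rw [h1, inv_one, one_mul]
  have hpA : p ∣ Nat.card (f81A M A₀) := (h.dvd_card_A_iff hpp).mpr h.core_ne_bot
  have hpY : (Nat.card Y).Coprime p :=
    Nat.Coprime.symm ((Nat.Prime.coprime_iff_not_dvd hpp).mpr (fun hd => hY p hpp hd hpA))
  have hYc : ∀ q : ℕ, q.Prime → Y ≤ centralizer (pCoreOf q M : Set G) := by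
    intro q hq
    by_cases hqp : q = p
    · rw [hqp]
      have hAB : ⁅Y, A₀⁆ = ⊥ := Subgroup.commutator_eq_bot_iff_le_centralizer.mpr
        (hYA.trans (Subgroup.centralizer_le h.A₀_le_A))
      have h1 := Cfsg.Agent.Helper24.thompson_AxB Y A₀ h.A₀p hAB hpY
        (Nat.card (pCoreOf p M)) (pCoreOf p M) le_rfl (f81_isPGroup_pCoreOf p M)
        (hYM.trans (f81_le_normalizer_pCoreOf p M))
        ((h.A₀_le_A.trans (f81A_le_M M A₀)).trans (f81_le_normalizer_pCoreOf p M))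
        ((f81Ar_le_A hpp M A₀).trans (Subgroup.le_centralizer_iff.mp hYA))
      exact Subgroup.le_centralizer_iff.mp h1
    · exact hYA.trans (Subgroup.centralizer_le (h.core_le_A hq hqp))
  have hYF' : Y ≤ fittingOf M := f81_le_fittingOf_of_le_centralizer hMsolv hYM hYc
  rw [← le_bot_iff, ← hYF]
  exact le_inf le_rfl hYF'

/-- For a proper subgroup `X ≥ A` and `q ∈ π(F)`, the `q'`-part of `A` lies in `O_{q'}(X)`. -/
theorem F81.Ar_le_coreIn (h : F81 M A₀ p) {X : Subgroup G} (hX : X ≠ ⊤)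
    (hAX : f81A M A₀ ≤ X) {q r : ℕ} (hq : q.Prime) (hr : r.Prime) (hrq : r ≠ q)
    (hne : pCoreOf q M ≠ ⊥) : f81Ar r M A₀ ≤ Helper34.coreIn q X := by
  haveI := Fact.mk hq
  haveI := Fact.mk hr
  have hcop : ∀ {Z : Subgroup G}, Z ≤ pCoreOf r M → (Nat.card Z).Coprime q := by
    intro Z hZ
    obtain ⟨n, hn⟩ := ((f81_isPGroup_pCoreOf r M).to_le hZ).exists_card_eq
    rw [hn]
    exact Nat.Coprime.pow_left n ((Nat.coprime_primes hr hq).mpr hrq)
  refine f81_le_coreIn_of_lift (W := pCoreOf r M) (uq_isSolvable h.hG hX)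
    ((f81Ar_le_A hq M A₀).trans hAX) ((f81Ar_le_A hr M A₀).trans hAX)
    ((f81_isPGroup_pCoreOf q M).to_le inf_le_left) ?_ (hcop inf_le_left) (hcop le_rfl) ?_
  · exact (inf_le_left.trans (f81_core_comm M hr hq hrq)).trans
      (Subgroup.centralizer_le inf_le_left)
  · intro x _ hxc v hv
    have hxM : x ∈ M := h.centralizer_le hq hne (h.center_le_Ar hq) hxc
    have := (Subgroup.mem_normalizer_iff.mp (f81_le_normalizer_pCoreOf r M hxM) v).mp hv.1
    exact Subgroup.mul_mem _ this (Subgroup.inv_mem _ hv.1)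

/-- Every `A`-invariant `π(F)'`-subgroup of a proper subgroup `X ≥ A` lies in `O_{q'}(X)`,
`q ∈ π(F)`. -/
theorem F81.le_coreIn_of_inv (h : F81 M A₀ p) {X : Subgroup G} (hX : X ≠ ⊤)
    (hAX : f81A M A₀ ≤ X) {Y : Subgroup G}
    (hY : Y ∈ invSubgroups X (f81A M A₀) (primesNotDvd (Nat.card (f81A M A₀))))
    {q : ℕ} (hq : q.Prime) (hqA : q ∣ Nat.card (f81A M A₀)) : Y ≤ Helper34.coreIn q X := by
  obtain ⟨r, hr, hrq, hrne⟩ := h.exists_other q
  haveI := Fact.mk hr
  have hqne := (h.dvd_card_A_iff hq).mp hqA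
  have hrA := (h.dvd_card_A_iff hr).mpr hrne
  have hYr : (Nat.card Y).Coprime r :=
    Nat.Coprime.symm ((Nat.Prime.coprime_iff_not_dvd hr).mpr (fun hd => (hY.2.1 r hr hd).2 hrA))
  have hArY : f81Ar r M A₀ ≤ normalizer (Y : Set G) := (f81Ar_le_A hr M A₀).trans hY.2.2
  have hle := f81_le_of_fixed_points_trivial (R := f81Ar r M A₀) (Y := Y)
    (N := Y ⊓ Helper34.coreIn q X) ((f81_isPGroup_pCoreOf r M).to_le inf_le_left) inf_le_left
    (Nat.Coprime.coprime_dvd_left (Subgroup.card_dvd_of_le inf_le_left) hYr) ?_ ?_ ?_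
  · exact hle.trans inf_le_right
  · exact f81_le_normalizer_inf hArY
      (((f81Ar_le_A hr M A₀).trans hAX).trans (uq_le_normalizer_coreIn q X))
  · intro y hy a ha
    refine ⟨?_, ?_⟩
    · have := (Subgroup.mem_normalizer_iff.mp (hArY ha) y).mp hy
      exact Subgroup.mul_mem _ (Subgroup.inv_mem _ hy) this
    · have haC : a ∈ Helper34.coreIn q X := h.Ar_le_coreIn hX hAX hq hr hrq hqne ha
      have hyX : y ∈ X := hY.1 hy
      have := (Subgroup.mem_normalizer_iff.mp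
        (uq_le_normalizer_coreIn q X (X.inv_mem hyX)) a).mp haC
      have e : y⁻¹ * (a * y * a⁻¹) = (y⁻¹ * a * y⁻¹⁻¹) * a⁻¹ := by group
      rw [e]; exact Subgroup.mul_mem _ this (Subgroup.inv_mem _ haC)
  · apply h.no_inv
    · exact inf_le_right.trans (h.centralizer_le hr hrne (h.center_le_Ar hr))
    · exact f81_le_normalizer_inf hY.2.2
        ((f81A_le_normalizer_Ar r M A₀).trans (normalizer_le_normalizer_centralizer _))
    · intro s hs hsd
      exact (hY.2.1 s hs (hsd.trans (Subgroup.card_dvd_of_le inf_le_left))).2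

theorem F81.A_ne_bot (h : F81 M A₀ p) : f81A M A₀ ≠ ⊥ :=
  fun e => h.A₀_ne_bot Fact.out (le_bot_iff.mp (e ▸ h.A₀_le_A))

/-- `A = C_F(A₀)` satisfies the transitivity hypothesis. -/
theorem F81.TH (h : F81 M A₀ p) : TransitivityHypothesis (f81A M A₀) := by
  have hpp : p.Prime := Fact.out
  have hAtop : f81A M A₀ ≠ ⊤ := fun e => h.hM.1 (top_le_iff.mp (e ▸ f81A_le_M M A₀))
  have hpA : p ∣ Nat.card (f81A M A₀) := (h.dvd_card_A_iff hpp).mpr h.core_ne_bot
  refine ⟨h.A_ne_bot, hAtop, fun X hX hAX => le_antisymm (sSup_le (fun Y hY => ?_)) (le_sSup ?_)⟩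
  · have hD : Y ≤ ⨅ q : {q : ℕ // q.Prime ∧ q ∣ Nat.card (f81A M A₀)},
        Helper34.coreIn q.1 X :=
      le_iInf (fun q => h.le_coreIn_of_inv hX hAX hY q.2.1 q.2.2)
    refine hD.trans (le_piCoreOf ?_ ?_ ?_)
    · exact (iInf_le _ (⟨p, hpp, hpA⟩ : {q : ℕ // q.Prime ∧ q ∣ Nat.card (f81A M A₀)})).trans
        (Helper34.coreIn_le p X)
    · intro x hx
      apply Helper24.mem_normalizer_of_conj_mem
      · intro d hd
        rw [Subgroup.mem_iInf] at hd ⊢
        intro q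
        exact (Subgroup.mem_normalizer_iff.mp (uq_le_normalizer_coreIn q.1 X hx) d).mp (hd q)
      · intro d hd
        rw [Subgroup.mem_iInf] at hd ⊢
        intro q
        have := (Subgroup.mem_normalizer_iff.mp
          (uq_le_normalizer_coreIn q.1 X (X.inv_mem hx)) d).mp (hd q)
        rwa [inv_inv] at this
    · intro s hs hsd
      refine ⟨hs, fun hsA => ?_⟩
      have h1 : Nat.card (⨅ q : {q : ℕ // q.Prime ∧ q ∣ Nat.card (f81A M A₀)},
          Helper34.coreIn q.1 X : Subgroup G) ∣ Nat.card (Helper34.coreIn s X) :=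
        Subgroup.card_dvd_of_le
          (iInf_le _ (⟨s, hs, hsA⟩ : {q : ℕ // q.Prime ∧ q ∣ Nat.card (f81A M A₀)}))
      have h2 := Helper34.card_coreIn_coprime s X
      exact (Nat.Prime.coprime_iff_not_dvd hs).mp h2.symm (hsd.trans h1)
  · exact ⟨piCoreOf_le _ _, fun s hs hsd => mem_of_dvd_card_piCoreOf _ _ hs hsd,
      hAX.trans (le_normalizer_piCoreOf _ _)⟩

end Setup

end Cfsg.Agent.Helper23
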