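/-
helper23: Bender–Glauberman, Theorem 8.1(a), second half: `C_F(A₀)` normalizes no nontrivial
`π(F)'`-subgroup, a Bender-type comparison of the Fitting subgroups of two maximal subgroups,
and the uniqueness of the maximal subgroup containing `C_F(A₀)`.
Everything lives in `Cfsg.Agent.Helper23`.
-/
import Cfsg.Agent.Helper23.Fit81c

set_option autoImplicit false

namespace Cfsg.Agent.Helper23

open Cfsg Subgroup Cfsg.Agent.Helper35
open scoped commutatorElement Pointwise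

universe u

/-! ### The Bender-type comparison lemma -/

theorem f81_pCore_ne_bot_of_dvd {K : Type*} [Group K] [Finite K] {q : ℕ} (hq : q.Prime)
    {Y : Subgroup K} (hY : Y ≤ fittingSubgroup K) (hd : q ∣ Nat.card Y) : pCore q K ≠ ⊥ := by
  intro hbot
  haveI := Fact.mk hq
  obtain ⟨y, hy⟩ := exists_prime_orderOf_dvd_card' q hd
  have h2 : IsPGroup q (zpowers (y : K)) := by
    rw [IsPGroup.iff_card]
    refine ⟨1, ?_⟩
    rw [Nat.card_zpowers, Subgroup.orderOf_coe, hy, pow_one]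
  have h3 : zpowers (y : K) ≤ pCore q K :=
    le_pCore_of_le_fittingSubgroup q ((zpowers_le.mpr y.2).trans hY) h2
  rw [hbot] at h3
  have h4 : (y : K) = 1 := Subgroup.mem_bot.mp (h3 (mem_zpowers _))
  have h5 : orderOf (y : K) = q := by rw [Subgroup.orderOf_coe]; exact hy
  rw [h4, orderOf_one] at h5
  exact hq.one_lt.ne' h5.symm

theorem f81_BF_aux {K : Type*} [Group K] [Finite K] [Group.IsSolvable K] {r q₀ : ℕ}
    [Fact r.Prime] [Fact q₀.Prime] (S : Set ℕ) (hq₀S : q₀ ∈ S) (D U : Subgroup K)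
    (hD : IsPGroup r D) (hU : IsPGroup q₀ U)
    (hDN : ∀ q ∈ S, D ≤ pPrimeCore q K)
    (hS : ∀ s : ℕ, s.Prime → s ≠ r → pCore s K ≠ ⊥ → s ∈ S)
    (hUc : pCore r K ≤ centralizer (U : Set K))
    (hnorm : ∀ n : K, n ∈ centralizer (U : Set K) → n ∈ normalizer (D : Set K)) :
    D ≤ pCore r K := by
  have hNn : (⨅ q : ↥S, pPrimeCore (q : ℕ) K).Normal :=
    Subgroup.normal_iInf_normal (fun q => inferInstance)
  have hDleN : D ≤ ⨅ q : ↥S, pPrimeCore (q : ℕ) K := le_iInf (fun q => hDN q q.2)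
  have hNq₀ : (Nat.card (⨅ q : ↥S, pPrimeCore (q : ℕ) K : Subgroup K)).Coprime q₀ :=
    Nat.Coprime.coprime_dvd_left
      (Subgroup.card_dvd_of_le (iInf_le _ (⟨q₀, hq₀S⟩ : ↥S)))
      (Cfsg.Agent.Helper22.card_pPrimeCore_coprime q₀ K)
  have hT : IsPGroup r ↥(fittingSubgroup K ⊓ ⨅ q : ↥S, pPrimeCore (q : ℕ) K) := by
    have h1 : ∀ {d : ℕ}, d.Prime →
        d ∣ Nat.card ↥(fittingSubgroup K ⊓ ⨅ q : ↥S, pPrimeCore (q : ℕ) K) → d = r := by
      intro d hd hdd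
      by_contra hne
      have hcore : pCore d K ≠ ⊥ := f81_pCore_ne_bot_of_dvd hd inf_le_left hdd
      have hdS := hS d hd hne hcore
      have h2 : Nat.card ↥(fittingSubgroup K ⊓ ⨅ q : ↥S, pPrimeCore (q : ℕ) K) ∣
          Nat.card (pPrimeCore d K) :=
        Subgroup.card_dvd_of_le (inf_le_right.trans (iInf_le _ (⟨d, hdS⟩ : ↥S)))
      exact (Nat.Prime.coprime_iff_not_dvd hd).mp
        (Cfsg.Agent.Helper22.card_pPrimeCore_coprime d K).symm (hdd.trans h2)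
    exact IsPGroup.of_card (Nat.eq_prime_pow_of_unique_prime_dvd Nat.card_pos.ne' h1)
  have hFU : fittingSubgroup K ⊓ (⨅ q : ↥S, pPrimeCore (q : ℕ) K) ≤ centralizer (U : Set K) :=
    (le_pCore_of_le_fittingSubgroup r inf_le_left hT).trans hUc
  have hNU : (⨅ q : ↥S, pPrimeCore (q : ℕ) K) ≤ centralizer (U : Set K) :=
    f81_le_centralizer_of_fitting_inf_le _ U hU hNq₀ hFU
  have hNnormD : (⨅ q : ↥S, pPrimeCore (q : ℕ) K) ≤ normalizer (D : Set K) :=
    fun n hn => hnorm n (hNU hn)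
  have hsub : D.IsSubnormal :=
    Subgroup.IsSubnormal.step D _ hDleN hNn.isSubnormal
      (Subgroup.normal_subgroupOf_of_le_normalizer hNnormD)
  exact Cfsg.Agent.Helper22.le_pCore_of_isSubnormal r hsub hD

variable {G : Type u} [Group G] [Finite G]

/-- Let `M₁`, `M₂` be maximal subgroups with `F(M₁) ≤ M₂`, such that `O_q(M₂)` centralizes
`O_r(M₁)` for `q ≠ r`, `π(F(M₂)) ⊆ π(F(M₁))` and `F(M₁)` is not of prime power order.
Then `F(M₁) ≤ F(M₂)`. -/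
theorem f81_BF (hG : IsMinSimpleOddOrder G) {M₁ M₂ : Subgroup G} (hM₁ : IsCoatom M₁)
    (hM₂ : IsCoatom M₂) (h1 : ∀ r : ℕ, r.Prime → pCoreOf r M₁ ≤ M₂)
    (h2 : ∀ q r : ℕ, q.Prime → r.Prime → q ≠ r →
      pCoreOf q M₂ ≤ centralizer (pCoreOf r M₁ : Set G))
    (h3 : ∀ r : ℕ, ∃ q : ℕ, q.Prime ∧ q ≠ r ∧ pCoreOf q M₁ ≠ ⊥)
    (h4 : ∀ r : ℕ, r.Prime → pCoreOf r M₂ ≠ ⊥ → pCoreOf r M₁ ≠ ⊥) :
    ∀ r : ℕ, r.Prime → pCoreOf r M₁ ≤ pCoreOf r M₂ := by
  intro r hr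
  haveI := Fact.mk hr
  haveI := uq_isSolvable hG hM₂.1
  obtain ⟨q₀, hq₀, hq₀r, hq₀ne⟩ := h3 r
  haveI := Fact.mk hq₀
  have hN : ∀ q : ℕ, q.Prime → pCoreOf q M₁ ≠ ⊥ →
      normalizer (pCoreOf q M₁ : Set G) = M₁ := fun q _ hne =>
    uq_normalizer_eq hG hM₁ hne (f81_pCoreOf_le q M₁) (f81_le_normalizer_pCoreOf q M₁)
  have hstep1 : ∀ q : ℕ, q.Prime → q ≠ r → pCoreOf q M₁ ≠ ⊥ →
      pCoreOf r M₁ ≤ Helper34.coreIn q M₂ := by
    intro q hq hqr hne
    haveI := Fact.mk hq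
    have hcop : (Nat.card (pCoreOf r M₁)).Coprime q := by
      obtain ⟨n, hn⟩ := (f81_isPGroup_pCoreOf r M₁).exists_card_eq
      rw [hn]
      exact Nat.Coprime.pow_left n ((Nat.coprime_primes hr hq).mpr (Ne.symm hqr))
    refine f81_le_coreIn_of_lift (W := pCoreOf r M₁) (uq_isSolvable hG hM₂.1) (h1 q hq)
      (h1 r hr) (f81_isPGroup_pCoreOf q M₁) (f81_core_comm M₁ hr hq (Ne.symm hqr)) hcop hcop ?_
    intro x _ hxc v hv
    have hxM : x ∈ M₁ := by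
      rw [← hN q hq hne]; exact centralizer_le_normalizer _ hxc
    have := (Subgroup.mem_normalizer_iff.mp (f81_le_normalizer_pCoreOf r M₁ hxM) v).mp hv
    exact Subgroup.mul_mem _ this (Subgroup.inv_mem _ hv)
  have key := f81_BF_aux (K := ↥M₂) (r := r) (q₀ := q₀)
    {q : ℕ | q.Prime ∧ q ≠ r ∧ pCoreOf q M₁ ≠ ⊥} ⟨hq₀, hq₀r, hq₀ne⟩
    ((pCoreOf r M₁).subgroupOf M₂) ((pCoreOf q₀ M₁).subgroupOf M₂)
    (f81_isPGroup_pCoreOf r M₁).comap_subtype (f81_isPGroup_pCoreOf q₀ M₁).comap_subtype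
    ?_ ?_ ?_ ?_
  · intro d hd
    exact ⟨⟨d, h1 r hr hd⟩, key (Subgroup.mem_subgroupOf.mpr hd), rfl⟩
  · intro q hqS d hd
    obtain ⟨z, hz, hzd⟩ := hstep1 q hqS.1 hqS.2.1 hqS.2.2 (Subgroup.mem_subgroupOf.mp hd)
    have e : z = d := Subtype.ext hzd
    rw [← e]; exact hz
  · intro s hs hsr hcore
    refine ⟨hs, hsr, h4 s hs (fun e => hcore ?_)⟩
    exact (Subgroup.map_eq_bot_iff_of_injective _ M₂.subtype_injective).mp e
  · intro z hz
    refine Subgroup.mem_centralizer_iff.mpr (fun u hu => Subtype.ext ?_)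
    have hzG : (z : G) ∈ pCoreOf r M₂ := ⟨z, hz, rfl⟩
    exact Subgroup.mem_centralizer_iff.mp (h2 r q₀ hr hq₀ (Ne.symm hq₀r) hzG) _
      (Subgroup.mem_subgroupOf.mp hu)
  · intro n hn
    have hnG : (n : G) ∈ centralizer (pCoreOf q₀ M₁ : Set G) := by
      refine Subgroup.mem_centralizer_iff.mpr (fun u hu => ?_)
      have := Subgroup.mem_centralizer_iff.mp hn ⟨u, h1 q₀ hq₀ hu⟩
        (Subgroup.mem_subgroupOf.mpr hu)
      exact congrArg Subtype.val this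
    have hnM₁ : (n : G) ∈ M₁ := by
      rw [← hN q₀ hq₀ hq₀ne]; exact centralizer_le_normalizer _ hnG
    have hnN := f81_le_normalizer_pCoreOf r M₁ hnM₁
    rw [Subgroup.mem_normalizer_iff]
    intro d
    rw [Subgroup.mem_subgroupOf, Subgroup.mem_subgroupOf]
    exact Subgroup.mem_normalizer_iff.mp hnN d

/-! ### No invariant `π(F)'`-subgroups -/

section Setup

variable {M A₀ : Subgroup G} {p : ℕ} [Fact p.Prime]

theorem F81.maxInv_eq_bot (h : F81 M A₀ p) {q : ℕ} (hq : q.Prime)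
    (hqA : ¬ q ∣ Nat.card (f81A M A₀)) :
    ∀ Q ∈ maxInvSubgroups ⊤ (f81A M A₀) {q}, Q = ⊥ := by
  have hpp : p.Prime := Fact.out
  have hG := h.hG
  have hsimple := hG.2.1
  have hTH := h.TH
  have hpA : p ∣ Nat.card (f81A M A₀) := (h.dvd_card_A_iff hpp).mpr h.core_ne_bot
  have hqp : q ≠ p := by rintro rfl; exact hqA hpA
  have hZ : ¬ RankLE 2 ↥(f81A M A₀ ⊓ centralizer (f81A M A₀ : Set G)) := by
    intro hR
    refine Helper21.not_pRankLE_of_elemAb (A := A₀) ?_ h.hA₀c h.hA₀e ?_ (hR p hpp)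
    · intro a ha
      refine ⟨h.A₀_le_A ha, Subgroup.mem_centralizer_iff.mpr (fun b hb => ?_)⟩
      exact (Subgroup.mem_centralizer_iff.mp hb.2 a ha).symm
    · have h1 := h.hA₀3
      have h2 : p ^ 2 < p ^ 3 := Nat.pow_lt_pow_right hpp.one_lt (by norm_num)
      omega
  have htr := trans_of_rank_three hG hTH hZ hq hqA
  have hK : piCoreOf (primesNotDvd (Nat.card (f81A M A₀)))
      (centralizer (f81A M A₀ : Set G)) = ⊥ := by
    apply h.no_inv
    · exact (piCoreOf_le _ _).trans (h.centralizer_le hpp h.core_ne_bot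
        ((h.center_le_Ar hpp).trans (f81Ar_le_A hpp M A₀)))
    · exact le_normalizer.trans (normalizer_le_normalizer_piCoreOf_centralizer hG hTH)
    · intro s hs hsd
      exact (mem_of_dvd_card_piCoreOf _ _ hs hsd).2
  have heq : ∀ Q₁ ∈ maxInvSubgroups ⊤ (f81A M A₀) {q},
      ∀ Q₂ ∈ maxInvSubgroups ⊤ (f81A M A₀) {q}, Q₂ = Q₁ := by
    intro Q₁ h₁ Q₂ h₂
    obtain ⟨k, hk, e⟩ := htr Q₁ h₁ Q₂ h₂
    rw [hK, Subgroup.mem_bot] at hk
    rw [hk, map_one, one_smul] at e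
    exact e
  haveI hFnil : Group.IsNilpotent ↥(fittingOf M) :=
    (Group.isNilpotent_congr
      ((fittingSubgroup ↥M).equivMapOfInjective M.subtype M.subtype_injective)).mp
      (Cfsg.Agent.Helper22.fittingSubgroup_isNilpotent ↥M)
  have hsn : ((f81A M A₀).subgroupOf (fittingOf M)).IsSubnormal :=
    Cfsg.Agent.Helper62.isSubnormal_of_isNilpotent _
  have hFtop : fittingOf M ≠ ⊤ := fun e => h.hM.1 (top_le_iff.mp (e ▸ f81_fittingOf_le M))
  have hPπ : ∀ r : ℕ, r.Prime → r ∣ Nat.card (fittingOf M) → r ∣ Nat.card (f81A M A₀) :=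
    fun r hr hd => h.dvd_card_A_of_dvd_card_F hr hd
  obtain ⟨-, -, hsub, -⟩ := superset_of_trans hG hTH hq hqA hFtop hPπ inf_le_left hsn htr
  have hbot : (⊥ : Subgroup G) ∈ invSubgroups ⊤ (fittingOf M) {q} := by
    refine ⟨le_top, fun r hr' hrd => ?_, ?_⟩
    · rw [Subgroup.card_bot] at hrd
      exact absurd (Nat.dvd_one.mp hrd) hr'.one_lt.ne'
    · intro x _
      rw [Subgroup.mem_normalizer_iff]
      intro y
      simp
  obtain ⟨Q₀, hQ₀, -⟩ := exists_maxInv_ge hbot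
  have hQ₀A := hsub hQ₀
  have hMQ₀ : M ≤ normalizer (Q₀ : Set G) := by
    intro m hm
    have hmN : m ∈ normalizer (fittingOf M : Set G) := f81_le_normalizer_fittingOf M hm
    have := heq Q₀ hQ₀A _ (hsub (conj_mem_maxInvSubgroups hmN hQ₀))
    exact mem_normalizer_iff_conj_smul_eq.mpr this
  have hQ₀bot : Q₀ = ⊥ := by
    by_contra hne
    have hQtop : Q₀ ≠ ⊤ := by
      rintro rfl
      have h1 : p ∣ Nat.card (⊤ : Subgroup G) := by
        rw [Subgroup.card_top]; exact hpA.trans (Subgroup.card_subgroup_dvd_card _)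
      have h2 := hQ₀.1.2.1 p hpp h1
      exact hqp (Set.mem_singleton_iff.mp h2).symm
    have hNtop := normalizer_ne_top_of_simple hne hQtop
    have hNeq := uq_eq_of_coatom_le h.hM hNtop hMQ₀
    have hQ₀M : Q₀ ≤ M := by rw [← hNeq]; exact le_normalizer
    apply hne
    apply h.no_inv hQ₀M hQ₀A.1.2.2
    intro s hs hsd
    have h3 := hQ₀.1.2.1 s hs hsd
    rw [Set.mem_singleton_iff.mp h3]; exact hqA
  intro Q hQ
  rw [heq Q₀ hQ₀A Q hQ, hQ₀bot]

/-- `G` has no nontrivial `A`-invariant `π(F)'`-subgroup. -/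
theorem F81.inv_eq_bot (h : F81 M A₀ p) {Y : Subgroup G}
    (hAY : f81A M A₀ ≤ normalizer (Y : Set G))
    (hY : ∀ q : ℕ, q.Prime → q ∣ Nat.card Y → ¬ q ∣ Nat.card (f81A M A₀)) : Y = ⊥ := by
  have hpp : p.Prime := Fact.out
  have hpA : p ∣ Nat.card (f81A M A₀) := (h.dvd_card_A_iff hpp).mpr h.core_ne_bot
  have hYtop : Y ≠ ⊤ := by
    rintro rfl
    have h1 : p ∣ Nat.card (⊤ : Subgroup G) := by
      rw [Subgroup.card_top]; exact hpA.trans (Subgroup.card_subgroup_dvd_card _)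
    exact hY p hpp h1 hpA
  have hYsolv := uq_isSolvable h.hG hYtop
  have hcop : (Nat.card (f81A M A₀)).Coprime (Nat.card Y) :=
    Nat.coprime_of_dvd (fun q hq h1 h2 => hY q hq h2 h1)
  by_contra hne
  have h1 : Nat.card Y ≠ 1 := fun e => hne (Subgroup.card_eq_one.mp e)
  obtain ⟨q, hq, hqd⟩ := Nat.exists_prime_and_dvd h1
  obtain ⟨⟨Yq, hYq, hAYq⟩, -, -⟩ :=
    Cfsg.Agent.S3745.result (f81A M A₀) Y hAY hcop hYsolv {q}
  have hinv : Yq ∈ invSubgroups ⊤ (f81A M A₀) {q} := ⟨le_top, hYq.2.1, hAYq⟩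
  obtain ⟨Q, hQ, hYqQ⟩ := exists_maxInv_ge hinv
  have hQbot := h.maxInv_eq_bot hq (hY q hq hqd) Q hQ
  rw [hQbot, le_bot_iff] at hYqQ
  have h2 := hYq.2.2 q hq rfl
  rw [hYqQ, Subgroup.relIndex_bot_left] at h2
  exact h2 hqd

end Setup

end Cfsg.Agent.Helper23
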