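/-
helper23: Bender–Glauberman, Theorem 8.1(a), conclusion: `C_F(A₀)` lies in a unique maximal
subgroup.  Everything lives in `Cfsg.Agent.Helper23`.
-/
import Cfsg.Agent.Helper23.Fit81d

set_option autoImplicit false

namespace Cfsg.Agent.Helper23

open Cfsg Subgroup Cfsg.Agent.Helper35
open scoped commutatorElement Pointwise

universe u

variable {G : Type u} [Group G] [Finite G]

section Setup

variable {M A₀ : Subgroup G} {p : ℕ} [Fact p.Prime]

theorem f81_coprime_of_isPGroup {q r : ℕ} (hq : q.Prime) (hr : r.Prime) (hqr : q ≠ r)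
    {X Y : Subgroup G} (hX : IsPGroup q X) (hY : IsPGroup r Y) :
    (Nat.card X).Coprime (Nat.card Y) := by
  haveI := Fact.mk hq
  haveI := Fact.mk hr
  obtain ⟨a, ha⟩ := hX.exists_card_eq
  obtain ⟨b, hb⟩ := hY.exists_card_eq
  rw [ha, hb]
  exact Nat.Coprime.pow _ _ ((Nat.coprime_primes hq hr).mpr hqr)

/-- Step (a): `π(F(H)) ⊆ π(F(M))`. -/
theorem F81.core_ne_bot_of (h : F81 M A₀ p) {H : Subgroup G} (hAH : f81A M A₀ ≤ H)
    {q : ℕ} (hq : q.Prime) (hne : pCoreOf q H ≠ ⊥) : pCoreOf q M ≠ ⊥ := by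
  intro hbot
  haveI := Fact.mk hq
  apply hne
  apply h.inv_eq_bot (hAH.trans (f81_le_normalizer_pCoreOf q H))
  intro s hs hsd hsA
  obtain ⟨n, hn⟩ := (f81_isPGroup_pCoreOf q H).exists_card_eq
  rw [hn] at hsd
  have hsq : s = q := (Nat.prime_dvd_prime_iff_eq hs hq).mp (hs.dvd_of_dvd_pow hsd)
  rw [hsq] at hsA
  exact (h.dvd_card_A_iff hq).mp hsA hbot

/-- Step (c). -/
theorem F81.core_le_centralizer_Ar (h : F81 M A₀ p) {H : Subgroup G} (hH : H ≠ ⊤)
    (hAH : f81A M A₀ ≤ H) {q r : ℕ} (hq : q.Prime) (hr : r.Prime) (hrq : r ≠ q) :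
    pCoreOf q H ≤ centralizer (f81Ar r M A₀ : Set G) := by
  haveI := Fact.mk hq
  by_cases hne : pCoreOf q H = ⊥
  · rw [hne]; exact bot_le
  · have h1 := h.Ar_le_coreIn hH hAH hq hr hrq (h.core_ne_bot_of hAH hq hne)
    have hcop : (Nat.card (pCoreOf q H)).Coprime (Nat.card (Helper34.coreIn q H)) := by
      obtain ⟨n, hn⟩ := (f81_isPGroup_pCoreOf q H).exists_card_eq
      rw [hn]
      exact Nat.Coprime.pow_left n (Helper34.card_coreIn_coprime q H).symm
    have h2 := f81_le_centralizer_of_coprime (f81_pCoreOf_le q H) (Helper34.coreIn_le q H)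
      (f81_le_normalizer_pCoreOf q H) (uq_le_normalizer_coreIn q H) hcop
    exact h2.trans (Subgroup.centralizer_le h1)

/-- Step (d). -/
theorem F81.core_le_M (h : F81 M A₀ p) {H : Subgroup G} (hH : H ≠ ⊤)
    (hAH : f81A M A₀ ≤ H) {q : ℕ} (hq : q.Prime) : pCoreOf q H ≤ M := by
  obtain ⟨r, hr, hrq, hrne⟩ := h.exists_other q
  exact (h.core_le_centralizer_Ar hH hAH hq hr hrq).trans
    (h.centralizer_le hr hrne (h.center_le_Ar hr))

/-- Step (e). -/
theorem F81.core_le_centralizer_core (h : F81 M A₀ p) {H : Subgroup G} (hH : H ≠ ⊤)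
    (hAH : f81A M A₀ ≤ H) {q r : ℕ} (hq : q.Prime) (hr : r.Prime) (hqr : q ≠ r) :
    pCoreOf q H ≤ centralizer (pCoreOf r M : Set G) := by
  have hpp : p.Prime := Fact.out
  haveI := Fact.mk hq
  by_cases hrp : r = p
  · subst hrp
    have hc := h.core_le_centralizer_Ar hH hAH hq hr (Ne.symm hqr)
    have hA₀Ar : A₀ ≤ f81Ar r M A₀ := le_inf h.A₀_le_core (h.A₀_le_A.trans inf_le_right)
    have hAB : ⁅pCoreOf q H, A₀⁆ = ⊥ := Subgroup.commutator_eq_bot_iff_le_centralizer.mpr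
      (hc.trans (Subgroup.centralizer_le hA₀Ar))
    have hcop : (Nat.card (pCoreOf q H)).Coprime r := by
      obtain ⟨n, hn⟩ := (f81_isPGroup_pCoreOf q H).exists_card_eq
      rw [hn]
      exact Nat.Coprime.pow_left n ((Nat.coprime_primes hq hr).mpr hqr)
    have h1 := Cfsg.Agent.Helper24.thompson_AxB (pCoreOf q H) A₀ h.A₀p hAB hcop
      (Nat.card (pCoreOf r M)) (pCoreOf r M) le_rfl (f81_isPGroup_pCoreOf r M)
      ((h.core_le_M hH hAH hq).trans (f81_le_normalizer_pCoreOf r M))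
      ((h.A₀_le_A.trans (f81A_le_M M A₀)).trans (f81_le_normalizer_pCoreOf r M))
      (Subgroup.le_centralizer_iff.mp hc)
    exact Subgroup.le_centralizer_iff.mp h1
  · have h1 : pCoreOf r M ≤ f81Ar r M A₀ :=
      le_inf le_rfl ((h.core_le_A hr hrp).trans inf_le_right)
    exact (h.core_le_centralizer_Ar hH hAH hq hr (Ne.symm hqr)).trans
      (Subgroup.centralizer_le h1)

/-- Step (f): `F(H)` is not of prime power order. -/
theorem F81.exists_other_of (h : F81 M A₀ p) {H : Subgroup G} (hH : H ≠ ⊤)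
    (hAH : f81A M A₀ ≤ H) (r : ℕ) : ∃ q : ℕ, q.Prime ∧ q ≠ r ∧ pCoreOf q H ≠ ⊥ := by
  by_contra hcon
  push Not at hcon
  have hHsolv := uq_isSolvable h.hG hH
  have hH1 : H ≠ ⊥ := fun e => h.A_ne_bot (le_bot_iff.mp (e ▸ hAH))
  -- some `O_q(H)` is nontrivial
  have hex : ∃ q : ℕ, q.Prime ∧ pCoreOf q H ≠ ⊥ := by
    by_contra hno
    push Not at hno
    apply hH1
    have h1 : H ≤ fittingOf H := by
      apply f81_le_fittingOf_of_le_centralizer hHsolv le_rfl
      intro q hq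
      rw [hno q hq]
      intro x _
      refine Subgroup.mem_centralizer_iff.mpr (fun y hy => ?_)
      rw [SetLike.mem_coe, Subgroup.mem_bot] at hy
      rw [hy, one_mul, mul_one]
    exact f81_eq_bot_of_le_fittingOf h1 (fun q hq _ => hno q hq)
  obtain ⟨q₁, hq₁, hq₁ne⟩ := hex
  have hq₁r : q₁ = r := by
    by_contra hne
    exact hq₁ne (hcon q₁ hq₁ hne)
  subst hq₁r
  haveI := Fact.mk hq₁
  have hF : IsPGroup q₁ ↥(fittingOf H) := by
    have h1 : ∀ {d : ℕ}, d.Prime → d ∣ Nat.card (fittingOf H) → d = q₁ := by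
      intro d hd hdd
      by_contra hne
      exact f81_pCoreOf_ne_bot_of_dvd hd le_rfl hdd (hcon d hd hne)
    exact IsPGroup.of_card (Nat.eq_prime_pow_of_unique_prime_dvd Nat.card_pos.ne' h1)
  have hcore := f81_coreIn_eq_bot hHsolv hF
  obtain ⟨s, hs, hsr, hsne⟩ := h.exists_other q₁
  haveI := Fact.mk hs
  have h2 := h.Ar_le_coreIn hH hAH hq₁ hs hsr (h.core_ne_bot_of hAH hq₁ hq₁ne)
  rw [hcore] at h2
  have h3 := (h.center_le_Ar hs).trans h2
  exact centerOf_ne_bot (f81_isPGroup_pCoreOf s M) hsne (le_bot_iff.mp h3)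

/-- **Bender–Glauberman, Theorem 8.1(a)**: `C_{F(M)}(A₀)` lies in no maximal subgroup other
than `M`. -/
theorem F81.unique (h : F81 M A₀ p) :
    ∀ H : Subgroup G, IsCoatom H → f81A M A₀ ≤ H → H = M := by
  intro H hH hAH
  have hpp : p.Prime := Fact.out
  have hG := h.hG
  have ha : ∀ r : ℕ, r.Prime → pCoreOf r H ≠ ⊥ → pCoreOf r M ≠ ⊥ :=
    fun r hr hne => h.core_ne_bot_of hAH hr hne
  have hd : ∀ r : ℕ, r.Prime → pCoreOf r H ≤ M := fun r hr => h.core_le_M hH.1 hAH hr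
  have he : ∀ q r : ℕ, q.Prime → r.Prime → q ≠ r →
      pCoreOf q H ≤ centralizer (pCoreOf r M : Set G) :=
    fun q r hq hr hqr => h.core_le_centralizer_core hH.1 hAH hq hr hqr
  have hf := h.exists_other_of hH.1 hAH
  have hg : ∀ r : ℕ, r.Prime → pCoreOf r M ≤ H := by
    intro r hr
    obtain ⟨q, hq, hqr, hqne⟩ := hf r
    have h1 : pCoreOf r M ≤ centralizer (pCoreOf q H : Set G) :=
      Subgroup.le_centralizer_iff.mp (he q r hq hr hqr)
    have h2 := uq_normalizer_eq hG hH hqne (f81_pCoreOf_le q H) (f81_le_normalizer_pCoreOf q H)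
    exact (h1.trans (centralizer_le_normalizer _)).trans h2.le
  have hBF1 := f81_BF hG h.hM hH hg he h.exists_other ha
  have hBF2 := f81_BF hG hH h.hM hd
    (fun q r hq hr hqr => Subgroup.le_centralizer_iff.mp (he r q hr hq (Ne.symm hqr))) hf
    (fun r hr hne e => hne (le_bot_iff.mp (e ▸ hBF1 r hr)))
  have heq : pCoreOf p H = pCoreOf p M := le_antisymm (hBF2 p hpp) (hBF1 p hpp)
  have hN1 := uq_normalizer_eq hG h.hM h.core_ne_bot (f81_pCoreOf_le p M)
    (f81_le_normalizer_pCoreOf p M)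
  have hN2 := uq_normalizer_eq hG hH (heq ▸ h.core_ne_bot) (f81_pCoreOf_le p H)
    (f81_le_normalizer_pCoreOf p H)
  rw [← hN2, heq, hN1]

end Setup

end Cfsg.Agent.Helper23
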