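/-
helper23: Bender–Glauberman, Theorem 9.6 (the Uniqueness Theorem), derived from Lemma 9.5
(self-centralizing normal subgroups of rank at least three of a Sylow subgroup lie in a unique
maximal subgroup), which enters as a hypothesis.  Everything lives in `Cfsg.Agent.Helper23`.
-/
import Cfsg.Agent.Helper23.Fit81e

set_option autoImplicit false

namespace Cfsg.Agent.Helper23

open Cfsg Subgroup
open scoped Pointwise

universe u

variable {G : Type u} [Group G] [Finite G]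

omit [Finite G] in
theorem uq_abelian_ne_top (hG : IsMinSimpleOddOrder G) {E : Subgroup G}
    (hE : IsMulCommutative ↥E) : E ≠ ⊤ := by
  rintro rfl
  apply hG.2.2.1
  refine ⟨⟨fun a b => ?_⟩⟩
  have h1 : (⟨a, Subgroup.mem_top a⟩ : ↥(⊤ : Subgroup G)) * ⟨b, Subgroup.mem_top b⟩ =
      ⟨b, Subgroup.mem_top b⟩ * ⟨a, Subgroup.mem_top a⟩ := hE.is_comm.comm _ _
  exact congrArg Subtype.val h1

theorem uq_inUniqueMaximal_of_le {E K : Subgroup G} (hE : InUniqueMaximal E) (hEK : E ≤ K)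
    (hK : K ≠ ⊤) : InUniqueMaximal K := by
  obtain ⟨M, ⟨hM, -⟩, huniq⟩ := hE
  obtain ⟨H, hH, hKH⟩ := uq_exists_coatom_ge hK
  have h1 : H = M := huniq H ⟨hH, hEK.trans hKH⟩
  exact ⟨M, ⟨hM, h1 ▸ hKH⟩, fun H' hH' => huniq H' ⟨hH'.1, hEK.trans hH'.2⟩⟩

/-- The hypothesis "Lemma 9.5 holds in `G`". -/
def UQ95 (G : Type u) [Group G] : Prop :=
  ∀ (p : ℕ) [Fact p.Prime] (P : Sylow p G) (A : Subgroup G),
    IsSCN (P : Subgroup G) A → ¬ PRankLE p 2 ↥A → InUniqueMaximal A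

/-- An elementary abelian `q`-subgroup of order greater than `q ^ 2` lies in a unique maximal
subgroup. -/
theorem uq_96_elemAb (hG : IsMinSimpleOddOrder G) (h95 : UQ95 G) {q : ℕ} (hq : q.Prime)
    {E : Subgroup G} (hEc : IsMulCommutative ↥E) (hEe : ∀ x ∈ E, x ^ q = 1)
    (hcard : q ^ 2 < Nat.card E) : InUniqueMaximal E := by
  haveI := Fact.mk hq
  have hEp : IsPGroup q E := fun a => ⟨1, by
    rw [pow_one]
    exact Subtype.ext (by simpa using hEe a a.2)⟩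
  have hE3 : ¬ PRankLE q 2 ↥E :=
    Helper21.not_pRankLE_of_elemAb le_rfl hEc hEe (not_le.mpr hcard)
  have hE1 : E ≠ ⊥ := f81_ne_bot_of_not_pRankLE hq hE3
  have hq2 : q ≠ 2 := by
    intro e
    have h1 : q ∣ Nat.card E := dvd_card_of_isPGroup_ne_bot hEp hE1
    have h2 := uq_odd hG E
    rw [e] at h1
    exact (Nat.not_even_iff_odd.mpr h2) (even_iff_two_dvd.mpr h1)
  obtain ⟨P, hEP⟩ := hEp.exists_le_sylow
  have hPr : ¬ PRankLE q 2 ↥(P : Subgroup G) :=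
    Helper21.not_pRankLE_of_elemAb hEP hEc hEe (not_le.mpr hcard)
  obtain ⟨A, hSCN, hA3⟩ := exists_isSCN_rank3 hq2 P.2 hPr
  have hAU := h95 q P A hSCN hA3
  have hAp : IsPGroup q A := P.2.to_le hSCN.1
  have hAc : IsMulCommutative ↥A := by
    refine ⟨⟨fun x y => Subtype.ext ?_⟩⟩
    have hy : (y : G) ∈ (P : Subgroup G) ⊓ Subgroup.centralizer (A : Set G) := by
      rw [hSCN.2.2]; exact y.2
    exact Subgroup.mem_centralizer_iff.mp hy.2 x x.2
  refine uq_93 hG q A E hAp hAc hA3 hAU hEp (not_isCyclic_of_not_pRankLE hE3) ?_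
  refine Helper21.not_pRankLE_mono ?_ hE3
  intro a ha
  refine Subgroup.mem_centralizer_iff.mpr (fun b hb => ?_)
  have h1 : (⟨b, hb⟩ : ↥E) * ⟨a, ha⟩ = ⟨a, ha⟩ * ⟨b, hb⟩ := hEc.is_comm.comm _ _
  exact congrArg Subtype.val h1

/-- **Bender–Glauberman, Theorem 9.6** (the Uniqueness Theorem), from Lemma 9.5. -/
theorem uq_96 (hG : IsMinSimpleOddOrder G) (h95 : UQ95 G) (K : Subgroup G) (hK : K ≠ ⊤)
    (hK2 : ¬ RankLE 1 ↥K)
    (hK3 : ¬ RankLE 2 ↥K ∨ ¬ RankLE 2 ↥(Subgroup.centralizer (K : Set G))) :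
    InUniqueMaximal K := by
  rcases hK3 with hK3 | hK3
  · unfold RankLE at hK3
    push Not at hK3
    obtain ⟨q, hq, hqr⟩ := hK3
    obtain ⟨E, hEK, hEc, hEe, hcard⟩ := exists_elemAb_of_not_pRankLE hqr
    exact uq_inUniqueMaximal_of_le (uq_96_elemAb hG h95 hq hEc hEe hcard) hEK hK
  · unfold RankLE at hK3
    push Not at hK3
    obtain ⟨q, hq, hqr⟩ := hK3
    obtain ⟨E, hEC, hEc, hEe, hcard⟩ := exists_elemAb_of_not_pRankLE hqr
    have hEU := uq_96_elemAb hG h95 hq hEc hEe hcard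
    exact uq_92 hG hEU (Subgroup.le_centralizer_iff.mp hEC) hK2

end Cfsg.Agent.Helper23
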