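/-
helper23: the "datum" lemma for Bender–Glauberman, Theorem 9.5 (piece D1 of the split of S1402):
for a maximal subgroup `M` whose Fitting subgroup has `s`-rank at least three, `O_s(M)` lies in
no other maximal subgroup, and `W = Ω₁(Z₂(O_s(M)))` is an `M`-invariant subgroup of exponent `s`
and class at most two all of whose subgroups of order at least `s ^ 2`, and all centralizers of
whose non-identity elements, lie in no maximal subgroup other than `M`.
Everything lives in `Cfsg.Agent.Helper23`.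
-/
import Cfsg.Agent.Helper23.Uniq4
import Cfsg.Agent.S1401
import Cfsg.Agent.S1452
import Cfsg.Agent.Helper62.Narrow
import Cfsg.Agent.Helper76.PGroup
import Cfsg.Agent.Helper1.BGUniqA

set_option autoImplicit false

namespace Cfsg.Agent.Helper23

open Cfsg Subgroup
open scoped commutatorElement

universe u

/-! ### A normal subgroup of order `p ^ 2` of a `p`-group lies in the second centre -/

theorem bg95_comm_mem_center {P : Type*} [Group P] [Finite P] {p : ℕ} [Fact p.Prime]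
    (hP : IsPGroup p P) (N : Subgroup P) [N.Normal] (hN : Nat.card N = p ^ 2) {x : P}
    (hx : x ∈ N) (g : P) : ⁅x, g⁆ ∈ center P := by
  have hpp : p.Prime := Fact.out
  have hN1 : N ≠ ⊥ := by
    rintro rfl
    rw [Subgroup.card_bot] at hN
    have := Nat.one_lt_pow (n := 2) (by norm_num) hpp.one_lt
    omega
  have hlt : ⁅N, (⊤ : Subgroup P)⁆ < N :=
    Cfsg.Agent.Helper24.commutator_lt_of_isPGroup (hP.to_subgroup N) (hP.to_subgroup ⊤)
      (by rw [Subgroup.normalizer_eq_top_iff.mpr inferInstance]) hN1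
  have hcardlt := Cfsg.Agent.Helper76.card_lt_of_lt hlt
  have hdvd : Nat.card ↥⁅N, (⊤ : Subgroup P)⁆ ∣ p ^ 2 := by
    rw [← hN]; exact Subgroup.card_dvd_of_le hlt.le
  obtain ⟨k, hk2, hk⟩ := (Nat.dvd_prime_pow hpp).mp hdvd
  have hk1 : k ≤ 1 := by
    by_contra hcon
    have : k = 2 := by omega
    rw [hk, this, hN] at hcardlt
    exact lt_irrefl _ hcardlt
  have hmem : ⁅x, g⁆ ∈ ⁅N, (⊤ : Subgroup P)⁆ :=
    Subgroup.commutator_mem_commutator hx (Subgroup.mem_top g)
  rcases Nat.eq_zero_or_pos k with h0 | h0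
  · rw [h0, pow_zero] at hk
    rw [Subgroup.card_eq_one.mp hk, Subgroup.mem_bot] at hmem
    rw [hmem]; exact Subgroup.one_mem _
  · have hk' : k = 1 := by omega
    rw [hk', pow_one] at hk
    exact Cfsg.Agent.Helper76.normal_card_prime_le_center hP _ hk hmem

variable {G : Type u} [Group G] [Finite G]

/-! ### The subgroup `Ω₁(Z₂(S))` -/

omit [Finite G] in
/-- `Ω₁(Z₂(S))` for an odd prime `s`: the elements of `S` of order dividing `s` all of whose
commutators with elements of `S` centralize `S`. -/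
def bg95W (s : ℕ) [Fact s.Prime] (hs : s ≠ 2) (S : Subgroup G) : Subgroup G where
  carrier := {x | x ∈ S ∧ x ^ s = 1 ∧ ∀ g ∈ S, ⁅x, g⁆ ∈ centralizer (S : Set G)}
  one_mem' := ⟨S.one_mem, one_pow s, fun g _ => by
    rw [commutatorElement_one_left]; exact Subgroup.one_mem _⟩
  mul_mem' := by
    rintro x y ⟨hx, hxs, hxc⟩ ⟨hy, hys, hyc⟩
    refine ⟨S.mul_mem hx hy, ?_, ?_⟩
    · have hc : ⁅y, x⁆ ∈ centralizer (S : Set G) := hyc x hx
      have h1 : Commute ⁅y, x⁆ x := (Subgroup.mem_centralizer_iff.mp hc x hx).symm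
      have h2 : Commute ⁅y, x⁆ y := (Subgroup.mem_centralizer_iff.mp hc y hy).symm
      rw [Cfsg.Agent.Helper62.Narrow.class2_mul_pow s hs x y h1 h2
        (by rw [hys]; exact Commute.one_left x), hxs, hys, one_mul]
    · intro g hg
      have h4 : x * ⁅y, g⁆ = ⁅y, g⁆ * x := Subgroup.mem_centralizer_iff.mp (hyc g hg) x hx
      have h5 : ⁅x * y, g⁆ = x * ⁅y, g⁆ * x⁻¹ * ⁅x, g⁆ := by
        simp only [commutatorElement_def]; group
      have h6 : ⁅x * y, g⁆ = ⁅y, g⁆ * ⁅x, g⁆ := by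
        rw [h5, h4]; group
      rw [h6]; exact Subgroup.mul_mem _ (hyc g hg) (hxc g hg)
  inv_mem' := by
    rintro x ⟨hx, hxs, hxc⟩
    refine ⟨S.inv_mem hx, by rw [inv_pow, hxs, inv_one], ?_⟩
    intro g hg
    have h4 : x * ⁅x, g⁆ = ⁅x, g⁆ * x := Subgroup.mem_centralizer_iff.mp (hxc g hg) x hx
    have h5 : ⁅x⁻¹, g⁆ = x⁻¹ * (⁅x, g⁆)⁻¹ * x := by
      simp only [commutatorElement_def]; group
    have h6 : ⁅x⁻¹, g⁆ = (⁅x, g⁆)⁻¹ := by
      rw [h5]
      have h7 : (⁅x, g⁆)⁻¹ * x = x * (⁅x, g⁆)⁻¹ := by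
        calc (⁅x, g⁆)⁻¹ * x = (⁅x, g⁆)⁻¹ * (x * ⁅x, g⁆) * (⁅x, g⁆)⁻¹ := by group
          _ = (⁅x, g⁆)⁻¹ * (⁅x, g⁆ * x) * (⁅x, g⁆)⁻¹ := by rw [h4]
          _ = x * (⁅x, g⁆)⁻¹ := by group
      rw [mul_assoc, h7]; group
    rw [h6]; exact Subgroup.inv_mem _ (hxc g hg)

omit [Finite G] in
theorem mem_bg95W {s : ℕ} [Fact s.Prime] {hs : s ≠ 2} {S : Subgroup G} {x : G} :
    x ∈ bg95W s hs S ↔ x ∈ S ∧ x ^ s = 1 ∧ ∀ g ∈ S, ⁅x, g⁆ ∈ centralizer (S : Set G) :=
  Iff.rfl

omit [Finite G] in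
theorem bg95W_conj_mem {s : ℕ} [Fact s.Prime] {hs : s ≠ 2} {S : Subgroup G} {m x : G}
    (hm : m ∈ normalizer (S : Set G)) (hx : x ∈ bg95W s hs S) :
    m * x * m⁻¹ ∈ bg95W s hs S := by
  obtain ⟨hxS, hxs, hxc⟩ := hx
  have hm' : m⁻¹ ∈ normalizer (S : Set G) := Subgroup.inv_mem _ hm
  refine ⟨(Subgroup.mem_normalizer_iff.mp hm x).mp hxS, by rw [conj_pow, hxs]; simp, ?_⟩
  intro g hg
  have hg' : m⁻¹ * g * m ∈ S := by
    have := (Subgroup.mem_normalizer_iff.mp hm' g).mp hg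
    rwa [inv_inv] at this
  have h1 : ⁅m * x * m⁻¹, g⁆ = m * ⁅x, m⁻¹ * g * m⁆ * m⁻¹ := by
    simp only [commutatorElement_def]; group
  rw [h1, Subgroup.mem_centralizer_iff]
  intro h hh
  have hh' : m⁻¹ * h * m ∈ S := by
    have := (Subgroup.mem_normalizer_iff.mp hm' h).mp hh
    rwa [inv_inv] at this
  have h2 := Subgroup.mem_centralizer_iff.mp (hxc _ hg') _ hh'
  calc h * (m * ⁅x, m⁻¹ * g * m⁆ * m⁻¹)
      = m * (m⁻¹ * h * m * ⁅x, m⁻¹ * g * m⁆) * m⁻¹ := by group
    _ = m * (⁅x, m⁻¹ * g * m⁆ * (m⁻¹ * h * m)) * m⁻¹ := by rw [h2]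
    _ = m * ⁅x, m⁻¹ * g * m⁆ * m⁻¹ * h := by group

omit [Finite G] in
theorem bg95W_normalizer {s : ℕ} [Fact s.Prime] {hs : s ≠ 2} {S : Subgroup G} :
    normalizer (S : Set G) ≤ normalizer (bg95W s hs S : Set G) := by
  intro m hm
  apply Helper24.mem_normalizer_of_conj_mem
  · intro x hx
    exact bg95W_conj_mem hm hx
  · intro x hx
    have := bg95W_conj_mem (Subgroup.inv_mem _ hm) hx
    rwa [inv_inv] at this

/-! ### Abelian subgroups of rank three through elements of `Ω₁(Z₂(S))` -/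

/-- For `x ∈ Ω₁(Z₂(S))` not central in `S` (`S` an `s`-group of rank at least three, `s` odd),
there is an abelian subgroup of `S` of rank at least three containing `x` and `Ω₁(Z(S))`. -/
theorem bg95_exists_abelian {s : ℕ} [Fact s.Prime] (hs : s ≠ 2) {S : Subgroup G}
    (hSp : IsPGroup s ↥S) (hS3 : ¬ PRankLE s 2 ↥S) {x : G} (hx : x ∈ bg95W s hs S)
    (hxc : x ∉ centralizer (S : Set G)) :
    ∃ L : Subgroup G, L ≤ S ∧ IsMulCommutative ↥L ∧ ¬ PRankLE s 2 ↥L ∧ x ∈ L ∧
      Helper1.bguZ S s ≤ L := by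
  have hsp : s.Prime := Fact.out
  obtain ⟨Z, hZdef⟩ : ∃ Z : Subgroup G, Z = Helper1.bguZ S s := ⟨_, rfl⟩
  rw [← hZdef]
  have hZS : Z ≤ S := hZdef ▸ Helper1.bguZ_le S s
  have hZc : Z ≤ centralizer (S : Set G) := hZdef ▸ Helper1.bguZ_le_centralizer S s
  have hZmem : ∀ z : G, z ∈ S → z ∈ centralizer (S : Set G) → z ^ s = 1 → z ∈ Z := by
    intro z hzS hzc hzs
    rw [hZdef]
    exact ⟨hzS, fun f hf => (Subgroup.mem_centralizer_iff.mp hzc f hf).symm, hzs⟩
  have hZW : Z ≤ bg95W s hs S := by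
    intro z hz
    rw [hZdef] at hz
    refine ⟨hz.1, hz.2.2, fun g hg => ?_⟩
    have : ⁅z, g⁆ = 1 := commutatorElement_eq_one_iff_commute.mpr (hz.2.1 g hg)
    rw [this]; exact Subgroup.one_mem _
  obtain ⟨N, hNdef⟩ : ∃ N : Subgroup G, N = zpowers x ⊔ Z := ⟨_, rfl⟩
  have hxN : x ∈ N := hNdef ▸ (le_sup_left : zpowers x ≤ zpowers x ⊔ Z) (mem_zpowers x)
  have hZN : Z ≤ N := hNdef ▸ le_sup_right
  have hNW : N ≤ bg95W s hs S := hNdef ▸ sup_le (zpowers_le.mpr hx) hZW
  have hNS : N ≤ S := hNW.trans (fun y hy => hy.1)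
  have hNe : ∀ y ∈ N, y ^ s = 1 := fun y hy => (hNW hy).2.1
  have hNcx : N ≤ centralizer ({x} : Set G) := by
    rw [hNdef]
    refine sup_le ?_ ?_
    · rw [zpowers_le]
      exact Subgroup.mem_centralizer_iff.mpr (fun h hh => by rw [Set.mem_singleton_iff.mp hh])
    · intro z hz
      rw [Subgroup.mem_centralizer_iff]
      intro h hh
      rw [Set.mem_singleton_iff.mp hh]
      exact Subgroup.mem_centralizer_iff.mp (hZc hz) x hx.1
  have hNcN : N ≤ centralizer (N : Set G) := by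
    have h1 : zpowers x ⊔ Z ≤ centralizer (N : Set G) := by
      refine sup_le ?_ ?_
      · rw [zpowers_le, Subgroup.mem_centralizer_iff]
        intro h hh
        exact (Subgroup.mem_centralizer_iff.mp (hNcx hh) x rfl).symm
      · intro z hz
        rw [Subgroup.mem_centralizer_iff]
        intro h hh
        exact Subgroup.mem_centralizer_iff.mp (hZc hz) h (hNS hh)
    rw [hNdef] at h1 ⊢
    exact h1
  have hNcomm : ∀ a ∈ N, ∀ b ∈ N, a * b = b * a := fun a ha b hb =>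
    Subgroup.mem_centralizer_iff.mp (hNcN hb) a ha
  have hNc : IsMulCommutative ↥N := ⟨⟨fun a b => Subtype.ext (hNcomm a a.2 b b.2)⟩⟩
  have hSN : S ≤ normalizer (N : Set G) := by
    have key : ∀ g ∈ S, ∀ h ∈ N, g * h * g⁻¹ ∈ N := by
      intro g hg h hh
      have hhW := hNW hh
      have h1 : ⁅g, h⁆ ∈ Z := by
        have h4 : g * h * g⁻¹ ∈ bg95W s hs S := bg95W_conj_mem (le_normalizer hg) hhW
        have h5 : ⁅g, h⁆ ∈ bg95W s hs S := by
          rw [commutatorElement_def]; exact Subgroup.mul_mem _ h4 (Subgroup.inv_mem _ hhW)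
        refine hZmem _ h5.1 ?_ h5.2.1
        have h2 : ⁅g, h⁆ = (⁅h, g⁆)⁻¹ := (commutatorElement_inv h g).symm
        rw [h2]
        exact Subgroup.inv_mem _ (hhW.2.2 g hg)
      have h6 : g * h * g⁻¹ = ⁅g, h⁆ * h := by rw [commutatorElement_def]; group
      rw [h6]; exact N.mul_mem (hZN h1) hh
    intro g hg
    apply Helper24.mem_normalizer_of_conj_mem
    · exact key g hg
    · intro h hh
      have := key g⁻¹ (S.inv_mem hg) h hh
      rwa [inv_inv] at this
  have hZltN : Z < N := by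
    refine lt_of_le_of_ne hZN ?_
    intro heq
    exact hxc (hZc (heq ▸ hxN))
  have hS1 : S ≠ ⊥ := f81_ne_bot_of_not_pRankLE hsp hS3
  have hZ1 : Z ≠ ⊥ := hZdef ▸
    Helper1.bguZ_ne_bot hSp.isNilpotent hsp (dvd_card_of_isPGroup_ne_bot hSp hS1)
  have hNp : IsPGroup s ↥N := hSp.to_le hNS
  have hZp : IsPGroup s ↥Z := hSp.to_le hZS
  have hNcard : s ^ 2 ≤ Nat.card N := by
    obtain ⟨a, ha⟩ := hZp.exists_card_eq
    obtain ⟨b, hb⟩ := hNp.exists_card_eq
    have hlt := Cfsg.Agent.Helper76.card_lt_of_lt hZltN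
    rw [ha, hb] at hlt
    have ha1 : 1 ≤ a := by
      rcases Nat.eq_zero_or_pos a with h0 | h0
      · rw [h0, pow_zero] at ha; exact absurd (Subgroup.card_eq_one.mp ha) hZ1
      · exact h0
    have hab : a < b := (Nat.pow_lt_pow_iff_right hsp.one_lt).mp hlt
    rw [hb]; exact Nat.pow_le_pow_right hsp.pos (by omega)
  by_cases hbig : Nat.card N ≤ s ^ 2
  · have hNeq : Nat.card N = s ^ 2 := le_antisymm hbig hNcard
    haveI hnorm : (N.subgroupOf S).Normal := Subgroup.normal_subgroupOf_of_le_normalizer hSN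
    have hE : IsElementaryAbelian s (N.subgroupOf S) := by
      refine ⟨⟨⟨fun a b => Subtype.ext (Subtype.ext ?_)⟩⟩, fun a ha => Subtype.ext ?_⟩
      · exact hNcomm a.1 (Subgroup.mem_subgroupOf.mp a.2) b.1 (Subgroup.mem_subgroupOf.mp b.2)
      · have := hNe a (Subgroup.mem_subgroupOf.mp ha)
        simpa using this
    have hEc : Nat.card (N.subgroupOf S) = s ^ 2 := by rw [natCard_subgroupOf_eq hNS, hNeq]
    obtain ⟨A', hEA, hAn, hAc, hAr⟩ :=
      Cfsg.Agent.S1452.result s hs hSp hS3 (N.subgroupOf S) hE hEc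
    have hNL : N ≤ A'.map S.subtype := by
      intro n hn
      exact ⟨⟨n, hNS hn⟩, hEA (Subgroup.mem_subgroupOf.mpr hn), rfl⟩
    refine ⟨A'.map S.subtype, Subgroup.map_subtype_le _, ?_,
      Helper21.not_pRankLE_map S.subtype S.subtype_injective hAr, hNL hxN, hZN.trans hNL⟩
    refine ⟨⟨fun a b => Subtype.ext ?_⟩⟩
    obtain ⟨a', ha', haeq⟩ := a.2
    obtain ⟨b', hb', hbeq⟩ := b.2
    have h1 : a' ∈ centralizer (A' : Set ↥S) := by rw [hAc]; exact ha'
    have h2 : b' * a' = a' * b' := Subgroup.mem_centralizer_iff.mp h1 b' hb'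
    show (a : G) * (b : G) = (b : G) * (a : G)
    rw [← haeq, ← hbeq, ← map_mul, ← map_mul, h2]
  · exact ⟨N, hNS, hNc, Helper21.not_pRankLE_of_elemAb le_rfl hNc hNe hbig, hxN, hZN⟩

/-! ### The datum of a maximal subgroup whose Fitting subgroup has `s`-rank at least three -/

/-- Piece D1 of Bender–Glauberman 9.5: if `M` is maximal and `r_s(F(M)) ≥ 3`, then `O_s(M)` lies
in no maximal subgroup other than `M`, and there is an `M`-invariant subgroup `W ≤ O_s(M)` of
exponent `s` with `s ^ 2 * |W'| ≤ |W|` such that every subgroup of `W` of order at least `s ^ 2`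
and the centralizer of every non-identity element of `W` lie in no maximal subgroup other than
`M`. -/
theorem bg95_datum (hG : IsMinSimpleOddOrder G) {M : Subgroup G} (hM : IsCoatom M) (s : ℕ)
    [Fact s.Prime] (hF : ¬ PRankLE s 2 ↥(fittingOf M)) :
    (∀ H : Subgroup G, H ≠ ⊤ → pCoreOf s M ≤ H → H ≤ M) ∧
    ∃ W : Subgroup G, W ≤ pCoreOf s M ∧ M ≤ normalizer (W : Set G) ∧ (∀ x ∈ W, x ^ s = 1) ∧
      s ^ 2 * Nat.card ↥(⁅W, W⁆ : Subgroup G) ≤ Nat.card ↥W ∧
      (∀ T : Subgroup G, T ≤ W → s ^ 2 ≤ Nat.card ↥T →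
        ∀ H : Subgroup G, H ≠ ⊤ → T ≤ H → H ≤ M) ∧
      (∀ x ∈ W, x ≠ 1 → ∀ H : Subgroup G, H ≠ ⊤ → centralizer ({x} : Set G) ≤ H → H ≤ M) := by
  have hsp : s.Prime := Fact.out
  obtain ⟨S, hSdef⟩ : ∃ S : Subgroup G, S = pCoreOf s M := ⟨_, rfl⟩
  rw [← hSdef]
  have hSM : S ≤ M := hSdef ▸ f81_pCoreOf_le s M
  have hSp : IsPGroup s ↥S := hSdef ▸ f81_isPGroup_pCoreOf s M
  have hMS : M ≤ normalizer (S : Set G) := hSdef ▸ f81_le_normalizer_pCoreOf s M
  obtain ⟨E₀, hE₀F, hE₀c, hE₀e, hE₀card⟩ := exists_elemAb_of_not_pRankLE hF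
  have hE₀p : IsPGroup s ↥E₀ := fun a => ⟨1, by
    rw [pow_one]; exact Subtype.ext (by simpa using hE₀e a a.2)⟩
  have hE₀S : E₀ ≤ S := hSdef ▸ f81_le_pCoreOf_of_le_fittingOf hE₀F hE₀p
  have hE₀3 : ¬ PRankLE s 2 ↥E₀ :=
    Helper21.not_pRankLE_of_elemAb le_rfl hE₀c hE₀e (not_le.mpr hE₀card)
  have hS3 : ¬ PRankLE s 2 ↥S := Helper21.not_pRankLE_mono hE₀S hE₀3
  have hS1 : S ≠ ⊥ := f81_ne_bot_of_not_pRankLE hsp hS3
  have hs2 : s ≠ 2 := by
    rintro rfl
    have h1 : 2 ∣ Nat.card S := dvd_card_of_isPGroup_ne_bot hSp hS1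
    have h2 : Odd (Nat.card S) := uq_odd hG S
    exact (Nat.not_even_iff_odd.mpr h2) (even_iff_two_dvd.mpr h1)
  have hgood : ∀ X : Subgroup G, InUniqueMaximal X → X ≤ M →
      ∀ H : Subgroup G, H ≠ ⊤ → X ≤ H → H ≤ M := by
    intro X hX hXM H hH hXH
    obtain ⟨M', ⟨hM', hXM'⟩, huniq⟩ := hX
    obtain ⟨H', hH', hHH'⟩ := uq_exists_coatom_ge hH
    have h1 : H' = M' := huniq H' ⟨hH', hXH.trans hHH'⟩
    have h2 : M = M' := huniq M ⟨hM, hXM⟩
    rw [h2, ← h1]; exact hHH'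
  have hab : ∀ L : Subgroup G, L ≤ S → IsMulCommutative ↥L → ¬ PRankLE s 2 ↥L →
      InUniqueMaximal L := fun L hLS hLc hL3 =>
    Cfsg.Agent.S1401.result hG M hM s hF L (hSp.to_le hLS) hLc hL3
  have hcent : ∀ L T : Subgroup G, L ≤ S → IsMulCommutative ↥L → ¬ PRankLE s 2 ↥L →
      T ≤ centralizer (L : Set G) → ¬ RankLE 1 ↥T → T ≤ M →
      ∀ H : Subgroup G, H ≠ ⊤ → T ≤ H → H ≤ M := fun L T hLS hLc hL3 hTL hT1 hTM =>
    hgood T (uq_92 hG (hab L hLS hLc hL3) hTL hT1) hTM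
  have hfirst : ∀ H : Subgroup G, H ≠ ⊤ → S ≤ H → H ≤ M := fun H hH hSH =>
    hgood E₀ (hab E₀ hE₀S hE₀c hE₀3) (hE₀S.trans hSM) H hH (hE₀S.trans hSH)
  refine ⟨hfirst, ?_⟩
  obtain ⟨W, hWdef⟩ : ∃ W : Subgroup G, W = bg95W s hs2 S := ⟨_, rfl⟩
  have hWmem : ∀ x ∈ W, x ∈ bg95W s hs2 S := fun x hx => hWdef ▸ hx
  have hWS : W ≤ S := fun x hx => (hWmem x hx).1
  have hWe : ∀ x ∈ W, x ^ s = 1 := fun x hx => (hWmem x hx).2.1
  have hWc : ∀ x ∈ W, ∀ g ∈ S, ⁅x, g⁆ ∈ centralizer (S : Set G) := fun x hx =>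
    (hWmem x hx).2.2
  have hMW : M ≤ normalizer (W : Set G) := by
    rw [hWdef]; exact hMS.trans bg95W_normalizer
  obtain ⟨Z, hZdef⟩ : ∃ Z : Subgroup G, Z = Helper1.bguZ S s := ⟨_, rfl⟩
  have hZS : Z ≤ S := hZdef ▸ Helper1.bguZ_le S s
  have hZc : Z ≤ centralizer (S : Set G) := hZdef ▸ Helper1.bguZ_le_centralizer S s
  have hZmem : ∀ z : G, z ∈ S → z ∈ centralizer (S : Set G) → z ^ s = 1 → z ∈ Z := by
    intro z hzS hzc hzs
    rw [hZdef]
    exact ⟨hzS, fun f hf => (Subgroup.mem_centralizer_iff.mp hzc f hf).symm, hzs⟩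
  have hZW : Z ≤ W := by
    intro z hz
    rw [hZdef] at hz
    rw [hWdef]
    refine ⟨hz.1, hz.2.2, fun g hg => ?_⟩
    have : ⁅z, g⁆ = 1 := commutatorElement_eq_one_iff_commute.mpr (hz.2.1 g hg)
    rw [this]; exact Subgroup.one_mem _
  have hZ1 : Z ≠ ⊥ := hZdef ▸
    Helper1.bguZ_ne_bot hSp.isNilpotent hsp (dvd_card_of_isPGroup_ne_bot hSp hS1)
  obtain ⟨z₀, hz₀Z, hz₀1⟩ : ∃ z ∈ Z, z ≠ 1 := by
    by_contra hcon
    push Not at hcon
    exact hZ1 ((Subgroup.eq_bot_iff_forall _).mpr hcon)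
  have hWcard : s ^ 2 ≤ Nat.card W := by
    have hSnc : ¬ IsCyclic ↥S := not_isCyclic_of_not_pRankLE hS3
    obtain ⟨N₀, hN₀S, hN₀c, hN₀e, hN₀card, hN₀n, -⟩ := exists_normal_elemAb_sq_in hs2 hSp hSnc
    haveI : (N₀.subgroupOf S).Normal := Subgroup.normal_subgroupOf_of_le_normalizer hN₀n
    have hN₀W : N₀ ≤ W := by
      intro x hx
      rw [hWdef]
      refine ⟨hN₀S hx, hN₀e x hx, fun g hg => ?_⟩
      have h1 := bg95_comm_mem_center hSp (N₀.subgroupOf S)
        (by rw [natCard_subgroupOf_eq hN₀S, hN₀card]) (x := ⟨x, hN₀S hx⟩)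
        (Subgroup.mem_subgroupOf.mpr hx) ⟨g, hg⟩
      rw [Subgroup.mem_centralizer_iff]
      intro h hh
      have h2 := Subgroup.mem_center_iff.mp h1 ⟨h, hh⟩
      exact congrArg Subtype.val h2
    rw [← hN₀card]; exact Subgroup.card_le_of_le hN₀W
  have hW'c : ⁅W, W⁆ ≤ centralizer (S : Set G) :=
    Subgroup.commutator_le.mpr (fun a ha b hb => hWc a ha b (hWS hb))
  have hWcomm : s ^ 2 * Nat.card ↥(⁅W, W⁆ : Subgroup G) ≤ Nat.card ↥W := by
    by_cases hab' : ∀ a ∈ W, ∀ b ∈ W, a * b = b * a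
    · have h1 : ⁅W, W⁆ = ⊥ := by
        rw [Subgroup.commutator_eq_bot_iff_le_centralizer]
        intro a ha
        rw [Subgroup.mem_centralizer_iff]
        intro b hb
        exact hab' b hb a ha
      rw [h1, Subgroup.card_bot, mul_one]; exact hWcard
    · have hmap : (commutator ↥W).map W.subtype = ⁅W, W⁆ := W.map_subtype_commutator
      have hker : commutator ↥W ≤ center ↥W := by
        intro c hc
        rw [Subgroup.mem_center_iff]
        intro w
        have h1 : (c : G) ∈ ⁅W, W⁆ := by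
          rw [← hmap]
          exact ⟨c, hc, rfl⟩
        have h2 := Subgroup.mem_centralizer_iff.mp (hW'c h1) w (hWS w.2)
        exact Subtype.ext h2
      have hWp : IsPGroup s ↥W := hSp.to_le hWS
      obtain ⟨n, hn⟩ := hWp.index (commutator ↥W)
      have hn2 : 2 ≤ n := by
        by_contra hcon
        have hn1 : n ≤ 1 := by omega
        have hcard : Nat.card (↥W ⧸ commutator ↥W) = s ^ n := by
          rw [← Subgroup.index_eq_card, hn]
        haveI : IsCyclic (↥W ⧸ commutator ↥W) := by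
          rcases Nat.eq_zero_or_pos n with h0 | h0
          · rw [h0, pow_zero] at hcard
            haveI : Subsingleton (↥W ⧸ commutator ↥W) :=
              (Nat.card_eq_one_iff_unique.mp hcard).1
            infer_instance
          · have h1 : n = 1 := by omega
            rw [h1, pow_one] at hcard
            exact isCyclic_of_prime_card hcard
        have hcomm : IsMulCommutative ↥W :=
          MonoidHom.isMulCommutative_of_isCyclic_of_ker_le_center
            (QuotientGroup.mk' (commutator ↥W)) (by rw [QuotientGroup.ker_mk']; exact hker)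
        apply hab'
        intro a ha b hb
        exact congrArg Subtype.val (hcomm.is_comm.comm ⟨a, ha⟩ ⟨b, hb⟩)
      have hcard1 : Nat.card ↥(⁅W, W⁆ : Subgroup G) = Nat.card (commutator ↥W) := by
        rw [← hmap, Subgroup.card_map_of_injective W.subtype_injective]
      have hcard2 : Nat.card (commutator ↥W) * (commutator ↥W).index = Nat.card ↥W :=
        Subgroup.card_mul_index _
      rw [hcard1, ← hcard2, hn, mul_comm]
      exact Nat.mul_le_mul_left _ (Nat.pow_le_pow_right hsp.pos hn2)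
  have hslt : s < s ^ 2 := by nlinarith [hsp.one_lt]
  refine ⟨W, hWS, hMW, hWe, hWcomm, ?_, ?_⟩
  · intro T hTW hTcard H hH hTH
    have hTS : T ≤ S := hTW.trans hWS
    have hTM : T ≤ M := hTS.trans hSM
    have hTe : ∀ x ∈ T, x ^ s = 1 := fun x hx => hWe x (hTW hx)
    by_cases h1 : T ≤ centralizer (S : Set G)
    · have hTc : IsMulCommutative ↥T := ⟨⟨fun a b => Subtype.ext
        (Subgroup.mem_centralizer_iff.mp (h1 b.2) a (hTS a.2))⟩⟩
      have hT1 : ¬ RankLE 1 ↥T :=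
        not_rankLE_one_of_elemAb hsp le_rfl hTc hTe (lt_of_lt_of_le hslt hTcard)
      exact hcent E₀ T hE₀S hE₀c hE₀3 (h1.trans (Subgroup.centralizer_le hE₀S)) hT1 hTM H hH hTH
    · by_cases h2 : T ⊓ centralizer (S : Set G) = ⊥
      · have hTcomm : ∀ a ∈ T, ∀ b ∈ T, a * b = b * a := by
          intro a ha b hb
          have h3 : ⁅a, b⁆ ∈ T ⊓ centralizer (S : Set G) :=
            ⟨by rw [commutatorElement_def]
                exact T.mul_mem (T.mul_mem (T.mul_mem ha hb) (T.inv_mem ha)) (T.inv_mem hb),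
              hWc a (hTW ha) b (hTS hb)⟩
          rw [h2, Subgroup.mem_bot] at h3
          exact commutatorElement_eq_one_iff_mul_comm.mp h3
        have hTc : IsMulCommutative ↥T := ⟨⟨fun a b => Subtype.ext (hTcomm a a.2 b b.2)⟩⟩
        have hT1 : ¬ RankLE 1 ↥T :=
          not_rankLE_one_of_elemAb hsp le_rfl hTc hTe (lt_of_lt_of_le hslt hTcard)
        obtain ⟨L', hL'def⟩ : ∃ L' : Subgroup G, L' = T ⊔ Z := ⟨_, rfl⟩
        have hTL' : T ≤ L' := hL'def ▸ le_sup_left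
        have hZL' : Z ≤ L' := hL'def ▸ le_sup_right
        have hL'W : L' ≤ W := hL'def ▸ sup_le hTW hZW
        have hL'S : L' ≤ S := hL'W.trans hWS
        have hL'cT : L' ≤ centralizer (T : Set G) := by
          rw [hL'def]
          refine sup_le ?_ ?_
          · intro a ha
            rw [Subgroup.mem_centralizer_iff]
            intro b hb
            exact hTcomm b hb a ha
          · intro z hz
            rw [Subgroup.mem_centralizer_iff]
            intro b hb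
            exact Subgroup.mem_centralizer_iff.mp (hZc hz) b (hTS hb)
        have hL'cL' : L' ≤ centralizer (L' : Set G) := by
          have h4 : T ⊔ Z ≤ centralizer (L' : Set G) := by
            refine sup_le ?_ ?_
            · intro a ha
              rw [Subgroup.mem_centralizer_iff]
              intro b hb
              exact (Subgroup.mem_centralizer_iff.mp (hL'cT hb) a ha).symm
            · intro z hz
              rw [Subgroup.mem_centralizer_iff]
              intro b hb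
              exact Subgroup.mem_centralizer_iff.mp (hZc hz) b (hL'S hb)
          rw [hL'def] at h4 ⊢
          exact h4
        have hL'c : IsMulCommutative ↥L' := ⟨⟨fun a b => Subtype.ext
          (Subgroup.mem_centralizer_iff.mp (hL'cL' b.2) a a.2)⟩⟩
        have hTltL' : T < L' := by
          refine lt_of_le_of_ne hTL' ?_
          intro heq
          have h5 : z₀ ∈ T ⊓ centralizer (S : Set G) := ⟨heq ▸ hZL' hz₀Z, hZc hz₀Z⟩
          rw [h2, Subgroup.mem_bot] at h5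
          exact hz₀1 h5
        have hL'3 : ¬ PRankLE s 2 ↥L' :=
          Helper21.not_pRankLE_of_elemAb le_rfl hL'c (fun x hx => hWe x (hL'W hx))
            (not_le.mpr (lt_of_le_of_lt hTcard (Cfsg.Agent.Helper76.card_lt_of_lt hTltL')))
        exact hcent L' T hL'S hL'c hL'3 (hTL'.trans hL'cL') hT1 hTM H hH hTH
      · obtain ⟨x, hxT, hxc⟩ := SetLike.not_le_iff_exists.mp h1
        obtain ⟨z, hz, hz1⟩ : ∃ z ∈ T ⊓ centralizer (S : Set G), z ≠ 1 := by
          by_contra hcon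
          push Not at hcon
          exact h2 ((Subgroup.eq_bot_iff_forall _).mpr hcon)
        obtain ⟨L, hLS, hLc, hL3, hxL, hZL⟩ :=
          bg95_exists_abelian hs2 hSp hS3 (hWmem x (hTW hxT)) hxc
        have hzZ : z ∈ Z := hZmem z (hTS hz.1) hz.2 (hTe z hz.1)
        have hzL : z ∈ L := hZL (hZdef ▸ hzZ)
        obtain ⟨T₀, hT₀def⟩ : ∃ T₀ : Subgroup G, T₀ = zpowers x ⊔ zpowers z := ⟨_, rfl⟩
        have hT₀T : T₀ ≤ T := hT₀def ▸ sup_le (zpowers_le.mpr hxT) (zpowers_le.mpr hz.1)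
        have hT₀L : T₀ ≤ L := hT₀def ▸ sup_le (zpowers_le.mpr hxL) (zpowers_le.mpr hzL)
        have hLcL : L ≤ centralizer (L : Set G) := by
          intro a ha
          rw [Subgroup.mem_centralizer_iff]
          intro b hb
          exact congrArg Subtype.val (hLc.is_comm.comm ⟨b, hb⟩ ⟨a, ha⟩)
        have hT₀c : IsMulCommutative ↥T₀ := ⟨⟨fun a b => Subtype.ext
          (Subgroup.mem_centralizer_iff.mp (hLcL (hT₀L b.2)) a (hT₀L a.2))⟩⟩
        have hxT₀ : x ∈ T₀ :=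
          hT₀def ▸ (le_sup_left : zpowers x ≤ zpowers x ⊔ zpowers z) (mem_zpowers x)
        have hzlt : zpowers z < T₀ := by
          refine lt_of_le_of_ne (hT₀def ▸ le_sup_right) ?_
          intro heq
          have hx0 : x ∈ zpowers z := heq ▸ hxT₀
          exact hxc ((zpowers_le.mpr hz.2) hx0)
        have hzcard : Nat.card (zpowers z) = s := by
          rw [Nat.card_zpowers]; exact orderOf_eq_prime (hTe z hz.1) hz1
        have hT₀1 : ¬ RankLE 1 ↥T₀ :=
          not_rankLE_one_of_elemAb hsp le_rfl hT₀c (fun y hy => hTe y (hT₀T hy))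
            (hzcard ▸ Cfsg.Agent.Helper76.card_lt_of_lt hzlt)
        exact hcent L T₀ hLS hLc hL3 (hT₀L.trans hLcL) hT₀1 (hT₀T.trans hTM) H hH
          (hT₀T.trans hTH)
  · intro x hxW hx1 H hH hCH
    by_cases hxc : x ∈ centralizer (S : Set G)
    · apply hfirst H hH
      refine le_trans ?_ hCH
      intro g hg
      rw [Subgroup.mem_centralizer_iff]
      intro h hh
      rw [Set.mem_singleton_iff.mp hh]
      exact (Subgroup.mem_centralizer_iff.mp hxc g hg).symm
    · obtain ⟨L, hLS, hLc, hL3, hxL, -⟩ :=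
        bg95_exists_abelian hs2 hSp hS3 (hWmem x hxW) hxc
      apply hgood L (hab L hLS hLc hL3) (hLS.trans hSM) H hH
      refine le_trans ?_ hCH
      intro l hl
      rw [Subgroup.mem_centralizer_iff]
      intro h hh
      rw [Set.mem_singleton_iff.mp hh]
      exact congrArg Subtype.val (hLc.is_comm.comm ⟨x, hxL⟩ ⟨l, hl⟩)

end Cfsg.Agent.Helper23
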