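import Cfsg.Agent.Helper23.BG11E4
import Cfsg.Agent.S1451

/-!
# Two lemmas for Bender–Glauberman Proposition 12.4

* `bg12_tau2_false`: if `p ∉ σ(M)` and an elementary abelian `A ≤ M` of order `p ^ 2` centralizes
  `M_σ ≠ 1`, we get a contradiction.
* `bg12_centralizer_le_of_sigma`: if `p ∈ σ(M)`, `M_σ` is nilpotent and `M` has `p`-rank at most 2,
  then `C_G(A) ≤ M` for every elementary abelian `A ≤ M` of order `p ^ 2`.
-/

set_option autoImplicit false

namespace Cfsg.Agent.Helper23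

open Cfsg Subgroup Cfsg.Agent.Helper22 Cfsg.Agent.Helper35
open scoped Pointwise commutatorElement

universe u

variable {G : Type u} [Group G] [Finite G]

/-- Membership in `σ(M)` from a Sylow subgroup of `M` whose normalizer lies in `M`. -/
theorem bg12_mem_sigma {M S : Subgroup G} {p : ℕ} [Fact p.Prime] (hS : IsSylowOf p S M)
    (hS1 : S ≠ ⊥) (hN : normalizer (S : Set G) ≤ M) : p ∈ sigma M := by
  have hp : p.Prime := Fact.out
  obtain ⟨P, hP⟩ := hS.exists_sylow
  refine ⟨hp, ?_, P, ?_⟩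
  · exact (bg11_dvd_card_of_isPGroup hS.2.1 hS1).trans (Subgroup.card_dvd_of_le hS.1)
  · rw [hP, Subgroup.map_subgroupOf_eq_of_le hS.1]; exact hN

omit [Finite G] in
theorem bg12_card_le_of_pRankLE {p k : ℕ} {M E : Subgroup G} (hr : PRankLE p k ↥M) (hEM : E ≤ M)
    (hE : IsElementaryAbelian p E) : Nat.card E ≤ p ^ k := by
  have h1 : PRankLE p k ↥E := pRankLE_of_le hEM hr
  have h2 := h1 ⊤ ⟨⟨fun a b => Subtype.ext (hE.1.is_comm.comm a.1 b.1)⟩⟩
    (fun a _ => Subtype.ext (by rw [Subgroup.coe_pow]; exact hE.2 a a.2))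
  rwa [Subgroup.card_top] at h2

theorem bg12_not_rankLE_one {p : ℕ} [Fact p.Prime] {A : Subgroup G}
    (hA : IsElementaryAbelian p A) (hAc : Nat.card A = p ^ 2) : ¬ RankLE 1 ↥A := by
  have hp : p.Prime := Fact.out
  intro h
  have h2 := bg12_card_le_of_pRankLE (h p hp) le_rfl hA
  rw [hAc, pow_one] at h2
  have := hp.one_lt
  nlinarith

/-- A normal Sylow subgroup contains every `p`-subgroup. -/
theorem bg12_le_of_normal_sylow {p : ℕ} [Fact p.Prime] {S T D : Subgroup G}
    (hS : IsSylowOf p S D) (hDS : D ≤ normalizer (S : Set G)) (hT : IsPGroup p T) (hTD : T ≤ D) :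
    T ≤ S := by
  have h1 : IsPGroup p ↥(T ⊔ S) := IsPGroup.to_sup_of_normal_right' hT hS.2.1 (hTD.trans hDS)
  have h2 := hS.2.2 (T ⊔ S) (sup_le hTD hS.1) h1 le_sup_right
  rw [← h2]; exact le_sup_left

/-- **Bender–Glauberman 12.4, the case `p ∈ τ₂(M)`.** -/
theorem bg12_tau2_false (hG : IsMinSimpleOddOrder G) (hU : BGUniq G) (hpl : BGPLen G)
    {M : Subgroup G} (hM : IsCoatom M) {p : ℕ} [Fact p.Prime] (hpσ : p ∉ sigma M)
    {A : Subgroup G} (hAM : A ≤ M) (hA : IsElementaryAbelian p A) (hAc : Nat.card A = p ^ 2)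
    (hne : sigmaCore M ≠ ⊥)
    (hcent : ∀ a ∈ A, ∀ x ∈ sigmaCore M, a * x = x * a) : False := by
  have hp : p.Prime := Fact.out
  have hασ := bg10_alpha_sub_sigma hG hU hM
  have hr2 : PRankLE p 2 ↥M := bg10_pRank_of_not_alpha M p hp (fun h => hpσ (hασ h))
  have hmax := bg10_elemAb_sq_maximal hG hU hM hr2 hAM hA hAc
  obtain ⟨hHall, -, -⟩ := bg10_sigma_hall hG hU hM
  have hc1 : Nat.card ↥(sigmaCore M) ≠ 1 := fun e => hne (Subgroup.card_eq_one.mp e)
  obtain ⟨q, hq, hqd⟩ := Nat.exists_prime_and_dvd hc1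
  have := Fact.mk hq
  have hqσ : q ∈ sigma M := hHall.2.1 q hq hqd
  have hqp : q ≠ p := fun e => hpσ (e ▸ hqσ)
  obtain ⟨Q, hQ⟩ := sylowSet_nonempty (p := q) (sigmaCore M)
  obtain ⟨hQtop, hQM, hNQ⟩ := bg11_sigma_sylow hG hU hM hqσ hQ
  have hσC : sigmaCore M ≤ centralizer (A : Set G) := by
    intro x hx
    rw [mem_centralizer_iff]
    intro a ha
    exact hcent a ha x hx
  have hAQ : A ≤ normalizer (Q : Set G) := by
    have h1 : A ≤ centralizer (Q : Set G) := by
      intro a ha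
      rw [mem_centralizer_iff]
      intro x hx
      exact (hcent a ha x (hQ.1 hx)).symm
    exact h1.trans (Subgroup.centralizer_le_normalizer _)
  have hQmax := bg11_sylow_maxInv hq hQtop hAQ
  have hQ1 : Q ≠ ⊥ := by
    intro e
    have h2 := hQ.2
    rw [e, Subgroup.card_bot] at h2
    have h3 : (Nat.card ↥(sigmaCore M)).factorization q = 0 := by
      by_contra h0
      have := Nat.one_lt_pow h0 hq.one_lt
      omega
    have h4 : 1 ≤ (Nat.card ↥(sigmaCore M)).factorization q :=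
      (hq.dvd_iff_one_le_factorization Nat.card_pos.ne').mp hqd
    omega
  have hqC : q ∣ Nat.card ↥(centralizer (A : Set G)) :=
    (bg11_dvd_card_of_isPGroup hQtop.2.1 hQ1).trans (Subgroup.card_dvd_of_le (hQ.1.trans hσC))
  obtain ⟨S, hS, hAS, hSN, hScomm, hNS⟩ := bg11_e4 hG hpl hA hAc hmax hq hqp hqC hQmax
  have hSM : S ≤ M := hSN.trans hNQ
  have hA1 : A ≠ ⊥ := by
    intro e
    rw [e, Subgroup.card_bot] at hAc
    have := hp.one_lt
    nlinarith
  have hS1 : S ≠ ⊥ := fun e => hA1 (le_bot_iff.mp (e ▸ hAS))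
  apply hpσ
  apply bg12_mem_sigma (hS.of_le hSM le_top) hS1
  by_cases hα : ∃ q', q' ∈ alpha M
  · obtain ⟨q', hq', hr'⟩ := hα
    obtain ⟨E, hEM, hEc, hEp, hEcard⟩ := exists_elemAb_of_not_pRankLE hr'
    have hq'σ : q' ∈ sigma M := hασ ⟨hq', hr'⟩
    have hMσ : M ≤ normalizer (sigmaCore M : Set G) := le_normalizer_piCoreOf (sigma M) M
    have := Fact.mk hq'
    have hEpg : IsPGroup q' ↥E := fun a =>
      ⟨1, by rw [pow_one]; exact Subtype.ext (by rw [Subgroup.coe_pow]; exact hEp a a.2)⟩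
    have hEσ : E ≤ sigmaCore M := by
      apply bg12_le_of_coprime_relIndex hHall.1 hEM (hEM.trans hMσ)
      obtain ⟨n, hn⟩ := IsPGroup.iff_card.mp hEpg
      rw [hn]
      exact Nat.Coprime.pow_left _
        ((Nat.Prime.coprime_iff_not_dvd hq').mpr (hHall.2.2 q' hq' hq'σ))
    have hnr : ¬ RankLE 2 ↥(centralizer (A : Set G)) := by
      intro h
      have h2 := bg12_card_le_of_pRankLE (h q' hq') (hEσ.trans hσC) ⟨hEc, hEp⟩
      omega
    have hAtop : A ≠ ⊤ := fun e => hM.1 (top_le_iff.mp (e ▸ hAM))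
    obtain ⟨M', hM', huniq⟩ := hU A hAtop (bg12_not_rankLE_one hA hAc) (Or.inr hnr)
    have hCM : centralizer (A : Set G) ≤ M := by
      obtain ⟨a, haA, ha1⟩ := bg11_exists_ne_one hA1
      have hCa : centralizer (A : Set G) ≤ centralizer ({a} : Set G) :=
        Subgroup.centralizer_le (by simpa using haA)
      obtain ⟨L, hL, hCL⟩ := uq_exists_coatom_ge (centralizer_singleton_ne_top hG.2 ha1)
      have hAL : A ≤ L := (e4_le_centralizer hA).trans (hCa.trans hCL)
      have e1 : L = M' := huniq L ⟨hL, hAL⟩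
      have e2 : M = M' := huniq M ⟨hM, hAM⟩
      rw [e2, ← e1]
      exact hCa.trans hCL
    exact hNS.trans (sup_le hCM hNQ)
  · push Not at hα
    have hrk : RankLE 2 ↥M := fun q' hq' => bg10_pRank_of_not_alpha M q' hq' (hα q')
    haveI := uq_isSolvable hG hM.1
    have hnil : Group.IsNilpotent ↥(commutator ↥M) :=
      (Cfsg.Agent.S1451.result (uq_odd hG M) (Or.inl hrk)).1
    have hD : Group.IsNilpotent ↥((commutator ↥M).map M.subtype) :=
      (Group.isNilpotent_congr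
        ((commutator ↥M).equivMapOfInjective M.subtype M.subtype_injective)).mp hnil
    rw [Subgroup.map_subtype_commutator] at hD
    have hSD : S ≤ ⁅M, M⁆ := hScomm.trans (Subgroup.commutator_mono hNQ hNQ)
    have hDM : ⁅M, M⁆ ≤ M := Subgroup.commutator_le_self M
    have hcop : (Nat.card S).Coprime (S.relIndex ⁅M, M⁆) := by
      obtain ⟨n, hn⟩ := IsPGroup.iff_card.mp hS.2.1
      rw [hn]
      apply Nat.Coprime.pow_left
      rw [Nat.Prime.coprime_iff_not_dvd hp]
      intro hd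
      exact bg10_not_dvd_index hS (hd.trans (Subgroup.relIndex_dvd_index_of_le hSD))
    have hDS : ⁅M, M⁆ ≤ normalizer (S : Set G) := bg12_hall_le_normalizer hD hSD hcop
    have hMS : M ≤ normalizer (S : Set G) := by
      intro m hm
      apply bg10_mem_normalizer
      intro x hx
      have h1 : MulAut.conj m • S ≤ ⁅M, M⁆ :=
        (conj_smul_le_conj_smul hSD).trans
          (e4_conj_commutator_le m (by rw [Subgroup.conj_smul_eq_self_of_mem hm]))
      have h2 : MulAut.conj m • S ≤ S :=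
        bg12_le_of_normal_sylow (hS.of_le hSD le_top) hDS (bg10_isPGroup_conj hS.2.1) h1
      exact h2 (conj_mem_conj_smul hx)
    exact (uq_normalizer_eq hG hM hS1 hSM hMS).le

/-- `Ω₁(Z(S))` as a subgroup of the ambient group. -/
def omegaCenter (p : ℕ) (S : Subgroup G) : Subgroup G where
  carrier := {x | x ∈ S ∧ x ∈ centralizer (S : Set G) ∧ x ^ p = 1}
  mul_mem' := by
    rintro x y ⟨hx, hxc, hxp⟩ ⟨hy, hyc, hyp⟩
    refine ⟨mul_mem hx hy, mul_mem hxc hyc, ?_⟩
    have hcomm : Commute x y := (mem_centralizer_iff.mp hyc x hx)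
    rw [hcomm.mul_pow, hxp, hyp, one_mul]
  one_mem' := ⟨one_mem _, one_mem _, one_pow _⟩
  inv_mem' := by
    rintro x ⟨hx, hxc, hxp⟩
    exact ⟨inv_mem hx, inv_mem hxc, by rw [inv_pow, hxp, inv_one]⟩

omit [Finite G] in
theorem mem_omegaCenter {p : ℕ} {S : Subgroup G} {x : G} :
    x ∈ omegaCenter p S ↔ x ∈ S ∧ x ∈ centralizer (S : Set G) ∧ x ^ p = 1 := Iff.rfl

omit [Finite G] in
theorem omegaCenter_le (p : ℕ) (S : Subgroup G) : omegaCenter p S ≤ S := fun _ hx => hx.1

omit [Finite G] in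
theorem omegaCenter_elemAb (p : ℕ) (S : Subgroup G) : IsElementaryAbelian p (omegaCenter p S) :=
  ⟨⟨⟨fun a b => Subtype.ext (mem_centralizer_iff.mp b.2.2.1 a.1 a.2.1)⟩⟩, fun _ ha => ha.2.2⟩

theorem normalizer_le_normalizer_omegaCenter (p : ℕ) (S : Subgroup G) :
    normalizer (S : Set G) ≤ normalizer (omegaCenter p S : Set G) := by
  intro m hm
  apply bg10_mem_normalizer
  rintro x ⟨hx, hxc, hxp⟩
  refine ⟨(mem_normalizer_iff.mp hm x).mp hx, ?_, ?_⟩
  · rw [mem_centralizer_iff]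
    intro s hs
    have hs' : m⁻¹ * s * m ∈ S := by
      have := (mem_normalizer_iff.mp (inv_mem hm) s).mp hs
      simpa using this
    have h1 := mem_centralizer_iff.mp hxc _ hs'
    calc s * (m * x * m⁻¹) = m * ((m⁻¹ * s * m) * x) * m⁻¹ := by group
      _ = m * (x * (m⁻¹ * s * m)) * m⁻¹ := by rw [h1]
      _ = m * x * m⁻¹ * s := by group
  · rw [conj_pow, hxp, mul_one, mul_inv_cancel]

theorem omegaCenter_ne_bot {p : ℕ} [Fact p.Prime] {S : Subgroup G} (hS : IsPGroup p S)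
    (hS1 : S ≠ ⊥) : omegaCenter p S ≠ ⊥ := by
  have hp : p.Prime := Fact.out
  haveI : Nontrivial ↥S := (Subgroup.nontrivial_iff_ne_bot S).mpr hS1
  have hnt : Nontrivial (center ↥S) := hS.center_nontrivial
  have hZp : IsPGroup p (center ↥S) := hS.to_subgroup _
  obtain ⟨n, hn⟩ := IsPGroup.iff_card.mp hZp
  have hn0 : n ≠ 0 := by
    rintro rfl
    rw [pow_zero] at hn
    have := (Subgroup.card_eq_one.mp hn)
    rw [Subgroup.nontrivial_iff_ne_bot] at hnt
    exact hnt this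
  have hdvd : p ∣ Nat.card (center ↥S) := by rw [hn]; exact dvd_pow_self p hn0
  obtain ⟨z, hz⟩ := exists_prime_orderOf_dvd_card' p hdvd
  intro e
  have hzmem : ((z : ↥S) : G) ∈ omegaCenter p S := by
    refine ⟨(z : ↥S).2, ?_, ?_⟩
    · rw [mem_centralizer_iff]
      intro s hs
      have h1 := Subgroup.mem_center_iff.mp z.2 ⟨s, hs⟩
      exact congrArg Subtype.val h1
    · have h1 : z ^ p = 1 := by rw [← hz]; exact pow_orderOf_eq_one z
      have h2 := congrArg (fun w : center ↥S => ((w : ↥S) : G)) h1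
      simpa using h2
  rw [e, Subgroup.mem_bot] at hzmem
  have hz1 : z = 1 := Subtype.ext (Subtype.ext hzmem)
  rw [hz1, orderOf_one] at hz
  exact hp.ne_one hz.symm

/-- **Bender–Glauberman 12.4(a), the case `p ∈ σ(M)` with `M_σ` nilpotent.** -/
theorem bg12_centralizer_le_of_sigma (hG : IsMinSimpleOddOrder G) (hU : BGUniq G)
    {M : Subgroup G} (hM : IsCoatom M) {p : ℕ} [Fact p.Prime] (hpσ : p ∈ sigma M)
    (hnil : Group.IsNilpotent ↥(sigmaCore M)) (hr : PRankLE p 2 ↥M)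
    {A : Subgroup G} (hAM : A ≤ M) (hA : IsElementaryAbelian p A) (hAc : Nat.card A = p ^ 2) :
    centralizer (A : Set G) ≤ M := by
  have hp : p.Prime := Fact.out
  obtain ⟨S, hS⟩ := sylowSet_nonempty (p := p) (sigmaCore M)
  obtain ⟨hStop, hSM, hNS⟩ := bg11_sigma_sylow hG hU hM hpσ hS
  have hMS : M ≤ normalizer (S : Set G) := bg11_sylow_normal hnil hS
  have hAS : A ≤ S := bg12_le_of_normal_sylow hSM hMS (bg11_isPGroup_of_elemAb hA) hAM
  have hA1 : A ≠ ⊥ := by
    intro e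
    rw [e, Subgroup.card_bot] at hAc
    have := hp.one_lt
    nlinarith
  have hS1 : S ≠ ⊥ := fun e => hA1 (le_bot_iff.mp (e ▸ hAS))
  have hZ1 := omegaCenter_ne_bot hSM.2.1 hS1
  have hZM : omegaCenter p S ≤ M := (omegaCenter_le p S).trans hSM.1
  have hMZ : M ≤ normalizer (omegaCenter p S : Set G) :=
    hMS.trans (normalizer_le_normalizer_omegaCenter p S)
  have hNZ := uq_normalizer_eq hG hM hZ1 hZM hMZ
  -- `Z ≤ A`
  have hsup : IsElementaryAbelian p (A ⊔ omegaCenter p S) :=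
    bg11_sup_elemAb hA (omegaCenter_elemAb p S)
      (fun a ha z hz => mem_centralizer_iff.mp hz.2.1 a (hAS ha))
  have hcard := bg12_card_le_of_pRankLE hr (sup_le hAM hZM) hsup
  have hEq : A = A ⊔ omegaCenter p S :=
    Subgroup.eq_of_le_of_card_ge le_sup_left (by rw [hAc]; exact hcard)
  have hZA : omegaCenter p S ≤ A := by rw [hEq]; exact le_sup_right
  rw [← hNZ]
  exact (Subgroup.centralizer_le (by exact_mod_cast hZA)).trans
    (Subgroup.centralizer_le_normalizer _)

end Cfsg.Agent.Helper23
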