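/-
helper23: Bender–Glauberman, Section 11: the last step of Theorem 11.7.
Under Hypothesis 11.1 (`BG11Hyp M A₀ A p`), `A` centralizes every normal `r`-subgroup of `M` for
the primes `r ∉ σ(M)`, `r ≠ p` (`bg11f_cent`); with helper22's reduction
`bg11_normal_of_centralizes` and helper24's 11.5/11.6 this gives `M_σ A ⊴ M` (`bg117`).
-/
import Cfsg.Agent.Helper22.BG11d
import Cfsg.Agent.Helper24.BG11b
import Cfsg.Agent.Helper34.BG11N
import Cfsg.Agent.Helper23.BG12b
import Cfsg.Agent.Helper1.PPrimeCore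
import Cfsg.Agent.S1450
import Cfsg.Agent.S1443

set_option autoImplicit false

namespace Cfsg.Agent.Helper23

open Cfsg Subgroup Cfsg.Agent.Helper22 Cfsg.Agent.Helper24 Cfsg.Agent.Helper34 Cfsg.Agent.Helper35
open scoped Pointwise commutatorElement

universe u

variable {G : Type u} [Group G] [Finite G]

/-- An element of order dividing the prime `p` normalizing a subgroup of prime order `r` with
`p ∤ r - 1` centralizes it. -/
theorem bg11f_centralizes_of_not_dvd {p r : ℕ} [Fact p.Prime] [Fact r.Prime] {V : Subgroup G}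
    (hV : Nat.card V = r) {b : G} (hb : b ∈ normalizer (V : Set G)) (hbp : b ^ p = 1)
    (hnd : ¬ p ∣ r - 1) : b ∈ centralizer (V : Set G) := by
  have hp : p.Prime := Fact.out
  have hr : r.Prime := Fact.out
  haveI : IsCyclic V := isCyclic_of_prime_card hV
  have hcard : Nat.card (MulAut V) = r - 1 := by
    rw [IsCyclic.card_mulAut, hV, Nat.totient_prime hr]
  have h1 : (V.normalizerMonoidHom ⟨b, hb⟩) ^ p = 1 := by
    rw [← map_pow]
    have : (⟨b, hb⟩ : normalizer (V : Set G)) ^ p = 1 := Subtype.ext (by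
      rw [Subgroup.coe_pow]; exact hbp)
    rw [this, map_one]
  have h2 : orderOf (V.normalizerMonoidHom ⟨b, hb⟩) ∣ p := orderOf_dvd_of_pow_eq_one h1
  have h3 : orderOf (V.normalizerMonoidHom ⟨b, hb⟩) ∣ r - 1 := by
    rw [← hcard]; exact orderOf_dvd_natCard _
  have h4 : orderOf (V.normalizerMonoidHom ⟨b, hb⟩) = 1 := by
    rcases (Nat.dvd_prime hp).mp h2 with h | h
    · exact h
    · exact absurd (h ▸ h3) hnd
  have h5 : V.normalizerMonoidHom ⟨b, hb⟩ = 1 := orderOf_eq_one_iff.mp h4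
  have h6 : (⟨b, hb⟩ : normalizer (V : Set G)) ∈ V.normalizerMonoidHom.ker := h5
  rw [normalizerMonoidHom_ker] at h6
  exact h6

omit [Finite G] in
theorem bg11f_elemAb_conj {r : ℕ} {B : Subgroup G} (hB : IsElementaryAbelian r B) (m : G) :
    IsElementaryAbelian r (MulAut.conj m • B) := by
  refine ⟨⟨⟨fun a b => Subtype.ext ?_⟩⟩, fun x hx => ?_⟩
  · have ha := mem_conj_smul.mp a.2
    have hb := mem_conj_smul.mp b.2
    have h1 := bg11_elemAb_comm hB _ ha _ hb
    calc (a : G) * b = m * ((m⁻¹ * a * m) * (m⁻¹ * b * m)) * m⁻¹ := by group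
      _ = m * ((m⁻¹ * b * m) * (m⁻¹ * a * m)) * m⁻¹ := by rw [h1]
      _ = b * a := by group
  · have hx' := hB.2 _ (mem_conj_smul.mp hx)
    have e : x ^ r = m * (m⁻¹ * x * m) ^ r * m⁻¹ := by
      rw [← conj_pow]; group
    rw [e, hx']; group

/-- Under Hypothesis 11.1, for an `A`-invariant `r`-subgroup `Q` of `M` (`r ∉ σ(M)`, `r ≠ p`),
all commutators `[a, g]`, `a ∈ A`, `g ∈ Q`, centralize `M_σ`. -/
theorem bg11f_comm_cent (hG : IsMinSimpleOddOrder G) (hU : BGUniq G) (hpl : BGPLen G)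
    {M A₀ A : Subgroup G} {p : ℕ} [Fact p.Prime] (h : BG11Hyp M A₀ A p)
    {r : ℕ} (hr : r.Prime) (hrσ : r ∉ sigma M) (hrp : r ≠ p) {Q : Subgroup G} (hQM : Q ≤ M)
    (hQ : IsPGroup r Q) (hAQ : A ≤ normalizer (Q : Set G)) :
    ∀ a ∈ A, ∀ g ∈ Q, a * g * a⁻¹ * g⁻¹ ∈ centralizer (sigmaCore M : Set G) := by
  have hp : p.Prime := Fact.out
  have hAM := bg11_le_M h
  have hnil := bg11_sigma_nilpotent hG hU hpl h
  have hodd := uq_odd hG M
  have hσM : sigmaCore M ≤ M := piCoreOf_le _ _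
  have hMσ : M ≤ normalizer (sigmaCore M : Set G) := le_normalizer_piCoreOf _ _
  have hrN : ¬ r ∣ Nat.card (sigmaCore M) :=
    fun hd => hrσ (mem_of_dvd_card_piCoreOf (sigma M) M hr hd)
  have hpN : ¬ p ∣ Nat.card (sigmaCore M) :=
    fun hd => h.notσ (mem_of_dvd_card_piCoreOf (sigma M) M hp hd)
  obtain ⟨B₁, B₂, hB₁A, hB₂A, hc₁, hc₂, hne, hf₁, hf₂⟩ := bg11b_count hG hU hpl h
  obtain ⟨C, hCdef⟩ : ∃ C : Subgroup G, C = centralizer (sigmaCore M : Set G) ⊓ M := ⟨_, rfl⟩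
  have hMC : M ≤ normalizer (C : Set G) := by
    rw [hCdef]
    exact bg11_le_normalizer_inf (bg11_le_normalizer_centralizer hMσ) le_normalizer
  have hline : ∀ B : Subgroup G, B ≤ A → Nat.card B = p →
      sigmaCore M ⊓ centralizer (B : Set G) = ⊥ → B ≤ bg11CommSub Q C M hMC := by
    intro B hBA hBc hBf
    obtain ⟨b, hb, hbp, hgen⟩ := bg11_gen_of_card_prime hBc
    have hfix : ∀ y ∈ sigmaCore M, b * y = y * b → y = 1 := by
      intro y hy hby
      have hyc : y ∈ centralizer (B : Set G) := by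
        rw [mem_centralizer_iff]
        intro x hx
        obtain ⟨i, rfl⟩ := mem_zpowers_iff.mp (hgen x hx)
        exact ((show Commute b y from hby).zpow_left i).eq
      have : y ∈ sigmaCore M ⊓ centralizer (B : Set G) := ⟨hy, hyc⟩
      rw [hBf] at this
      exact Subgroup.mem_bot.mp this
    have hbM : b ∈ M := hAM (hBA hb)
    have hfpf := bg11_fpf_comm hodd hσM hMσ hnil hp hr hrp hrN hpN hQM hQ hbM hbp
      (fun g hg => (mem_normalizer_iff.mp (hAQ (hBA hb)) g).mp hg) hfix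
    have hbT : b ∈ bg11CommSub Q C M hMC := by
      refine ⟨hbM, fun g hg => ?_⟩
      rw [hCdef]
      have hcc : b * g * b⁻¹ * g⁻¹ ∈ centralizer (sigmaCore M : Set G) := by
        rw [mem_centralizer_iff]
        intro y hy
        exact (hfpf g hg y hy).symm
      exact ⟨hcc, M.mul_mem (M.mul_mem (M.mul_mem hbM (hQM hg)) (M.inv_mem hbM))
        (M.inv_mem (hQM hg))⟩
    intro x hx
    obtain ⟨i, rfl⟩ := mem_zpowers_iff.mp (hgen x hx)
    exact Subgroup.zpow_mem _ hbT i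
  have hAT : A ≤ bg11CommSub Q C M hMC := by
    rw [← bg11_sup_eq_of_card h.cardA hB₁A hB₂A hc₁ hc₂ hne]
    exact sup_le (hline B₁ hB₁A hc₁ hf₁) (hline B₂ hB₂A hc₂ hf₂)
  intro a ha g hg
  have hc1 := ((bg11_mem_commSub.mp (hAT ha)).2 g hg)
  rw [hCdef] at hc1
  exact hc1.1

/-- The core of the last step of B&G 11.7: `A` centralizes every normal `r`-subgroup `R` of `M`
that centralizes `M_σ` (`r ∉ σ(M)`, `r ≠ p`). -/
theorem bg11f_core (hG : IsMinSimpleOddOrder G) (hU : BGUniq G) (hpl : BGPLen G) (h12 : BGRk2 G)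
    {M A₀ A : Subgroup G} {p : ℕ} [Fact p.Prime] (h : BG11Hyp M A₀ A p)
    {r : ℕ} (hr : r.Prime) (hrσ : r ∉ sigma M) (hrp : r ≠ p) {R : Subgroup G} (hRM : R ≤ M)
    (hMR : M ≤ normalizer (R : Set G)) (hR : IsPGroup r R)
    (hRc : R ≤ centralizer (sigmaCore M : Set G)) :
    ∀ a ∈ A, ∀ x ∈ R, a * x = x * a := by
  have hp : p.Prime := Fact.out
  haveI := Fact.mk hr
  have hM := h.coatom
  have hAM := bg11_le_M h
  by_cases hR1 : R = ⊥
  · intro a _ x hx
    rw [hR1, mem_bot] at hx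
    rw [hx, mul_one, one_mul]
  -- `V = Ω₁(Z(R))`
  obtain ⟨V, hVdef⟩ : ∃ V : Subgroup G, V = omegaCenter r R := ⟨_, rfl⟩
  have hVR : V ≤ R := hVdef ▸ omegaCenter_le r R
  have hVM : V ≤ M := hVR.trans hRM
  have hV : IsElementaryAbelian r V := hVdef ▸ omegaCenter_elemAb r R
  have hMV : M ≤ normalizer (V : Set G) :=
    hVdef ▸ hMR.trans (normalizer_le_normalizer_omegaCenter r R)
  have hV1 : V ≠ ⊥ := hVdef ▸ omegaCenter_ne_bot hR hR1
  have hNV : normalizer (V : Set G) = M := uq_normalizer_eq hG hM hV1 hVM hMV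
  have hVc : V ≤ centralizer (sigmaCore M : Set G) := hVR.trans hRc
  have hrα : r ∉ alpha M := fun hα => hrσ (bg10_alpha_sub_sigma hG hU hM hα)
  have hrk : PRankLE r 2 ↥M := bg10_pRank_of_not_alpha M r hr hrα
  have hVcard : Nat.card V ≤ r ^ 2 := bg12_card_le_of_pRankLE hrk hVM hV
  have hr2 : r ≠ 2 := by
    rintro rfl
    have h1 : 2 ∣ Nat.card V := bg11_dvd_card_of_isPGroup (bg11_isPGroup_of_elemAb hV) hV1
    have h2 : 2 ∣ Nat.card G := h1.trans (Subgroup.card_subgroup_dvd_card _)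
    exact (Nat.not_even_iff_odd.mpr hG.1) (even_iff_two_dvd.mpr h2)
  have hVp : IsPGroup r V := bg11_isPGroup_of_elemAb hV
  obtain ⟨n, hn⟩ := IsPGroup.iff_card.mp hVp
  have hn0 : n ≠ 0 := by
    rintro rfl
    rw [pow_zero] at hn
    exact hV1 (Subgroup.card_eq_one.mp hn)
  have hn2 : n ≤ 2 := by
    rw [hn] at hVcard
    exact (Nat.pow_le_pow_iff_right hr.one_lt).mp hVcard
  have hσ1 := bg11b_sigmaCore_ne_bot hG hU hM
  have hnil := bg11_sigma_nilpotent hG hU hpl h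
  -- Step 4a: `|V| = r ^ 2` is impossible
  have hn1 : n = 1 := by
    by_contra hn1
    have hn2' : n = 2 := by omega
    rw [hn2'] at hn
    have hVmax := bg10_elemAb_sq_maximal hG hU hM hrk hVM hV hn
    have hD1 : Nat.card ↥(sigmaCore M) ≠ 1 := fun e => hσ1 (Subgroup.card_eq_one.mp e)
    obtain ⟨q, hq, hqD⟩ := Nat.exists_prime_and_dvd hD1
    haveI := Fact.mk hq
    have hqσ : q ∈ sigma M := mem_of_dvd_card_piCoreOf (sigma M) M hq hqD
    have hqr : q ≠ r := fun e => hrσ (e ▸ hqσ)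
    obtain ⟨Q, hQ⟩ := sylowSet_nonempty (p := q) (sigmaCore M)
    obtain ⟨hQtop, -, hNQ⟩ := bg11_sigma_sylow hG hU hM hqσ hQ
    have hMQ := bg11_sylow_normal hnil hQ
    have hQmax : Q ∈ maxInvSubgroups ⊤ V {q} := bg11_sylow_maxInv hq hQtop (hVM.trans hMQ)
    have hQ1 : Q ≠ ⊥ := by
      intro e
      have h1 := hQ.2
      rw [e, Subgroup.card_bot] at h1
      have hk : 0 < (Nat.card ↥(sigmaCore M)).factorization q :=
        hq.factorization_pos_of_dvd Nat.card_pos.ne' hqD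
      have := Nat.one_lt_pow hk.ne' hq.one_lt
      omega
    have hqC : q ∣ Nat.card (centralizer (V : Set G)) := by
      have h1 : q ∣ Nat.card Q := bg11_dvd_card_of_isPGroup hQtop.2.1 hQ1
      have h2 : Q ≤ centralizer (V : Set G) := by
        intro x hx
        rw [mem_centralizer_iff]
        intro v hv
        exact (mem_centralizer_iff.mp (hVc hv) x (hQ.1 hx)).symm
      exact h1.trans (Subgroup.card_dvd_of_le h2)
    obtain ⟨S, hS, hVS, hSN, -, hNS⟩ := bg11_e4 hG hpl hV hn hVmax hq hqr hqC hQmax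
    have hCV : centralizer (V : Set G) ≤ M := by
      rw [← hNV]; exact centralizer_le_normalizer _
    have hSM : S ≤ M := hSN.trans hNQ
    have hSsyl : IsSylowOf r S M := ⟨hSM, hS.2.1, fun T _ hTp hST => hS.2.2 T le_top hTp hST⟩
    have hS1 : S ≠ ⊥ := fun e => hV1 (le_bot_iff.mp (e ▸ hVS))
    have hNSM : normalizer (S : Set G) ≤ M := hNS.trans (sup_le hCV hNQ)
    exact hrσ (bg12_mem_sigma hSsyl hS1 hNSM)
  subst hn1
  rw [pow_one] at hn
  -- Step 4b: `|V| = r`
  obtain ⟨-, -, B, hB, hBc, hVB⟩ := bg10_nonsigma_normalizer hG hU hM hrσ hn hNV.le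
  have h' : BG11Hyp M V B r := ⟨hM, hrσ, hn, hNV.le, hVB, hB, hBc⟩
  obtain ⟨Pr, hPr, hRPr⟩ := exists_isSylowOf_ge hR hRM
  have hPrab := bg11b_sylow_abelian hG hU hpl h12 h' hPr
  have hΩ : ∀ x ∈ R, x ^ r = 1 → x ∈ V := by
    intro x hx hxr
    rw [hVdef, mem_omegaCenter]
    refine ⟨hx, ?_, hxr⟩
    rw [mem_centralizer_iff]
    intro y hy
    exact hPrab y (hRPr hy) x (hRPr hx)
  -- it suffices that `A` centralizes `V`
  suffices hAV : A ≤ centralizer (V : Set G) by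
    have hcop : (Nat.card A).Coprime r := by
      rw [h.cardA]
      exact Nat.Coprime.pow_left 2 ((Nat.coprime_primes hp hr).mpr (Ne.symm hrp))
    have hbot : IsElementaryAbelian r (⊥ : Subgroup G) :=
      ⟨⟨⟨fun a b => Subtype.ext (by
        rw [Subgroup.coe_mul, Subgroup.coe_mul, mem_bot.mp a.2, mem_bot.mp b.2])⟩⟩,
        fun x hx => by rw [mem_bot.mp hx, one_pow]⟩
    have key := Cfsg.Agent.S1443.result r hr2 R ⊥ A hR bot_le hbot (hAM.trans hMR) hcop (by
      intro x hx hox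
      have hxV : x ∈ V := hΩ x hx.1 (by rw [← hox]; exact pow_orderOf_eq_one x)
      intro a ha
      rw [mem_centralizer_iff]
      intro y hy
      rw [Set.mem_singleton_iff] at hy
      subst hy
      exact mem_centralizer_iff.mp (hAV ha) y hxV)
    intro a ha x hx
    exact (mem_centralizer_iff.mp (key ha) x hx).symm
  by_cases hrC : r ∣ Nat.card (centralizer (A : Set G))
  · -- Step 4b-ii
    exact bg11n_step4bii hG hU h hrp hrσ hn hVM hMV hrC (fun Q hQ => by
      obtain ⟨S, hS, hAS, -, hSc, -⟩ :=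
        bg11_e4 hG hpl h.elem h.cardA (bg11_max hG hU h) hr hrp hrC hQ
      exact ⟨S, hS.2.1, hAS, hSc⟩)
  -- Step 4b-i
  by_contra hAV
  obtain ⟨a₀, ha₀, ha₀V⟩ := SetLike.not_le_iff_exists.mp hAV
  have hpr : p ∣ r - 1 := by
    by_contra hnd
    exact ha₀V (bg11f_centralizes_of_not_dvd hn (hMV (hAM ha₀)) (h.elem.2 a₀ ha₀) hnd)
  have hplt : p < r := by
    have h1 : p ≤ r - 1 := Nat.le_of_dvd (by have := hr.one_lt; omega) hpr
    have := hr.one_lt
    omega
  haveI : Group.IsSolvable ↥M := uq_isSolvable hG hM.1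
  have hpM : p ∣ Nat.card M := by
    have h1 : p ∣ Nat.card A := by rw [h.cardA]; exact dvd_pow_self p (by norm_num)
    exact h1.trans (Subgroup.card_dvd_of_le hAM)
  have h1450 := (Cfsg.Agent.S1450.result (G := ↥M) (uq_odd hG M) p hpM (bg11_rank hG hU h).1).1
  obtain ⟨K, hKdef⟩ : ∃ K : Subgroup G, K = (pPrimeCore p ↥M).map M.subtype := ⟨_, rfl⟩
  have hKM : K ≤ M := by rw [hKdef]; exact Subgroup.map_subtype_le _
  have hMK : M ≤ normalizer (K : Set G) := by
    rw [hKdef, Subgroup.le_normalizer_iff]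
    rintro x hx _ ⟨y, hy, rfl⟩
    exact ⟨⟨x, hx⟩ * y * ⟨x, hx⟩⁻¹, (Helper1.pPrimeCore_normal (G := ↥M) p).conj_mem y hy ⟨x, hx⟩,
      rfl⟩
  have hKcard : Nat.card K = Nat.card (pPrimeCore p ↥M) := by
    rw [hKdef]
    exact Nat.card_congr
      ((pPrimeCore p ↥M).equivMapOfInjective M.subtype M.subtype_injective).toEquiv.symm
  have hKcop : (Nat.card K).Coprime p := by
    rw [hKcard]; exact Helper1.pPrimeCore_coprime p
  have hrK : ¬ r ∣ K.relIndex M := by
    intro hd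
    have e : K.relIndex M = (pPrimeCore p ↥M).index := by
      rw [hKdef, Subgroup.relIndex]
      show ((map M.subtype (pPrimeCore p ↥M)).comap M.subtype).index = _
      rw [Subgroup.comap_map_eq_self_of_injective M.subtype_injective]
    rw [e] at hd
    have := h1450 r hr hd
    omega
  have hVK : V ≤ K := by
    have h1 : V.subgroupOf M ≤ pPrimeCore p ↥M := by
      apply Helper1.le_pPrimeCore (Subgroup.normal_subgroupOf_of_le_normalizer hMV)
      rw [card_subgroupOf_of_le hVM, hn]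
      exact (Nat.coprime_primes hr hp).mpr hrp
    intro v hv
    rw [hKdef]
    exact ⟨⟨v, hVM hv⟩, h1 (Subgroup.mem_subgroupOf.mpr hv), rfl⟩
  have hAK : A ≤ normalizer (K : Set G) := hAM.trans hMK
  have hcopAK : (Nat.card A).Coprime (Nat.card K) := by
    rw [h.cardA]; exact Nat.Coprime.pow_left 2 hKcop.symm
  have hsolvK : Group.IsSolvable ↥K := isSolvable_of_le hKM inferInstance
  obtain ⟨Kr, hKr, hVKr, hAKr⟩ := exists_invariant_sylow_ge (p := r) hAK hcopAK (Or.inr hsolvK)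
    hVK hVp (hAM.trans hMV)
  have hKrsyl : IsSylowOf r Kr M := bg10_isSylowOf_of_sylowSet hKM hrK hKr
  -- an `A`-invariant elementary abelian subgroup `B' ≥ V` of order `r ^ 2`
  obtain ⟨P', hP', hBP'⟩ := exists_isSylowOf_ge (bg11_isPGroup_of_elemAb hB) (bg11_le_M h')
  obtain ⟨m, hm, hKrm⟩ := bg10_sylow_conj hP' hKrsyl
  obtain ⟨B', hB'def⟩ : ∃ B' : Subgroup G, B' = MulAut.conj m • B := ⟨_, rfl⟩
  have hB'Kr : B' ≤ Kr := by
    rw [hB'def, hKrm]; exact conj_smul_le_conj_smul hBP'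
  have hB'e : IsElementaryAbelian r B' := hB'def ▸ bg11f_elemAb_conj hB m
  have hB'c : Nat.card B' = r ^ 2 := by rw [hB'def, card_conj_smul, hBc]
  have hVB' : V ≤ B' := by
    have h1 : MulAut.conj m • V = V := conj_smul_eq_self_of_mem_normalizer (hMV hm)
    rw [hB'def, ← h1]
    exact conj_smul_le_conj_smul hVB
  have h'' : BG11Hyp M V B' r := ⟨hM, hrσ, hn, hNV.le, hVB', hB'e, hB'c⟩
  have hω := (bg11b_omega hG hU hpl h'' hKrsyl hB'Kr).1
  have hB'M : B' ≤ M := hB'Kr.trans hKrsyl.1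
  have hAB' : A ≤ normalizer (B' : Set G) := by
    intro a ha
    apply bg10_mem_normalizer
    intro x hx
    refine hω _ ((mem_normalizer_iff.mp (hAKr ha) x).mp (hB'Kr hx)) ?_
    rw [conj_pow, hB'e.2 x hx]; group
  have hB'p : IsPGroup r B' := bg11_isPGroup_of_elemAb hB'e
  have hcomm := bg11f_comm_cent hG hU hpl h hr hrσ hrp hB'M hB'p hAB'
  have hcopAB' : (Nat.card A).Coprime (Nat.card B') := by
    rw [h.cardA, hB'c]
    exact Nat.Coprime.pow 2 2 ((Nat.coprime_primes hp hr).mpr (Ne.symm hrp))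
  have hcomle : (⁅B', A⁆ : Subgroup G) ≤ centralizer (sigmaCore M : Set G) := by
    rw [Subgroup.commutator_le]
    intro g hg a ha
    have h1 := (centralizer (sigmaCore M : Set G)).inv_mem (hcomm a ha g hg)
    have e : ⁅g, a⁆ = (a * g * a⁻¹ * g⁻¹)⁻¹ := by rw [commutatorElement_def]; group
    rw [e]; exact h1
  have hB'cent : B' ≤ centralizer (sigmaCore M : Set G) := by
    intro x hx
    obtain ⟨n, hn', c, hc, rfl⟩ := exists_commutator_mul_fixed hAB' hcopAB'
      (Or.inr (isSolvable_of_le hB'M inferInstance)) hx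
    have hc1 : c = 1 := by
      by_contra hc1
      have hcr : c ^ r = 1 := hB'e.2 c hc.1
      have ho : orderOf c = r := orderOf_eq_prime hcr hc1
      apply hrC
      have h1 : orderOf (⟨c, hc.2⟩ : centralizer (A : Set G)) = r := by
        rw [← ho]
        exact Subgroup.orderOf_mk c hc.2
      rw [← h1]
      exact orderOf_dvd_natCard _
    rw [hc1, mul_one]
    exact hcomle hn'
  have h116 := bg11b_cent_A hG hU hpl h''
  apply hσ1
  rw [eq_bot_iff, ← h116]
  intro y hy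
  have hyc : y ∈ centralizer (B' : Set G) := by
    rw [mem_centralizer_iff]
    intro x hx
    exact (mem_centralizer_iff.mp (hB'cent hx) y hy).symm
  exact Subgroup.mem_inf.mpr ⟨hy, hyc⟩

/-- **B&G Theorem 11.7, the centralizing step**: under Hypothesis 11.1, `A` centralizes every
normal `r`-subgroup of `M` for the primes `r ∉ σ(M)`, `r ≠ p`. -/
theorem bg11f_cent (hG : IsMinSimpleOddOrder G) (hU : BGUniq G) (hpl : BGPLen G) (h12 : BGRk2 G)
    {M A₀ A : Subgroup G} {p : ℕ} [Fact p.Prime] (h : BG11Hyp M A₀ A p) :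
    ∀ r : ℕ, r.Prime → r ∉ sigma M → r ≠ p → ∀ R : Subgroup G, R ≤ M →
      M ≤ normalizer (R : Set G) → IsPGroup r R → ∀ a ∈ A, ∀ x ∈ R, a * x = x * a := by
  intro r hr hrσ hrp R hRM hMR hR a ha x hx
  have hp : p.Prime := Fact.out
  have hAM := bg11_le_M h
  have hMσ : M ≤ normalizer (sigmaCore M : Set G) := le_normalizer_piCoreOf _ _
  obtain ⟨R', hR'def⟩ : ∃ R' : Subgroup G, R' = R ⊓ centralizer (sigmaCore M : Set G) :=
    ⟨_, rfl⟩
  have hR'R : R' ≤ R := hR'def ▸ inf_le_left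
  have hMR' : M ≤ normalizer (R' : Set G) := by
    rw [hR'def]
    exact bg11_le_normalizer_inf hMR (bg11_le_normalizer_centralizer hMσ)
  have hcore := bg11f_core hG hU hpl h12 h hr hrσ hrp (hR'R.trans hRM) hMR' (hR.to_le hR'R)
    (hR'def ▸ inf_le_right)
  have hc := bg11f_comm_cent hG hU hpl h hr hrσ hrp hRM hR (hAM.trans hMR) a ha x hx
  have hcR : a * x * a⁻¹ * x⁻¹ ∈ R :=
    R.mul_mem ((mem_normalizer_iff.mp (hMR (hAM ha)) x).mp hx) (R.inv_mem hx)
  have hcR' : a * x * a⁻¹ * x⁻¹ ∈ R' := by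
    rw [hR'def]; exact Subgroup.mem_inf.mpr ⟨hcR, hc⟩
  have hcomm := hcore a ha _ hcR'
  obtain ⟨k, hk⟩ := hR ⟨_, hcR⟩
  have hk' : (a * x * a⁻¹ * x⁻¹) ^ (r ^ k) = 1 := by
    have h2 := congrArg Subtype.val hk
    rwa [Subgroup.coe_pow] at h2
  exact bg11_comm_eq_one (Nat.Coprime.pow_right k ((Nat.coprime_primes hp hr).mpr (Ne.symm hrp)))
    (h.elem.2 a ha) hcomm hk'

/-- **B&G Theorem 11.7**: under Hypothesis 11.1, `M_σ A` is normal in `M`. -/
theorem bg117 (hG : IsMinSimpleOddOrder G) (hU : BGUniq G) (hpl : BGPLen G) (h12 : BGRk2 G)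
    {M A₀ A : Subgroup G} {p : ℕ} [Fact p.Prime] (h : BG11Hyp M A₀ A p) :
    M ≤ normalizer ((sigmaCore M ⊔ A : Subgroup G) : Set G) := by
  obtain ⟨P, hP, hAP⟩ := exists_isSylowOf_ge (bg11_isPGroup_of_elemAb h.elem) (bg11_le_M h)
  exact bg11_normal_of_centralizes hG hU hpl h ⟨P, hP, hAP, (bg11b_omega hG hU hpl h hP hAP).1⟩
    (bg11b_count hG hU hpl h) (bg11f_cent hG hU hpl h12 h)

end Cfsg.Agent.Helper23
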