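import Cfsg.Agent.Helper62.BG1210P1

/-!
# CALL S1421, piece P1b in `W`-form (adapted from helper62's `Helper62.bg1210_nonab_cent`)
-/

set_option autoImplicit false

namespace Cfsg.Agent.Helper23

open Cfsg Subgroup Cfsg.Agent.Helper23

universe u

variable {G : Type u} [Group G] [Finite G]

/-- PIECE P1b of CALL S1421, `W`-form: in the nonabelian case, `C_W(x) ≤ A ∩ C(M_σ)` for every
non-identity `x ∈ M_σ`, where `(R)` is only assumed on `W ≤ E`. -/
theorem bg1210_nonab_cent_W (hG : IsMinSimpleOddOrder G) {M E : Subgroup G} (hM : IsCoatom M)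
    (hE : IsComplIn E (sigmaCore M) M) {W : Subgroup G} (hWE : W ≤ E) (hR : BG1210R M W)
    {p : ℕ} [Fact p.Prime]
    (hp : p ∈ tau2 M) (hS : ∀ S : Sylow p G, ¬ IsMulCommutative (S : Subgroup G))
    {A : Subgroup G} (hAE : A ≤ E) (hA : IsElementaryAbelian p A) (hAc : Nat.card A = p ^ 2)
    (hsq : ∀ u ∈ E, u ^ p ∈ A ⊓ centralizer (sigmaCore M : Set G) → u ^ p = 1) :
    ∀ x ∈ sigmaCore M, x ≠ 1 →
      W ⊓ centralizer ({x} : Set G) ≤ A ⊓ centralizer (sigmaCore M : Set G) := by
  intro x hxσ hx1 e he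
  obtain ⟨heW, heC⟩ := Subgroup.mem_inf.mp he
  have heE : e ∈ E := hWE heW
  have hpp : p.Prime := Fact.out
  have hU : Cfsg.Agent.Helper22.BGUniq G := fun K hK h1 h2 => Cfsg.Agent.S1403.result hG K hK h1 h2
  have h19 := Cfsg.Agent.S1419.result hG M hM E hE p hp hS A ⟨hAE, hA, hAc⟩
  have hex : e * x = x * e := (mem_centralizer_iff.mp heC x rfl).symm
  -- elements of prime order of `E` commuting with `x`
  have key : ∀ e' : G, e' ∈ W → e' * x = x * e' → ∀ s : ℕ, s.Prime → orderOf e' = s →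
      s = p ∧ e' ∈ A ⊓ centralizer (sigmaCore M : Set G) := by
    intro e' he'W he'x s hs ho
    have he'E : e' ∈ E := hWE he'W
    have he'1 : e' ≠ 1 := by
      rintro rfl
      rw [orderOf_one] at ho
      exact hs.one_lt.ne ho
    have hxC : x ∈ sigmaCore M ⊓ centralizer ({e'} : Set G) := by
      refine Subgroup.mem_inf.mpr ⟨hxσ, ?_⟩
      rw [mem_centralizer_iff]
      intro z hz
      rw [Set.mem_singleton_iff] at hz
      subst hz
      exact he'x
    have hsE : s ∣ Nat.card E := by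
      rw [← ho]
      have := orderOf_dvd_natCard (⟨e', he'E⟩ : ↥E)
      rwa [Subgroup.orderOf_mk] at this
    have hsσ : s ∉ sigma M := Cfsg.Agent.Helper22.bg12_not_sigma_of_dvd hG hU hM hE hs hsE
    have hsM : s ∣ Nat.card M := hsE.trans (Subgroup.card_dvd_of_le hE.1)
    have hr2 : PRankLE s 2 ↥M := by
      by_contra hr
      exact hsσ (Cfsg.Agent.Helper22.bg10_alpha_sub_sigma hG hU hM ⟨hs, hr⟩)
    by_cases hr1 : PRankLE s 1 ↥M
    · exfalso
      have hτ : s ∈ tau1 M ∪ tau3 M := by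
        by_cases hd : s ∣ Nat.card ↥⁅M, M⁆
        · exact Or.inr ⟨hs, hsσ, hd, hr1⟩
        · exact Or.inl ⟨hs, hsσ, hsM, hd, hr1⟩
      have h1 := hR e' he'W he'1 (fun q hq hqd => by
        rw [ho] at hqd
        rw [(Nat.prime_dvd_prime_iff_eq hq hs).mp hqd]
        exact hτ)
      rw [h1, Subgroup.mem_bot] at hxC
      exact hx1 hxC
    · have hsτ : s ∈ tau2 M := ⟨hs, hsσ, hr2, hr1⟩
      rw [h19.1, Set.mem_singleton_iff] at hsτ
      refine ⟨hsτ, ?_⟩
      subst hsτ
      by_contra hmem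
      have hXne : zpowers e' ≠ A ⊓ centralizer (sigmaCore M : Set G) := by
        intro h
        exact hmem (h ▸ mem_zpowers e')
      have h1 := (h19.2.2 (zpowers e') (by rw [zpowers_le]; exact he'E)
        (by rw [Nat.card_zpowers, ho]) hXne).1
      have hxC' : x ∈ sigmaCore M ⊓ centralizer ((zpowers e' : Subgroup G) : Set G) := by
        refine Subgroup.mem_inf.mpr ⟨hxσ, ?_⟩
        have h2 : zpowers e' ≤ centralizer ({x} : Set G) := by
          rw [zpowers_le, mem_centralizer_iff]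
          intro z hz
          rw [Set.mem_singleton_iff] at hz
          subst hz
          exact he'x.symm
        rw [mem_centralizer_iff]
        intro y hy
        exact (mem_centralizer_iff.mp (h2 hy) x rfl).symm
      rw [h1, Subgroup.mem_bot] at hxC'
      exact hx1 hxC'
  -- powers of `e` commute with `x`
  have hpowx : ∀ n : ℕ, e ^ n * x = x * e ^ n := fun n => (Commute.pow_left hex n).eq
  by_cases he1 : e = 1
  · rw [he1]; exact Subgroup.one_mem _
  have hn0 : orderOf e ≠ 0 := (orderOf_pos e).ne'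
  -- the order of `e` is a power of `p`
  have hprime : ∀ {d : ℕ}, d.Prime → d ∣ orderOf e → d = p := by
    intro d hd hdvd
    have ho : orderOf (e ^ (orderOf e / d)) = d := orderOf_pow_orderOf_div hn0 hdvd
    exact (key _ (pow_mem heW _) (hpowx _) d hd ho).1
  have hpow := Nat.eq_prime_pow_of_unique_prime_dvd hn0 hprime
  set k := (orderOf e).primeFactorsList.length with hk
  have hk0 : k ≠ 0 := by
    intro h0
    rw [h0, pow_zero] at hpow
    exact he1 (orderOf_eq_one_iff.mp hpow)
  obtain ⟨j, hj⟩ := Nat.exists_eq_succ_of_ne_zero hk0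
  have hof : orderOf (e ^ p ^ j) = p := by
    have h1 : orderOf (e ^ p ^ j) = orderOf e / p ^ j := by
      apply orderOf_pow_of_dvd (pow_ne_zero _ hpp.ne_zero)
      rw [hpow, hj]
      exact pow_dvd_pow p (Nat.le_succ j)
    rw [h1, hpow, hj, pow_succ, Nat.mul_div_cancel_left _ (pow_pos hpp.pos j)]
  have hf := (key _ (pow_mem heW _) (hpowx _) p hpp hof).2
  rcases Nat.eq_zero_or_pos j with h0 | hpos
  · rw [h0, pow_zero, pow_one] at hf
    exact hf
  · exfalso
    obtain ⟨i, hi⟩ := Nat.exists_eq_succ_of_ne_zero hpos.ne'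
    have h1 : (e ^ p ^ i) ^ p = e ^ p ^ j := by
      rw [← pow_mul, hi, pow_succ]
    have h2 := hsq (e ^ p ^ i) (pow_mem heE _) (h1 ▸ hf)
    rw [h1] at h2
    rw [h2, orderOf_one] at hof
    exact hpp.one_lt.ne hof

end Cfsg.Agent.Helper23
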