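import Cfsg.Agent.S1417
import Cfsg.Agent.S1418
import Cfsg.Agent.S1419
import Cfsg.Agent.S1420

/-!
# Definitions for CALL S1421 (B&G Corollary 12.10-type statement: `A₀` and `E₀`)

`BG1210R M E` is the hypothesis of S1421 on the complement `E` of `M_σ`.
`BG1210Syl p E P A` packages a normal abelian Sylow `p`-subgroup `P` of `E` (which is also a Sylow
`p`-subgroup of `G`) together with `A = Ω₁(P)` elementary abelian of order `p ^ 2`.
-/

set_option autoImplicit false

namespace Cfsg.Agent.Helper23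

open Cfsg Subgroup

universe u

variable {G : Type u} [Group G]

/-- The hypothesis of S1421: every non-identity element of `E` whose order involves only primes of
`τ₁(M) ∪ τ₃(M)` has no non-identity fixed point on `M_σ`. -/
def BG1210R (M E : Subgroup G) : Prop :=
  ∀ e ∈ E, e ≠ 1 → (∀ p : ℕ, p.Prime → p ∣ orderOf e → p ∈ tau1 M ∪ tau3 M) →
    sigmaCore M ⊓ centralizer ({e} : Set G) = ⊥

/-- `P` is a normal abelian Sylow `p`-subgroup of `E` containing every `p`-element of `E`, `P` is a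
Sylow `p`-subgroup of `G`, and `A = Ω₁(P)` is elementary abelian of order `p ^ 2`. -/
structure BG1210Syl (p : ℕ) (E P A : Subgroup G) : Prop where
  le : P ≤ E
  norm : E ≤ normalizer (P : Set G)
  pgroup : IsPGroup p P
  all : ∀ x ∈ E, (∃ k : ℕ, x ^ p ^ k = 1) → x ∈ P
  comm : ∀ x ∈ P, ∀ y ∈ P, x * y = y * x
  leA : A ≤ P
  elemA : IsElementaryAbelian p A
  cardA : Nat.card A = p ^ 2
  omega : ∀ x ∈ P, x ^ p = 1 → x ∈ A
  sylG : ∀ Q : Subgroup G, IsPGroup p Q → P ≤ Q → Q = P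

/-- The conclusion of S1421 for the pair `(M, E)`. -/
def BG1210Concl (M E : Subgroup G) : Prop :=
  (∃ A₀ : Subgroup G, A₀ ≤ E ∧ E ≤ normalizer (A₀ : Set G) ∧ IsMulCommutative A₀ ∧
      ∀ x ∈ sigmaCore M, x ≠ 1 → E ⊓ centralizer ({x} : Set G) ≤ A₀) ∧
    ∃ E₀ : Subgroup G, E₀ ≤ E ∧ Monoid.exponent E₀ = Monoid.exponent E ∧
      ∀ e ∈ E₀, e ≠ 1 → sigmaCore M ⊓ centralizer ({e} : Set G) = ⊥

end Cfsg.Agent.Helper23
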