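import Cfsg.Agent.Helper23.BG1210b
import Cfsg.Agent.Helper23.BG1210P1bW
import Cfsg.Agent.Helper4.BG1210P3a
import Cfsg.Agent.Helper33.BG1210P6b
import Cfsg.Agent.Helper72.BG12Cor
import Cfsg.Agent.Helper22.BG12a
import Cfsg.Agent.Helper62.BG1210P1
import Cfsg.Agent.Helper4.BG1210P4a

/-!
# CALL S1421: assembly lemmas
-/

set_option autoImplicit false

namespace Cfsg.Agent.Helper23

open Cfsg Subgroup Cfsg.Agent.Helper22 Cfsg.Agent.Helper35
open scoped Pointwise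

universe u

variable {G : Type u} [Group G] [Finite G]

/-- For `p ∈ τ₂(M)` the complement `E` contains an elementary abelian subgroup of order `p ^ 2`. -/
theorem bg1210_exists_elemAb_le (hG : IsMinSimpleOddOrder G) {M E : Subgroup G} (hM : IsCoatom M)
    (hE : IsComplIn E (sigmaCore M) M) {p : ℕ} [Fact p.Prime] (hp : p ∈ tau2 M) :
    ∃ A : Subgroup G, A ≤ E ∧ IsElementaryAbelian p A ∧ Nat.card A = p ^ 2 := by
  have hpp : p.Prime := Fact.out
  have hU : BGUniq G := fun K hK h1 h2 => S1403.result hG K hK h1 h2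
  obtain ⟨A', hA'M, hA', hA'c⟩ := Helper72.b12c_exists_elemAb hp
  have hA'p : IsPGroup p A' := Helper49.bg1216_isPGroup_of_elemAb hA'
  obtain ⟨SE, hSE, -⟩ := exists_isSylowOf_ge (p := p) (T := (⊥ : Subgroup G)) (H := E)
    IsPGroup.of_bot bot_le
  have hMσn : M ≤ normalizer ((sigmaCore M : Subgroup G) : Set G) :=
    le_normalizer_piCoreOf (sigma M) M
  have hcardM := bg12_card_compl hMσn hE
  have hpσ : ¬ p ∣ Nat.card (sigmaCore M) := fun h =>
    hp.2.1 ((bg10_sigma_hall hG hU hM).1.2.1 p hpp h)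
  have hSEM : IsSylowOf p SE M := by
    refine ⟨hSE.1.trans hE.1, hSE.2.1, ?_⟩
    intro T hTM hT hle
    obtain ⟨j, hj⟩ := IsPGroup.iff_card.mp hT
    have h1 : p ^ j ∣ Nat.card E * Nat.card (sigmaCore M) := by
      rw [hcardM, ← hj]; exact Subgroup.card_dvd_of_le hTM
    have h2 : p ^ j ∣ Nat.card E :=
      (Nat.Coprime.pow_left j (hpp.coprime_iff_not_dvd.mpr hpσ)).dvd_of_dvd_mul_right h1
    obtain ⟨P', hP'⟩ := hSE.exists_sylow
    have h3 : Nat.card SE = p ^ (Nat.card E).factorization p := by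
      rw [← card_subgroupOf_of_le hSE.1, ← hP', Sylow.card_eq_multiplicity]
    have h4 : j ≤ (Nat.card E).factorization p :=
      (Nat.Prime.pow_dvd_iff_le_factorization hpp Nat.card_pos.ne').mp h2
    refine (Subgroup.eq_of_le_of_card_ge hle ?_).symm
    rw [hj, h3]
    exact Nat.pow_le_pow_right hpp.pos h4
  obtain ⟨Q, hQ, hA'Q⟩ := exists_isSylowOf_ge hA'p hA'M
  obtain ⟨h, -, hh⟩ := bg10_sylow_conj hQ hSEM
  refine ⟨MulAut.conj h • A', ?_, Helper72.b12c_conj_elemAb hA' h, ?_⟩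
  · exact ((conj_smul_le_conj_smul hA'Q).trans hh.ge).trans hSE.1
  · rw [card_conj_smul, hA'c]

/-- Piece P2b of CALL S1421. -/
theorem bg1210_syl_normal (hG : IsMinSimpleOddOrder G) {M E : Subgroup G} (hM : IsCoatom M)
    (hE : IsComplIn E (sigmaCore M) M) {p : ℕ} [Fact p.Prime] (hp : p ∈ tau2 M)
    {P A : Subgroup G} (hPE : P ≤ E) (hP : IsPGroup p P)
    (hPc : ∀ x ∈ P, ∀ y ∈ P, x * y = y * x) (hAP : A ≤ P)
    (hA : IsElementaryAbelian p A) (hAc : Nat.card A = p ^ 2)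
    (hom : ∀ x ∈ P, x ^ p = 1 → x ∈ A)
    (hsyl : ∀ Q : Subgroup G, IsPGroup p Q → P ≤ Q → Q = P) :
    E ≤ normalizer (P : Set G) :=
  bg1210_syl_normal_aux hG hM hE hp hPE hP hPc hAP hA hAc hom hsyl
    (Helper4.bg1210_comm_le hG hP hPc hAP hA hAc hsyl)

/-- A normal Sylow `p`-subgroup of `G` inside `E` contains every `p`-element of `E`. -/
theorem bg1210_syl_all {p : ℕ} [Fact p.Prime] {E P : Subgroup G} (hP : IsPGroup p P)
    (hEP : E ≤ normalizer (P : Set G))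
    (hsyl : ∀ Q : Subgroup G, IsPGroup p Q → P ≤ Q → Q = P) :
    ∀ x ∈ E, (∃ k : ℕ, x ^ p ^ k = 1) → x ∈ P := by
  rintro x hx ⟨k, hk⟩
  have hxp : IsPGroup p (zpowers x) := by
    rintro ⟨y, hy⟩
    obtain ⟨i, rfl⟩ := Subgroup.mem_zpowers_iff.mp hy
    exact ⟨k, Subtype.ext (by
      simp only [Subgroup.coe_pow, Subgroup.coe_one]
      rw [← zpow_natCast, ← zpow_mul, mul_comm, zpow_mul, zpow_natCast, hk, one_zpow])⟩
  have hxN : zpowers x ≤ normalizer (P : Set G) := by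
    rw [zpowers_le]; exact hEP hx
  have hsup : IsPGroup p ↥(zpowers x ⊔ P) := IsPGroup.to_sup_of_normal_right' hxp hP hxN
  have h1 := hsyl _ hsup le_sup_right
  rw [← h1]
  exact le_sup_left (a := zpowers x) (b := P) (mem_zpowers x)

/-- Primes dividing `|E|` lie in `τ₁(M) ∪ τ₃(M)` unless they are in `τ₂(M)`. -/
theorem bg1210_tau13 (hG : IsMinSimpleOddOrder G) {M E : Subgroup G} (hM : IsCoatom M)
    (hE : IsComplIn E (sigmaCore M) M) {s : ℕ} (hs : s.Prime) (hsE : s ∣ Nat.card E)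
    (hs2 : s ∉ tau2 M) : s ∈ tau1 M ∪ tau3 M := by
  have hU : BGUniq G := fun K hK h1 h2 => S1403.result hG K hK h1 h2
  have hsσ : s ∉ sigma M := bg12_not_sigma_of_dvd hG hU hM hE hs hsE
  have hsM : s ∣ Nat.card M := hsE.trans (Subgroup.card_dvd_of_le hE.1)
  have hr2 : PRankLE s 2 ↥M := by
    by_contra hr
    exact hsσ (bg10_alpha_sub_sigma hG hU hM ⟨hs, hr⟩)
  have hr1 : PRankLE s 1 ↥M := by
    by_contra hr1
    exact hs2 ⟨hs, hsσ, hr2, hr1⟩
  by_cases hd : s ∣ Nat.card ↥⁅M, M⁆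
  · exact Or.inr ⟨hs, hsσ, hd, hr1⟩
  · exact Or.inl ⟨hs, hsσ, hsM, hd, hr1⟩

omit [Finite G] in
/-- A `p`-subgroup and a `q`-subgroup meet trivially. -/
theorem bg1210_inf_eq_bot {p q : ℕ} (hp : p.Prime) (hq : q.Prime) (hpq : p ≠ q)
    {P Q : Subgroup G} (hP : IsPGroup p P) (hQ : IsPGroup q Q) {z : G} (hzP : z ∈ P)
    (hzQ : z ∈ Q) : z = 1 := by
  obtain ⟨i, hi⟩ := hP ⟨z, hzP⟩
  obtain ⟨j, hj⟩ := hQ ⟨z, hzQ⟩
  have hi' : z ^ p ^ i = 1 := by simpa using congrArg Subtype.val hi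
  have hj' : z ^ q ^ j = 1 := by simpa using congrArg Subtype.val hj
  exact bg1210_eq_one_of_coprime hi' hj' (Nat.Coprime.pow _ _ ((Nat.coprime_primes hp hq).mpr hpq))

omit [Finite G] in
/-- Elements of two normal subgroups with trivial intersection commute. -/
theorem bg1210_comm_of_normal {E P Q : Subgroup G} (hPE : P ≤ E) (hQE : Q ≤ E)
    (hEP : E ≤ normalizer (P : Set G)) (hEQ : E ≤ normalizer (Q : Set G))
    (hPQ : ∀ z, z ∈ P → z ∈ Q → z = 1) {x y : G} (hx : x ∈ P) (hy : y ∈ Q) : x * y = y * x := by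
  have h1 : x * y * x⁻¹ * y⁻¹ ∈ Q := by
    have := (mem_normalizer_iff.mp (hEQ (hPE hx)) y).mp hy
    exact Q.mul_mem this (Q.inv_mem hy)
  have h2 : x * y * x⁻¹ * y⁻¹ ∈ P := by
    have := (mem_normalizer_iff.mp (hEP (hQE hy)) x⁻¹).mp (P.inv_mem hx)
    have e : x * y * x⁻¹ * y⁻¹ = x * (y * x⁻¹ * y⁻¹) := by group
    rw [e]; exact P.mul_mem hx this
  have h3 := hPQ _ h2 h1
  calc x * y = (x * y * x⁻¹ * y⁻¹) * (y * x) := by group
    _ = y * x := by rw [h3, one_mul]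

omit [Finite G] in
theorem bg1210_cent_symm {x e : G} (h : x ∈ centralizer ({e} : Set G)) :
    e ∈ centralizer ({x} : Set G) := by
  rw [mem_centralizer_iff] at h ⊢
  intro z hz
  rw [Set.mem_singleton_iff] at hz
  subst hz
  exact (h e rfl).symm

/-- The conclusion of the generalised form of S1421 (for a subgroup `W` of `E`). -/
def BG1212Concl (M E W : Subgroup G) : Prop :=
  (∃ A₀ : Subgroup G, A₀ ≤ W ∧ E ≤ normalizer (A₀ : Set G) ∧ IsMulCommutative A₀ ∧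
      ∀ x ∈ sigmaCore M, x ≠ 1 → W ⊓ centralizer ({x} : Set G) ≤ A₀) ∧
    ∃ W₀ : Subgroup G, W₀ ≤ W ∧ Monoid.exponent W₀ = Monoid.exponent W ∧
      ∀ e ∈ W₀, e ≠ 1 → sigmaCore M ⊓ centralizer ({e} : Set G) = ⊥

/-- Case (i): some `p ∈ τ₂(M)` has nonabelian Sylow `p`-subgroups in `G`. -/
theorem bg1212_nonab (hG : IsMinSimpleOddOrder G) {M E : Subgroup G} (hM : IsCoatom M)
    (hE : IsComplIn E (sigmaCore M) M) {W : Subgroup G} (hWE : W ≤ E)
    (hW2 : ∀ e ∈ E, (∀ p : ℕ, p.Prime → p ∣ orderOf e → p ∈ tau2 M) → e ∈ W)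
    (hR : BG1210R M W) {p : ℕ} [Fact p.Prime] (hp : p ∈ tau2 M)
    (hS : ∀ S : Sylow p G, ¬ IsMulCommutative (S : Subgroup G))
    (H1c : ∀ (P A₀ : Subgroup G), P ≤ W → IsPGroup p P →
      (∀ Q : Subgroup G, Q ≤ W → IsPGroup p Q → P ≤ Q → Q = P) →
      (∀ x ∈ P, ∀ y ∈ P, x * y = y * x) → A₀ ≤ P → Nat.card A₀ = p →
      W ≤ normalizer (A₀ : Set G) → (∀ u ∈ W, u ^ p ∈ A₀ → u ^ p = 1) → p ^ 2 ∣ Nat.card P →
      ∃ E₀ : Subgroup G, E₀ ≤ W ∧ E₀ ⊓ A₀ = ⊥ ∧ Monoid.exponent E₀ = Monoid.exponent W) :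
    BG1212Concl M E W := by
  have hpp : p.Prime := Fact.out
  have hU : BGUniq G := fun K hK h1 h2 => S1403.result hG K hK h1 h2
  obtain ⟨A, hAE, hA, hAc⟩ := bg1210_exists_elemAb_le hG hM hE hp
  have hAp : IsPGroup p A := Helper49.bg1216_isPGroup_of_elemAb hA
  have hpW : ∀ x ∈ E, (∃ k : ℕ, x ^ p ^ k = 1) → x ∈ W := by
    rintro x hx ⟨k, hk⟩
    apply hW2 x hx
    intro q hq hqd
    have h1 : q ∣ p ^ k := hqd.trans (orderOf_dvd_of_pow_eq_one hk)
    rw [(Nat.prime_dvd_prime_iff_eq hq hpp).mp (hq.dvd_of_dvd_pow h1)]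
    exact hp
  have hAW : A ≤ W := fun a ha => hpW a (hAE ha) ⟨1, by rw [pow_one]; exact hA.2 a ha⟩
  obtain ⟨P, hPsyl, hAP⟩ := exists_isSylowOf_ge hAp hAW
  have hT5 : Helper72.B12T5 G := fun M hM p _ hp A hA => S1417.result hG M hM p hp A hA
  have hPc : ∀ x ∈ P, ∀ y ∈ P, x * y = y * x :=
    Helper72.b12c_tau2_comm hT5 hM hp (hPsyl.1.trans (hWE.trans hE.1)) hPsyl.2.1
  obtain ⟨⟨hEA, -⟩, -, -⟩ := S1418.result hG M hM E hE p hp A ⟨hAE, hA, hAc⟩
  obtain ⟨-, ⟨hA0c, -⟩, -⟩ := S1419.result hG M hM E hE p hp hS A ⟨hAE, hA, hAc⟩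
  set A₀ : Subgroup G := A ⊓ centralizer (sigmaCore M : Set G) with hA₀
  have hMσn : M ≤ normalizer ((sigmaCore M : Subgroup G) : Set G) :=
    le_normalizer_piCoreOf (sigma M) M
  have hEA₀ : E ≤ normalizer (A₀ : Set G) := by
    apply bg1210_le_normalizer
    intro e he z hz
    have hz' := Subgroup.mem_inf.mp hz
    refine Subgroup.mem_inf.mpr ⟨(mem_normalizer_iff.mp (hEA he) z).mp hz'.1, ?_⟩
    rw [mem_centralizer_iff]
    intro m hm
    have h1 : e⁻¹ * m * e ∈ sigmaCore M := by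
      have := (mem_normalizer_iff.mp (hMσn (hE.1 (E.inv_mem he))) m).mp hm
      simpa using this
    have h2 := mem_centralizer_iff.mp hz'.2 _ h1
    calc m * (e * z * e⁻¹) = e * ((e⁻¹ * m * e) * z) * e⁻¹ := by group
      _ = e * (z * (e⁻¹ * m * e)) * e⁻¹ := by rw [h2]
      _ = e * z * e⁻¹ * m := by group
  have hsq : ∀ u ∈ E, u ^ p ∈ A₀ → u ^ p = 1 := fun u huE hu =>
    Helper62.bg1210_no_sq hG hM hE hp hS hAE hA hAc huE hu
  have hcent := bg1210_nonab_cent_W hG hM hE hWE hR hp hS hAE hA hAc hsq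
  have hA₀W : A₀ ≤ W := inf_le_left.trans hAW
  refine ⟨⟨A₀, hA₀W, hEA₀, ?_, hcent⟩, ?_⟩
  · refine ⟨⟨fun a b => Subtype.ext ?_⟩⟩
    have h := congrArg Subtype.val (hA.1.is_comm.comm ⟨(a : G), a.2.1⟩ ⟨(b : G), b.2.1⟩)
    exact h
  · have hP2 : p ^ 2 ∣ Nat.card P := hAc ▸ Subgroup.card_dvd_of_le hAP
    obtain ⟨W₀, hW₀W, hW₀A, hexp⟩ := H1c P A₀ hPsyl.1 hPsyl.2.1 hPsyl.2.2 hPc
      (inf_le_left.trans hAP) hA0c (hWE.trans hEA₀) (fun u hu => hsq u (hWE hu)) hP2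
    refine ⟨W₀, hW₀W, hexp, ?_⟩
    intro e he he1
    by_contra hne
    obtain ⟨⟨x, hx⟩, hx1⟩ := (Subgroup.ne_bot_iff_exists_ne_one).mp hne
    have hx1' : x ≠ 1 := fun h => hx1 (Subtype.ext h)
    have hex : e ∈ W ⊓ centralizer ({x} : Set G) := ⟨hW₀W he, bg1210_cent_symm hx.2⟩
    have h1 : e ∈ W₀ ⊓ A₀ := ⟨he, hcent x hx.1 hx1' hex⟩
    rw [hW₀A, Subgroup.mem_bot] at h1
    exact he1 h1

/-- Case (ii): every `p ∈ τ₂(M)` has a normal abelian Sylow subgroup `P_p` in `E`. -/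
theorem bg1212_ab (hG : IsMinSimpleOddOrder G) {M E : Subgroup G} (hM : IsCoatom M)
    (hE : IsComplIn E (sigmaCore M) M) {W : Subgroup G} (hWE : W ≤ E)
    (hW2 : ∀ e ∈ E, (∀ p : ℕ, p.Prime → p ∣ orderOf e → p ∈ tau2 M) → e ∈ W)
    (hR : BG1210R M W)
    (Hsyl : ∀ p : ℕ, p ∈ tau2 M → ∃ P A : Subgroup G, BG1210Syl p E P A)
    (Hline : ∀ (p : ℕ) [Fact p.Prime], p ∈ tau2 M → ∀ P A : Subgroup G, BG1210Syl p E P A →
      (∀ q ∈ tau2 M, q ≠ p → ∀ y ∈ E, (∃ k : ℕ, y ^ q ^ k = 1) →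
        y ∈ centralizer (A : Set G)) →
      ∃ X : Subgroup G, X ≤ A ∧ Nat.card X = p ∧ W ≤ normalizer (X : Set G))
    (Hcyc : ∀ (p : ℕ) [Fact p.Prime], p ∈ tau2 M → ∀ P A : Subgroup G, BG1210Syl p E P A →
      P ≤ W → (∃ X : Subgroup G, X ≤ A ∧ Nat.card X = p ∧ W ≤ normalizer (X : Set G)) →
      ∃ u ∈ P, (∀ x ∈ P, x ^ orderOf u = 1) ∧ (∀ e ∈ W, e * u * e⁻¹ ∈ zpowers u) ∧
        ∀ x ∈ zpowers u, x ≠ 1 → x ^ p = 1 →
          sigmaCore M ⊓ centralizer ({x} : Set G) = ⊥) :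
    BG1212Concl M E W := by
  classical
  choose! Pf Af hPA using Hsyl
  have hdisj : ∀ p ∈ tau2 M, ∀ q ∈ tau2 M, p ≠ q → ∀ z, z ∈ Pf p → z ∈ Pf q → z = 1 :=
    fun p hp q hq hpq z h1 h2 =>
      bg1210_inf_eq_bot hp.1 hq.1 hpq (hPA p hp).pgroup (hPA q hq).pgroup h1 h2
  have hcommPQ : ∀ p ∈ tau2 M, ∀ q ∈ tau2 M, ∀ x ∈ Pf p, ∀ y ∈ Pf q, x * y = y * x := by
    intro p hp q hq x hx y hy
    by_cases hpq : p = q
    · subst hpq; exact (hPA p hp).comm x hx y hy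
    · exact bg1210_comm_of_normal (hPA p hp).le (hPA q hq).le (hPA p hp).norm (hPA q hq).norm
        (hdisj p hp q hq hpq) hx hy
  have hτ : ∀ p ∈ tau2 M, ∀ q ∈ tau2 M, q ≠ p → ∀ y ∈ E, (∃ k : ℕ, y ^ q ^ k = 1) →
      y ∈ centralizer (Af p : Set G) := by
    intro p hp q hq _ y hy hk
    have hyQ := (hPA q hq).all y hy hk
    rw [mem_centralizer_iff]
    intro a ha
    exact hcommPQ p hp q hq a ((hPA p hp).leA ha) y hyQ
  have hPW : ∀ p ∈ tau2 M, Pf p ≤ W := by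
    intro p hp x hx
    apply hW2 x ((hPA p hp).le hx)
    intro q hq hqd
    obtain ⟨k, hk⟩ := (hPA p hp).pgroup ⟨x, hx⟩
    have hk' : x ^ p ^ k = 1 := by simpa using congrArg Subtype.val hk
    have h1 : q ∣ p ^ k := hqd.trans (orderOf_dvd_of_pow_eq_one hk')
    rw [(Nat.prime_dvd_prime_iff_eq hq hp.1).mp (hq.dvd_of_dvd_pow h1)]
    exact hp
  -- the subgroup `A₀`
  set S₂ : Set G := {y | y ∈ E ∧ ∃ q ∈ tau2 M, ∃ k : ℕ, y ^ q ^ k = 1} with hS₂
  have hS₂mem : ∀ y ∈ S₂, ∃ q ∈ tau2 M, y ∈ Pf q := by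
    rintro y ⟨hyE, q, hq, hk⟩
    exact ⟨q, hq, (hPA q hq).all y hyE hk⟩
  have hS₂comm : ∀ x ∈ S₂, ∀ y ∈ S₂, x * y = y * x := by
    intro x hx y hy
    obtain ⟨p, hp, hxP⟩ := hS₂mem x hx
    obtain ⟨q, hq, hyQ⟩ := hS₂mem y hy
    exact hcommPQ p hp q hq x hxP y hyQ
  set A₀ : Subgroup G := closure S₂ with hA₀
  have hA₀comm : ∀ a ∈ A₀, ∀ b ∈ A₀, a * b = b * a := by
    have h1 : A₀ ≤ centralizer S₂ :=
      (closure_le _).mpr (fun x hx => mem_centralizer_iff.mpr (fun y hy => hS₂comm y hy x hx))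
    have h2 : A₀ ≤ centralizer (A₀ : Set G) :=
      (closure_le _).mpr (fun x hx => mem_centralizer_iff.mpr
        (fun y hy => (mem_centralizer_iff.mp (h1 hy) x hx).symm))
    intro a ha b hb
    exact mem_centralizer_iff.mp (h2 hb) a ha
  have hA₀W : A₀ ≤ W := by
    rw [hA₀, closure_le]
    intro y hy
    obtain ⟨q, hq, hyq⟩ := hS₂mem y hy
    exact hPW q hq hyq
  have hEA₀ : E ≤ normalizer (A₀ : Set G) := by
    apply bg1210_le_normalizer
    intro e he z hz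
    induction hz using Subgroup.closure_induction with
    | mem y hy =>
      apply Subgroup.subset_closure
      refine ⟨E.mul_mem (E.mul_mem he hy.1) (E.inv_mem he), ?_⟩
      obtain ⟨q, hq, k, hk⟩ := hy.2
      exact ⟨q, hq, k, by rw [conj_pow, hk]; group⟩
    | one => simp
    | mul a b _ _ ha hb =>
      have : e * (a * b) * e⁻¹ = (e * a * e⁻¹) * (e * b * e⁻¹) := by group
      rw [this]; exact mul_mem ha hb
    | inv a _ ha =>
      have : e * a⁻¹ * e⁻¹ = (e * a * e⁻¹)⁻¹ := by group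
      rw [this]; exact inv_mem ha
  have hcentA : ∀ x ∈ sigmaCore M, x ≠ 1 → W ⊓ centralizer ({x} : Set G) ≤ A₀ := by
    intro x hxσ hx1
    have hprimes : ∀ e ∈ W, e * x = x * e → ∀ s : ℕ, s.Prime → s ∣ orderOf e →
        s ∈ tau2 M := by
      intro e heW hex s hs hsd
      by_contra hs2
      have hn0 : orderOf e ≠ 0 := (orderOf_pos e).ne'
      have ho : orderOf (e ^ (orderOf e / s)) = s := orderOf_pow_orderOf_div hn0 hsd
      have he'W : e ^ (orderOf e / s) ∈ W := pow_mem heW _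
      have he'1 : e ^ (orderOf e / s) ≠ 1 := by
        intro h
        rw [h, orderOf_one] at ho
        exact hs.one_lt.ne ho
      have hsE : s ∣ Nat.card E := by
        rw [← ho]
        have := orderOf_dvd_natCard (⟨e ^ (orderOf e / s), hWE he'W⟩ : ↥E)
        rwa [Subgroup.orderOf_mk] at this
      have hτ13 := bg1210_tau13 hG hM hE hs hsE hs2
      have h1 := hR _ he'W he'1 (fun q hq hqd => by
        rw [ho] at hqd
        rw [(Nat.prime_dvd_prime_iff_eq hq hs).mp hqd]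
        exact hτ13)
      have hxC : x ∈ sigmaCore M ⊓ centralizer ({e ^ (orderOf e / s)} : Set G) := by
        refine Subgroup.mem_inf.mpr ⟨hxσ, ?_⟩
        rw [mem_centralizer_iff]
        intro z hz
        rw [Set.mem_singleton_iff] at hz
        subst hz
        exact (Commute.pow_left hex _).eq
      rw [h1, Subgroup.mem_bot] at hxC
      exact hx1 hxC
    have hind : ∀ n : ℕ, ∀ e ∈ W, orderOf e = n → e * x = x * e → e ∈ A₀ := by
      intro n
      induction n using Nat.strong_induction_on with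
      | _ n ih =>
        intro e heW hn hex
        by_cases he1 : e = 1
        · rw [he1]; exact A₀.one_mem
        have hn1 : orderOf e ≠ 1 := fun h => he1 (orderOf_eq_one_iff.mp h)
        obtain ⟨s, hs, hsd⟩ := Nat.exists_prime_and_dvd hn1
        have hs2 := hprimes e heW hex s hs hsd
        have hn0 : orderOf e ≠ 0 := (orderOf_pos e).ne'
        obtain ⟨k, m, hsm, hkm⟩ := Nat.exists_eq_pow_mul_and_not_dvd hn0 s hs.ne_one
        have hk0 : k ≠ 0 := by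
          rintro rfl
          rw [pow_zero, one_mul] at hkm
          exact hsm (hkm ▸ hsd)
        have h2 : e ^ m ∈ A₀ := by
          apply Subgroup.subset_closure
          refine ⟨hWE (pow_mem heW _), s, hs2, k, ?_⟩
          rw [← pow_mul, mul_comm, ← hkm, pow_orderOf_eq_one]
        have h1 : e ^ s ^ k ∈ A₀ := by
          have ho : orderOf (e ^ s ^ k) = m := by
            rw [orderOf_pow_of_dvd (pow_ne_zero _ hs.ne_zero) (hkm ▸ dvd_mul_right _ _), hkm,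
              Nat.mul_div_cancel_left _ (pow_pos hs.pos k)]
          have hlt : m < n := by
            rw [← hn, hkm]
            have h3 : 1 < s ^ k := Nat.one_lt_pow hk0 hs.one_lt
            have hm0 : 0 < m := Nat.pos_of_ne_zero (by
              rintro rfl
              rw [mul_zero] at hkm
              exact hn0 hkm)
            nlinarith
          exact ih m hlt (e ^ s ^ k) (pow_mem heW _) ho (Commute.pow_left hex _).eq
        have hcop : Nat.Coprime (s ^ k) m :=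
          Nat.Coprime.pow_left k ((Nat.Prime.coprime_iff_not_dvd hs).mpr hsm)
        exact mem_of_pow_mem_of_coprime hcop h1 h2
    intro e he
    exact hind _ e he.1 rfl ((mem_centralizer_iff.mp he.2 x rfl).symm)
  -- the cyclic subgroups `⟨u_p⟩`
  have Hu : ∀ p ∈ tau2 M, ∃ u ∈ Pf p, (∀ x ∈ Pf p, x ^ orderOf u = 1) ∧
      (∀ e ∈ W, e * u * e⁻¹ ∈ zpowers u) ∧
      ∀ x ∈ zpowers u, x ≠ 1 → x ^ p = 1 →
        sigmaCore M ⊓ centralizer ({x} : Set G) = ⊥ := by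
    intro p hp
    haveI : Fact p.Prime := ⟨hp.1⟩
    exact Hcyc p hp (Pf p) (Af p) (hPA p hp) (hPW p hp)
      (Hline p hp (Pf p) (Af p) (hPA p hp) (hτ p hp))
  choose! uf huP hu_exp hu_inv hu_good using Hu
  have hWu : ∀ p ∈ tau2 M, W ≤ normalizer (zpowers (uf p) : Set G) := by
    intro p hp
    apply bg1210_le_normalizer
    intro e he z hz
    obtain ⟨i, rfl⟩ := Subgroup.mem_zpowers_iff.mp hz
    rw [← conj_zpow]
    exact zpow_mem (hu_inv p hp e he) i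
  have hstep : ∀ T : Finset ℕ, (∀ q ∈ T, q ∈ tau2 M) → ∃ WT : Subgroup G, WT ≤ W ∧
      Monoid.exponent WT = Monoid.exponent W ∧ (∀ q ∈ T, WT ⊓ Pf q ≤ zpowers (uf q)) ∧
      (∀ q ∈ tau2 M, q ∉ T → Pf q ≤ WT) := by
    intro T
    induction T using Finset.induction_on with
    | empty =>
      intro _
      exact ⟨W, le_rfl, rfl, by simp, fun q hq _ => hPW q hq⟩
    | insert p T hpT ih =>
      intro hT
      have hp : p ∈ tau2 M := hT p (Finset.mem_insert_self p T)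
      obtain ⟨WT, hWTW, hexpT, h1T, h2T⟩ := ih (fun q hq => hT q (Finset.mem_insert_of_mem hq))
      haveI : Fact p.Prime := ⟨hp.1⟩
      have hS := hPA p hp
      obtain ⟨W', hW'WT, hexp', hW'P, hW'Q⟩ :=
        Helper33.bg1210_one_step (E := WT) (P := Pf p) (U := zpowers (uf p)) (h2T p hp hpT)
          ((hWTW.trans hWE).trans hS.norm) hS.pgroup
          (fun x hx hk => hS.all x (hWE (hWTW hx)) hk) hS.comm
          (by rw [zpowers_le]; exact huP p hp) (hWTW.trans (hWu p hp))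
          (fun x hx => by
            rw [IsCyclic.exponent_eq_card, Nat.card_zpowers]
            exact hu_exp p hp x hx)
      refine ⟨W', hW'WT.trans hWTW, hexp'.trans hexpT, ?_, ?_⟩
      · intro q hq
        rcases Finset.mem_insert.mp hq with rfl | hqT
        · exact hW'P
        · exact (inf_le_inf_right _ hW'WT).trans (h1T q hqT)
      · intro q hq hqT
        have hqp : q ≠ p := fun h => hqT (h ▸ Finset.mem_insert_self p T)
        have hqT' : q ∉ T := fun h => hqT (Finset.mem_insert_of_mem h)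
        exact hW'Q q (Pf q) hq.1 hqp (hPA q hq).pgroup (h2T q hq hqT')
          ((hWTW.trans hWE).trans (hPA q hq).norm)
  obtain ⟨W₀, hW₀W, hexp, h1, -⟩ := hstep ((Nat.card M).primeFactors.filter (· ∈ tau2 M))
    (fun q hq => (Finset.mem_filter.mp hq).2)
  refine ⟨⟨A₀, hA₀W, hEA₀, ⟨⟨fun a b => Subtype.ext (hA₀comm a a.2 b b.2)⟩⟩, hcentA⟩,
    W₀, hW₀W, hexp, ?_⟩
  intro e he he1
  by_contra hne
  obtain ⟨⟨x, hx⟩, hx1⟩ := (Subgroup.ne_bot_iff_exists_ne_one).mp hne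
  have hx1' : x ≠ 1 := fun h => hx1 (Subtype.ext h)
  have hex : e * x = x * e := mem_centralizer_iff.mp hx.2 e rfl
  have hn1 : orderOf e ≠ 1 := fun h => he1 (orderOf_eq_one_iff.mp h)
  obtain ⟨s, hs, hsd⟩ := Nat.exists_prime_and_dvd hn1
  have hn0 : orderOf e ≠ 0 := (orderOf_pos e).ne'
  have ho : orderOf (e ^ (orderOf e / s)) = s := orderOf_pow_orderOf_div hn0 hsd
  have he'W₀ : e ^ (orderOf e / s) ∈ W₀ := pow_mem he _
  have he'1 : e ^ (orderOf e / s) ≠ 1 := by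
    intro h
    rw [h, orderOf_one] at ho
    exact hs.one_lt.ne ho
  have hsE : s ∣ Nat.card E := by
    rw [← ho]
    have := orderOf_dvd_natCard (⟨e ^ (orderOf e / s), hWE (hW₀W he'W₀)⟩ : ↥E)
    rwa [Subgroup.orderOf_mk] at this
  have hxC : x ∈ sigmaCore M ⊓ centralizer ({e ^ (orderOf e / s)} : Set G) := by
    refine Subgroup.mem_inf.mpr ⟨hx.1, ?_⟩
    rw [mem_centralizer_iff]
    intro z hz
    rw [Set.mem_singleton_iff] at hz
    subst hz
    exact (Commute.pow_left hex _).eq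
  have hps : (e ^ (orderOf e / s)) ^ s = 1 := by
    have := pow_orderOf_eq_one (e ^ (orderOf e / s))
    rwa [ho] at this
  by_cases hs2 : s ∈ tau2 M
  · have he'P : e ^ (orderOf e / s) ∈ Pf s :=
      (hPA s hs2).all _ (hWE (hW₀W he'W₀)) ⟨1, by rw [pow_one]; exact hps⟩
    have hsT : s ∈ (Nat.card M).primeFactors.filter (· ∈ tau2 M) :=
      Finset.mem_filter.mpr ⟨Nat.mem_primeFactors.mpr
        ⟨hs, hsE.trans (Subgroup.card_dvd_of_le hE.1), Nat.card_pos.ne'⟩, hs2⟩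
    have he'u : e ^ (orderOf e / s) ∈ zpowers (uf s) := h1 s hsT ⟨he'W₀, he'P⟩
    have h2 := hu_good s hs2 _ he'u he'1 hps
    rw [h2, Subgroup.mem_bot] at hxC
    exact hx1' hxC
  · have hτ13 := bg1210_tau13 hG hM hE hs hsE hs2
    have h2 := hR _ (hW₀W he'W₀) he'1 (fun q hq hqd => by
      rw [ho] at hqd
      rw [(Nat.prime_dvd_prime_iff_eq hq hs).mp hqd]
      exact hτ13)
    rw [h2, Subgroup.mem_bot] at hxC
    exact hx1' hxC

/-- Piece P4 of CALL S1421 (`W` normalizes a line of `A`), from pieces P4a-P4d. -/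
theorem bg1210_exists_line_aux (hG : IsMinSimpleOddOrder G) {M E : Subgroup G} (hM : IsCoatom M)
    (hE : IsComplIn E (sigmaCore M) M) {W : Subgroup G} (hWE : W ≤ E) {p : ℕ} [Fact p.Prime]
    (hp : p ∈ tau2 M) {P A : Subgroup G} (hS : BG1210Syl p E P A)
    (H4b : (∀ y ∈ normalizer (A : Set G), y ∉ centralizer (A : Set G) →
        A ⊓ centralizer ({y} : Set G) = ⊥) → ¬ W ≤ centralizer (A : Set G) →
      ∃ (r : ℕ) (e e₁ : G), r.Prime ∧ r ≠ p ∧ r ∈ tau1 M ∪ tau3 M ∧ e ∈ W ∧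
        e ∉ centralizer (A : Set G) ∧ e ^ r ∈ centralizer (A : Set G) ∧
        (∃ k : ℕ, e ^ r ^ k = 1) ∧ e₁ ∈ zpowers e ∧ orderOf e₁ = r ∧
        e₁ ∈ centralizer (A : Set G) ∧ ¬ normalizer (zpowers e₁ : Set G) ≤ M)
    (H4c : ∀ {r : ℕ}, r.Prime → r ∈ tau1 M ∪ tau3 M → ∀ {e₁ : G}, e₁ ∈ M → orderOf e₁ = r →
      ∀ {H : Subgroup G}, IsCoatom H → H ≠ M → normalizer (zpowers e₁ : Set G) ≤ H → A ≤ H →
        p ∉ sigma H → False)
    (H4d : (∀ y ∈ normalizer (A : Set G), y ∉ centralizer (A : Set G) →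
        A ⊓ centralizer ({y} : Set G) = ⊥) → ∀ {r : ℕ} {e e₁ : G}, r.Prime → r ≠ p →
      r ∈ tau1 M ∪ tau3 M → e ∈ E → e ∉ centralizer (A : Set G) →
      e ^ r ∈ centralizer (A : Set G) → (∃ k : ℕ, e ^ r ^ k = 1) → e₁ ∈ zpowers e →
      orderOf e₁ = r → ∀ {H : Subgroup G}, IsCoatom H → normalizer (zpowers e₁ : Set G) ≤ H →
        A ≤ H → p ∈ sigma H → False) :
    ∃ X : Subgroup G, X ≤ A ∧ Nat.card X = p ∧ W ≤ normalizer (X : Set G) := by
  have hpp : p.Prime := Fact.out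
  haveI hsimple : IsSimpleGroup G := hG.2.1
  by_contra hno
  have hnoE : ¬ ∃ X : Subgroup G, X ≤ A ∧ Nat.card X = p ∧ E ≤ normalizer (X : Set G) :=
    fun ⟨X, h1, h2, h3⟩ => hno ⟨X, h1, h2, hWE.trans h3⟩
  have hdich := Helper4.bg1210_dichotomy hG hS hnoE
  have hWA : ¬ W ≤ centralizer (A : Set G) := by
    intro hWA
    -- a subgroup of order `p` of `A`
    have hA1 : Nontrivial A := by
      rw [← Finite.one_lt_card_iff_nontrivial, hS.cardA]
      exact Nat.one_lt_pow two_ne_zero hpp.one_lt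
    obtain ⟨⟨a, ha⟩, ha1⟩ := exists_ne (1 : A)
    have ha1' : a ≠ 1 := fun h => ha1 (Subtype.ext h)
    have hao : orderOf a = p := orderOf_eq_prime (hS.elemA.2 a ha) ha1'
    apply hno
    refine ⟨zpowers a, by rw [zpowers_le]; exact ha, by rw [Nat.card_zpowers, hao], ?_⟩
    apply bg1210_le_normalizer
    intro w hw z hz
    have hzA : z ∈ A := (zpowers_le.mpr ha) hz
    have h1 : z * w = w * z := mem_centralizer_iff.mp (hWA hw) z hzA
    have h2 : w * z * w⁻¹ = z := by rw [← h1]; group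
    rw [h2]; exact hz
  obtain ⟨r, e, e₁, hr, hrp, hrτ, heW, heA, her, hek, he₁, ho, he₁A, hNM⟩ := H4b hdich hWA
  have heE : e ∈ E := hWE heW
  have he₁M : e₁ ∈ M := hE.1 ((zpowers_le.mpr heE) he₁)
  have h1 : zpowers e₁ ≠ ⊥ := by
    intro h
    have h2 : e₁ = 1 := by
      have := mem_zpowers e₁
      rw [h, Subgroup.mem_bot] at this
      exact this
    rw [h2, orderOf_one] at ho
    exact hr.one_lt.ne ho
  have h2 : zpowers e₁ ≠ ⊤ := fun h => hM.1 (top_le_iff.mp (h ▸ (zpowers_le.mpr he₁M)))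
  obtain ⟨H, hH, hNH⟩ := uq_exists_coatom_ge (normalizer_ne_top_of_simple h1 h2)
  have hHM : H ≠ M := fun h => hNM (h ▸ hNH)
  have hAH : A ≤ H := by
    intro a ha
    apply hNH
    apply bg10_mem_normalizer
    intro z hz
    have h3 : zpowers e₁ ≤ centralizer (A : Set G) := by rw [zpowers_le]; exact he₁A
    have h4 : a * z = z * a := mem_centralizer_iff.mp (h3 hz) a ha
    have h5 : a * z * a⁻¹ = z := by rw [h4]; group
    rw [h5]; exact hz
  by_cases hpH : p ∈ sigma H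
  · exact H4d hdich hr hrp hrτ heE heA her hek he₁ ho hH hNH hAH hpH
  · exact H4c hr hrτ he₁M ho hH hHM hNH hAH hpH

end Cfsg.Agent.Helper23
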