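/-
helper23: piece `D1` of CALL S1378 (B&G Theorem 13.9): the fixed points of `P` on a Sylow
`t`-subgroup of `M_σ`, `t ∈ β(M)`.
-/
import Cfsg.Agent.Helper1.BG139Defs
import Cfsg.Agent.Helper23.Uniq
import Cfsg.Agent.Helper22.BG12b
import Cfsg.Agent.Helper22.Transitivity
import Cfsg.Agent.Helper35.CoprimeSylow
import Cfsg.Agent.Helper55.BGFpf
import Cfsg.Agent.S1403
import Cfsg.Agent.S1414
import Cfsg.Agent.S1423

set_option autoImplicit false

namespace Cfsg.Agent.Helper23

open Cfsg Subgroup Cfsg.Agent.Helper1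

universe u

variable {G : Type u} [Group G] [Finite G]

/-- A Frobenius-type lemma in a group of odd order: `x` of prime order `p` normalizes `S` and the
nilpotent group `T`, `S` normalizes `T`, the orders are pairwise coprime and `x` has no fixed
points on `T` nor on `S`. Then `T` centralizes `S`. -/
theorem bg139_frob_cent (hodd : Odd (Nat.card G)) {p : ℕ} (hp : p.Prime) {S T : Subgroup G}
    {x : G} (hTnil : Group.IsNilpotent T) (hST : S ≤ normalizer (T : Set G))
    (hxT : x ∈ normalizer (T : Set G)) (hxS : x ∈ normalizer (S : Set G)) (hxp : x ^ p = 1)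
    (hpT : ¬ p ∣ Nat.card T) (hpS : ¬ p ∣ Nat.card S)
    (hcop : (Nat.card T).Coprime (Nat.card S))
    (hfixT : ∀ a ∈ T, x * a = a * x → a = 1) (hfixS : ∀ a ∈ S, x * a = a * x → a = 1) :
    T ≤ centralizer (S : Set G) := by
  have h1 := Helper55.bg_fpf_comm_centralizes hodd hp T S x hTnil hST hxT hxS hxp hpT hpS hcop
    hfixT
  have hsurj : ∀ g ∈ S, ∃ y ∈ S, g = x * y * x⁻¹ * y⁻¹ := by
    let f : S → S := fun y => ⟨x * y * x⁻¹ * (y : G)⁻¹,
      S.mul_mem ((mem_normalizer_iff.mp hxS y).mp y.2) (S.inv_mem y.2)⟩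
    have hinj : Function.Injective f := by
      intro y y' h
      have h' : x * (y : G) * x⁻¹ * (y : G)⁻¹ = x * (y' : G) * x⁻¹ * (y' : G)⁻¹ :=
        congrArg Subtype.val h
      have e1 : x * (y : G) * x⁻¹ = x * (y' : G) * x⁻¹ * (y' : G)⁻¹ * y := by
        rw [← h']; group
      have h2 : x * ((y' : G)⁻¹ * y) = ((y' : G)⁻¹ * y) * x := by
        calc x * ((y' : G)⁻¹ * y) = x * (y' : G)⁻¹ * x⁻¹ * (x * (y : G) * x⁻¹) * x := by group
          _ = x * (y' : G)⁻¹ * x⁻¹ * (x * (y' : G) * x⁻¹ * (y' : G)⁻¹ * y) * x := by rw [e1]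
          _ = ((y' : G)⁻¹ * y) * x := by group
      have h3 := hfixS _ (S.mul_mem (S.inv_mem y'.2) y.2) h2
      exact Subtype.ext (inv_mul_eq_one.mp h3).symm
    have hsur := Finite.injective_iff_surjective.mp hinj
    intro g hg
    obtain ⟨y, hy⟩ := hsur ⟨g, hg⟩
    exact ⟨y, y.2, (congrArg Subtype.val hy).symm⟩
  intro a ha
  rw [mem_centralizer_iff]
  intro g hg
  obtain ⟨y, hy, rfl⟩ := hsurj g hg
  exact h1 y hy a ha

/-- The `t`-part of the order of a Hall `π`-subgroup, `t ∈ π`. -/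
theorem bg139_hall_factorization {π : Set ℕ} {H M : Subgroup G} (h : IsPiHallOf π H M) {t : ℕ}
    (ht : t.Prime) (htπ : t ∈ π) :
    (Nat.card H).factorization t = (Nat.card M).factorization t := by
  have h2 : Nat.card H * H.relIndex M = Nat.card M := by
    have h' := Subgroup.card_mul_index (H.subgroupOf M)
    rwa [Helper35.card_subgroupOf_of_le h.1] at h'
  have hr : H.relIndex M ≠ 0 := by
    intro h0
    rw [h0, mul_zero] at h2
    exact Nat.card_pos.ne' h2.symm
  rw [← h2, Nat.factorization_mul Nat.card_pos.ne' hr, Finsupp.add_apply,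
    Nat.factorization_eq_zero_of_not_dvd (h.2.2 t ht htπ), add_zero]

/-- PIECE `D1` of CALL S1378. -/
theorem bg139_exists_X (hG : IsMinSimpleOddOrder G) {M Ms S : Subgroup G} {s : ℕ}
    (c : BG139Cfg M Ms S s) (hSc : ∀ a ∈ S, ∀ b ∈ S, a * b = b * a) (hβ : s ∉ beta M)
    {t p : ℕ} (ht : t ∈ beta M) {P : Subgroup G} (hp : p.Prime)
    (hPc : Nat.card P = p) (hpσ : p ∉ sigma M) (hPN : P ≤ normalizer (S : Set G))
    (hfix : S ⊓ centralizer (P : Set G) = ⊥) :
    ∃ X : Subgroup G, X ≤ sigmaCore M ⊓ centralizer (P : Set G) ∧ Nat.card X = t := by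
  classical
  have hU : Helper22.BGUniq G := fun K hK h1 h2 => Cfsg.Agent.S1403.result hG K hK h1 h2
  have hM := c.hM
  have htp : t.Prime := ht.1.1
  haveI := Fact.mk htp
  have htσ : t ∈ sigma M := Helper22.bg10_alpha_sub_sigma hG hU hM ht.1
  have hsp := c.hs
  obtain ⟨hKhall, -, -, -, -⟩ := Cfsg.Agent.S1414.result hG M hM
  have hσhall := (Helper22.bg10_sigma_hall hG hU hM).1
  have hKM : piCoreOf (beta M) M ≤ M := piCoreOf_le _ _
  have hMK : M ≤ normalizer ((piCoreOf (beta M) M : Subgroup G) : Set G) :=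
    le_normalizer_piCoreOf _ _
  have hSM : S ≤ M := (le_normalizer.trans c.hN).trans inf_le_left
  have hPM : P ≤ M := (hPN.trans c.hN).trans inf_le_left
  have hAM : P ⊔ S ≤ M := sup_le hPM hSM
  have hMtop : M ≠ ⊤ := hM.1
  have hps : p ≠ s := fun h => hpσ (h ▸ c.hsM)
  have hpt : p ≠ t := fun h => hpσ (h ▸ htσ)
  have hst : s ≠ t := fun h => hβ (h ▸ ht)
  have hcardA : Nat.card ↥(P ⊔ S) ∣ Nat.card P * Nat.card S :=
    Helper22.card_sup_dvd_of_le_normalizer hPN
  haveI hsF : Fact s.Prime := Fact.mk hsp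
  obtain ⟨n, hn⟩ := IsPGroup.iff_card.mp c.hSp
  have hpK : ¬ p ∣ Nat.card (piCoreOf (beta M) M) := fun h =>
    hpσ (Helper22.bg10_alpha_sub_sigma hG hU hM (mem_of_dvd_card_piCoreOf _ _ hp h).1)
  have hsK : ¬ s ∣ Nat.card (piCoreOf (beta M) M) := fun h =>
    hβ (mem_of_dvd_card_piCoreOf _ _ hsp h)
  have hcop : (Nat.card ↥(P ⊔ S)).Coprime (Nat.card (piCoreOf (beta M) M)) := by
    apply Nat.Coprime.coprime_dvd_left hcardA
    apply Nat.Coprime.mul_left
    · rw [hPc]; exact (Nat.Prime.coprime_iff_not_dvd hp).mpr hpK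
    · rw [hn]; exact Nat.Coprime.pow_left _ ((Nat.Prime.coprime_iff_not_dvd hsp).mpr hsK)
  obtain ⟨T, hT, hAT⟩ := Helper35.exists_invariant_sylow (hAM.trans hMK) hcop
    (Or.inl (uq_isSolvable hG (fun h => hMtop (top_le_iff.mp (h ▸ hAM))))) t
  have hTp : IsPGroup t T := Helper35.isPGroup_of_mem_sylowSet hT
  have hTM : T ≤ M := hT.1.trans hKM
  have hTσ : T ≤ sigmaCore M := Helper22.bg12_le_sigmaCore hG hU hM htp htσ hTM hTp
  have hPT : P ≤ normalizer (T : Set G) := le_sup_left.trans hAT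
  have hST : S ≤ normalizer (T : Set G) := le_sup_right.trans hAT
  by_cases hTC : T ⊓ centralizer (P : Set G) = ⊥
  · exfalso
    -- a generator `x` of `P`
    haveI : Nontrivial P := (Finite.one_lt_card_iff_nontrivial).mp (by rw [hPc]; exact hp.one_lt)
    obtain ⟨⟨x, hxP⟩, hx1⟩ := exists_ne (1 : P)
    haveI := Fact.mk hp
    have hcentP : ∀ a : G, x * a = a * x → a ∈ centralizer (P : Set G) := by
      intro a ha
      rw [mem_centralizer_iff]
      intro y hy
      obtain ⟨k, hk⟩ := mem_zpowers_of_prime_card (G := P) hPc (g := ⟨x, hxP⟩) (g' := ⟨y, hy⟩) hx1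
      have hyk : y = x ^ k := by
        have := congrArg Subtype.val hk
        simpa using this.symm
      rw [hyk]
      exact ((show Commute x a from ha).zpow_left k).eq
    have hxp : x ^ p = 1 := by
      have h1 : (⟨x, hxP⟩ : P) ^ Nat.card P = 1 := pow_card_eq_one'
      rw [hPc] at h1
      simpa using congrArg Subtype.val h1
    obtain ⟨k, hk⟩ := IsPGroup.iff_card.mp hTp
    have hpT : ¬ p ∣ Nat.card T := by
      rw [hk]
      intro h
      exact hpt ((Nat.prime_dvd_prime_iff_eq hp htp).mp (hp.dvd_of_dvd_pow h))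
    have hpS : ¬ p ∣ Nat.card S := by
      rw [hn]
      intro h
      exact hps ((Nat.prime_dvd_prime_iff_eq hp hsp).mp (hp.dvd_of_dvd_pow h))
    have hcopTS : (Nat.card T).Coprime (Nat.card S) := by
      rw [hk, hn]
      exact Nat.Coprime.pow _ _ ((Nat.coprime_primes htp hsp).mpr hst.symm)
    have hfixT : ∀ a ∈ T, x * a = a * x → a = 1 := by
      intro a ha hc
      have : a ∈ T ⊓ centralizer (P : Set G) := ⟨ha, hcentP a hc⟩
      rw [hTC] at this
      exact Subgroup.mem_bot.mp this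
    have hfixS : ∀ a ∈ S, x * a = a * x → a = 1 := by
      intro a ha hc
      have : a ∈ S ⊓ centralizer (P : Set G) := ⟨ha, hcentP a hc⟩
      rw [hfix] at this
      exact Subgroup.mem_bot.mp this
    have hTCS : T ≤ centralizer (S : Set G) :=
      bg139_frob_cent hG.1 hp hTp.isNilpotent hST (hPT hxP) (hPN hxP) hxp hpT hpS hcopTS
        hfixT hfixS
    have hTMs : T ≤ Ms := ((hTCS.trans (Subgroup.centralizer_le_normalizer _)).trans c.hN).trans
      inf_le_right
    -- `T` is a Sylow `t`-subgroup of `M_σ`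
    obtain ⟨P₀, hP₀⟩ := (hTp.comap_subtype (K := sigmaCore M)).exists_le_sylow
    have hTT' : T ≤ (P₀ : Subgroup ↥(sigmaCore M)).map (sigmaCore M).subtype := by
      intro y hy
      exact ⟨⟨y, hTσ hy⟩, hP₀ (Subgroup.mem_subgroupOf.mpr hy), rfl⟩
    have hcard' : Nat.card ((P₀ : Subgroup ↥(sigmaCore M)).map (sigmaCore M).subtype) =
        Nat.card T := by
      rw [Subgroup.card_map_of_injective (sigmaCore M).subtype_injective,
        Sylow.card_eq_multiplicity, hT.2, bg139_hall_factorization hσhall htp htσ,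
        bg139_hall_factorization hKhall htp ht]
    have hTeq : T = (P₀ : Subgroup ↥(sigmaCore M)).map (sigmaCore M).subtype :=
      Subgroup.eq_of_le_of_card_ge hTT' (le_of_eq hcard')
    -- a subgroup of order `t` of `M`
    obtain ⟨z, hz⟩ := exists_prime_orderOf_dvd_card' (G := ↥M) t htσ.2.1
    have hXc : Nat.card (zpowers (z : G)) = t := by
      rw [Nat.card_zpowers, Subgroup.orderOf_coe, hz]
    have h23 := Cfsg.Agent.S1423.result hG M hM t htσ (zpowers (z : G))
      ((zpowers_le).mpr z.2) hXc P₀ (Or.inl ht)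
    have hUM := h23.2.1
    rw [← hTeq] at hUM
    have hMsM : Ms = M := hUM.unique ⟨c.hMs, hTMs⟩ ⟨hM, hTM⟩
    apply c.hnc 1
    rw [hMsM]
    ext y
    simp
  · -- a subgroup of order `t` of `T ⊓ C(P)`
    have hIp : IsPGroup t ↥(T ⊓ centralizer (P : Set G)) := hTp.to_le inf_le_left
    obtain ⟨k, hk⟩ := IsPGroup.iff_card.mp hIp
    have hk0 : k ≠ 0 := by
      rintro rfl
      rw [pow_zero] at hk
      exact hTC (Subgroup.card_eq_one.mp hk)
    have hdvd : t ∣ Nat.card ↥(T ⊓ centralizer (P : Set G)) := by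
      rw [hk]; exact dvd_pow_self t hk0
    obtain ⟨z, hz⟩ := exists_prime_orderOf_dvd_card' (G := ↥(T ⊓ centralizer (P : Set G))) t hdvd
    refine ⟨zpowers (z : G), ?_, ?_⟩
    · rw [zpowers_le]
      exact ⟨hTσ z.2.1, z.2.2⟩
    · rw [Nat.card_zpowers, Subgroup.orderOf_coe, hz]

end Cfsg.Agent.Helper23
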