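/-
helper23: lemma U1G for B&G section 14 (used for S1367, S1370, S1371): if `E` is a complement of
`M_σ` in `M`, `K₀ ≤ E` covers `E/(E ∩ M')`, and `Y ≤ C_{M_σ}(K₀)` has prime order, then
`C_G(Y)` lies in `M` and in no other maximal subgroup.
-/
import Cfsg.Agent.Helper1.BGZE0
import Cfsg.Agent.Helper23.ExtLayer
import Cfsg.Agent.Helper23.Uniq
import Cfsg.Agent.Helper35.CoprimeSylow
import Cfsg.Agent.Helper47.Syl
import Cfsg.Agent.S1403
import Cfsg.Agent.S1423
import Cfsg.Agent.S1426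

set_option autoImplicit false

namespace Cfsg.Agent.Helper23

open Cfsg Subgroup
open scoped Pointwise

universe u

variable {G : Type u} [Group G] [Finite G]

/-- U1G. -/
theorem bg14_u1g (hG : IsMinSimpleOddOrder G) {M E K₀ Y : Subgroup G} {t : ℕ}
    (hM : IsCoatom M) (hE : IsComplIn E (sigmaCore M) M) (hK₀E : K₀ ≤ E)
    (hprod : ∀ e ∈ E, ∃ a ∈ E ⊓ ⁅M, M⁆, ∃ k ∈ K₀, e = a * k)
    (ht : t.Prime) (hY : Nat.card Y = t)
    (hYσ : Y ≤ sigmaCore M ⊓ centralizer (K₀ : Set G)) :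
    centralizer (Y : Set G) ≤ M ∧
      ∀ L : Subgroup G, IsCoatom L → centralizer (Y : Set G) ≤ L → L = M := by
  classical
  have hU : Cfsg.Agent.Helper22.BGUniq G :=
    fun K hK h1 h2 => Cfsg.Agent.S1403.result hG K hK h1 h2
  have : Fact t.Prime := ⟨ht⟩
  have hYp : IsPGroup t Y := IsPGroup.of_card (n := 1) (by rw [hY, pow_one])
  obtain ⟨⟨hSM, hS1, -⟩, -, -⟩ := Cfsg.Agent.Helper22.bg10_sigma_hall hG hU hM
  have hYS : Y ≤ sigmaCore M := hYσ.trans inf_le_left
  have hYM : Y ≤ M := hYS.trans hSM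
  have htσ : t ∈ sigma M := by
    apply hS1 t ht
    rw [← hY]
    exact Subgroup.card_dvd_of_le hYS
  by_cases hβ : t ∈ beta M
  · exact (Cfsg.Agent.S1423.result hG M hM t htσ Y hYM hY (Classical.arbitrary _) (Or.inl hβ)).1
  have hcopE : (Nat.card E).Coprime (Nat.card (sigmaCore M)) := by
    apply Nat.coprime_of_dvd
    intro q hq hqE hqS
    exact Cfsg.Agent.Helper22.bg12_not_sigma_of_dvd hG hU hM hE hq hqE (hS1 q hq hqS)
  have hcopK : (Nat.card K₀).Coprime (Nat.card (sigmaCore M)) :=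
    Nat.Coprime.coprime_dvd_left (Subgroup.card_dvd_of_le hK₀E) hcopE
  have hnormS : M ≤ normalizer (sigmaCore M : Set G) :=
    Cfsg.Agent.Helper23.le_normalizer_piCoreOf (sigma M) M
  have hStop : sigmaCore M ≠ ⊤ := fun h => hM.1 (top_le_iff.1 (h ▸ hSM))
  have hsolvS : Group.IsSolvable ↥(sigmaCore M) := Cfsg.Agent.Helper23.uq_isSolvable hG hStop
  obtain ⟨S₁, hS₁, hES₁⟩ := Cfsg.Agent.Helper35.exists_invariant_sylow
    (hE.1.trans hnormS) hcopE (Or.inr hsolvS) t
  have hK₀M : K₀ ≤ M := hK₀E.trans hE.1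
  -- `K₀` normalizes `Y`
  have hKY : K₀ ≤ normalizer (Y : Set G) := by
    intro y hy
    rw [Subgroup.mem_normalizer_iff]
    intro x
    have hcomm : ∀ z ∈ Y, y * z * y⁻¹ = z := by
      intro z hz
      have h1 := (Subgroup.mem_centralizer_iff.1 (hYσ hz).2) y hy
      rw [h1, mul_inv_cancel_right]
    constructor
    · intro hx
      rw [hcomm x hx]
      exact hx
    · intro hx
      have h2 := hcomm _ hx
      have h3 : x = y * x * y⁻¹ := by
        have h4 : y * (y * x * y⁻¹) * y⁻¹ = y * x * y⁻¹ := h2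
        have h5 : y⁻¹ * (y * (y * x * y⁻¹) * y⁻¹) * y = y⁻¹ * (y * x * y⁻¹) * y := by rw [h4]
        have h6 : y⁻¹ * (y * (y * x * y⁻¹) * y⁻¹) * y = y * x * y⁻¹ := by group
        have h7 : y⁻¹ * (y * x * y⁻¹) * y = x := by group
        rw [h6, h7] at h5
        exact h5.symm
      rw [h3]
      exact hx
  obtain ⟨S₂, hS₂, hYS₂, hKS₂⟩ := Cfsg.Agent.Helper35.exists_invariant_sylow_ge
    (hK₀M.trans hnormS) hcopK (Or.inr hsolvS) hYS hYp hKY
  obtain ⟨c, hc, hcS⟩ := Cfsg.Agent.Helper35.exists_conj_invariant_sylow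
    (hK₀M.trans hnormS) hcopK (Or.inr hsolvS) hS₂ hS₁ hKS₂ (hK₀E.trans hES₁)
  have hYc : Y.map (MulAut.conj c).toMonoidHom ≤ S₁ := by
    rw [← hcS]
    rintro _ ⟨x, hx, rfl⟩
    exact Subgroup.smul_mem_pointwise_smul _ _ _ (hYS₂ hx)
  have he0 := Cfsg.Agent.Helper1.bgz_E0_cent hG hM hE htσ hβ hS₁.1
    (Cfsg.Agent.Helper35.isPGroup_of_mem_sylowSet hS₁) hES₁
  have hY1c : Nat.card (Y.map (MulAut.conj c).toMonoidHom) = t := by
    rw [Subgroup.card_map_of_injective (MulAut.conj c).injective, hY]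
  have hY1D : Y.map (MulAut.conj c).toMonoidHom ≤ sigmaCore M ⊓ centralizer (K₀ : Set G) := by
    rintro _ ⟨x, hx, rfl⟩
    have hxD := hYσ hx
    show c * x * c⁻¹ ∈ _
    exact mul_mem (mul_mem hc hxD) (inv_mem hc)
  have hY1E : Y.map (MulAut.conj c).toMonoidHom ≤ sigmaCore M ⊓ centralizer (E : Set G) := by
    intro x1 hx1
    refine ⟨hS₁.1 (hYc hx1), ?_⟩
    show x1 ∈ centralizer (E : Set G)
    rw [Subgroup.mem_centralizer_iff]
    intro e he
    obtain ⟨a, ha, k, hk, rfl⟩ := hprod e he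
    have h1 : a * x1 = x1 * a := he0 a ha x1 (hYc hx1)
    have h2' : k * x1 = x1 * k := Subgroup.mem_centralizer_iff.1 (hY1D hx1).2 k hk
    rw [mul_assoc, h2', ← mul_assoc, h1, mul_assoc]
  have h26 := (Cfsg.Agent.S1426.result hG M hM E hE).1
  have hY1comm : Y.map (MulAut.conj c).toMonoidHom ≤ ⁅sigmaCore M, sigmaCore M⁆ :=
    hY1E.trans h26
  have h23 := (Cfsg.Agent.S1423.result hG M hM t htσ _ ((hY1D.trans inf_le_left).trans hSM) hY1c
    (Classical.arbitrary _) (Or.inr hY1comm)).1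
  have hcM : c ∈ M := hSM hc.1
  have hconjM : ∀ m, c * m * c⁻¹ ∈ M → m ∈ M := by
    intro m hm
    have h2 : m = c⁻¹ * (c * m * c⁻¹) * c := by group
    rw [h2]; exact mul_mem (mul_mem (inv_mem hcM) hm) hcM
  have hcentEq : centralizer ((Y.map (MulAut.conj c).toMonoidHom : Subgroup G) : Set G) =
      (centralizer (Y : Set G)).map (MulAut.conj c).toMonoidHom :=
    Cfsg.Agent.Helper23.centralizer_map_conj _ _
  constructor
  · intro x hx
    apply hconjM
    apply h23.1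
    rw [hcentEq]
    exact ⟨x, hx, rfl⟩
  · intro L hL hYL
    have hcent : centralizer ((Y.map (MulAut.conj c).toMonoidHom : Subgroup G) : Set G) ≤
        L.map (MulAut.conj c).toMonoidHom := by
      rw [hcentEq]
      exact Subgroup.map_mono hYL
    have hLc := h23.2 _ (Cfsg.Agent.Helper47.isCoatom_map_conj hL c) hcent
    have hLM : L ≤ M := by
      intro m hm
      apply hconjM
      rw [← hLc]
      exact ⟨m, hm, rfl⟩
    exact (Cfsg.Agent.Helper23.uq_eq_of_coatom_le hL hM.1 hLM).symm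

end Cfsg.Agent.Helper23
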