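/-
helper23: the facts about a standard factorisation `M = K U M_σ` with `K ≠ 1` (B&G section 14)
used for S1367, S1370, S1371, collected in one package.
-/
import Cfsg.Agent.Helper23.BG14U1G
import Cfsg.Agent.Helper22.BG14dMain
import Cfsg.Agent.Helper1.BGZMain
import Cfsg.Agent.Helper1.BG14K
import Cfsg.Agent.Helper49.BG14U
import Cfsg.Agent.S1378

set_option autoImplicit false

namespace Cfsg.Agent.Helper23

open Cfsg Subgroup

universe u

variable {G : Type u} [Group G] [Finite G]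

/-- The σ-partition property (from S1378). -/
theorem bg14_sigmaPart (hG : IsMinSimpleOddOrder G) : Cfsg.Agent.Helper22.BGSigmaPart G :=
  (Cfsg.Agent.S1378.result hG).2

/-- LEMMA Z in the packaged form. -/
theorem bg14_lemmaZ_pkg (hG : IsMinSimpleOddOrder G) : Cfsg.Agent.Helper22.BGLemmaZ G :=
  fun _ _ _ _ _ _ hM' hE hp hPE hP hD hs hXE hX hXP =>
    Cfsg.Agent.Helper1.bg14_lemmaZ hG hM' hE hp hPE hP hD hs hXE hX hXP

/-- [U1]: for a standard factorisation with `K ≠ 1`, every subgroup of prime order of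
`K* = C_{M_σ}(K)` has its centralizer in `M` and in no other maximal subgroup. -/
theorem bg14_u1 (hG : IsMinSimpleOddOrder G) {M K U : Subgroup G} (hM : IsCoatom M)
    (hKU : IsSigmaDecomposition M K U) (hK1 : K ≠ ⊥) :
    ∀ Y : Subgroup G, Y ≤ sigmaCore M ⊓ centralizer (K : Set G) → (Nat.card Y).Prime →
      centralizer (Y : Set G) ≤ M ∧
        ∀ L : Subgroup G, IsCoatom L → centralizer (Y : Set G) ≤ L → L = M := by
  intro Y hYK hY
  obtain ⟨hE, -, -, -⟩ := Cfsg.Agent.Helper49.bg14u_setup hG hKU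
  have h65 := (Cfsg.Agent.Helper22.bg14d_1365 hG (bg14_sigmaPart hG) (bg14_lemmaZ_pkg hG)
    hM hKU hK1).1
  refine bg14_u1g hG (K₀ := K) hM hE le_sup_right ?_ hY rfl hYK
  intro e he
  obtain ⟨u, hu, k, hk, rfl⟩ :=
    Cfsg.Agent.Helper35.exists_mul_of_mem_sup_of_le_normalizer hKU.normal he
  refine ⟨u, ⟨mem_sup_left hu, ?_⟩, k, hk, rfl⟩
  rw [h65]
  exact mem_sup_left hu

/-- The package of facts on a standard factorisation with `K ≠ 1`. -/
theorem bg14_pkg (hG : IsMinSimpleOddOrder G) {M K U : Subgroup G} (hM : IsCoatom M)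
    (hKU : IsSigmaDecomposition M K U) (hK1 : K ≠ ⊥) :
    ⁅M, M⁆ = U ⊔ sigmaCore M ∧
    (Nat.card K).Coprime (Nat.card ↥⁅M, M⁆) ∧
    (∀ m ∈ M, ∃ w ∈ ⁅M, M⁆, ∃ k ∈ K, m = w * k) ∧
    sigmaCore M ⊓ centralizer (K : Set G) ≠ ⊥ ∧
    (∀ k ∈ K, k ≠ 1 →
      M ⊓ centralizer ({k} : Set G) = K ⊔ (sigmaCore M ⊓ centralizer (K : Set G))) ∧
    (∀ Y : Subgroup G, Y ≤ sigmaCore M ⊓ centralizer (K : Set G) → (Nat.card Y).Prime →
      centralizer (Y : Set G) ≤ M ∧
        ∀ L : Subgroup G, IsCoatom L → centralizer (Y : Set G) ≤ L → L = M) := by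
  have hσp := bg14_sigmaPart hG
  have hZ := bg14_lemmaZ_pkg hG
  have h65 := (Cfsg.Agent.Helper22.bg14d_1365 hG hσp hZ hM hKU hK1).1
  have h54 := Cfsg.Agent.Helper1.bg14_1354 hG hZ hM hKU.cyclic hKU.hall
  have hKM : K ≤ M := hKU.hall.1
  have hSn : M ≤ normalizer (sigmaCore M : Set G) := le_normalizer_piCoreOf (sigma M) M
  obtain ⟨hUM, -, hinf, hUprod⟩ := hKU.compl
  refine ⟨h65, Cfsg.Agent.Helper22.bg14_kappa_coprime hG hσp hM hKU.cyclic hKU.hall, ?_, h54.1,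
    h54.2 hK1, bg14_u1 hG hM hKU hK1⟩
  intro m hm
  obtain ⟨a, ha, b, hb, rfl⟩ := hUprod m hm
  obtain ⟨k, hk, s, hs, rfl⟩ := Cfsg.Agent.Helper22.exists_mul_of_mem_sup' (hKM.trans hSn) hb
  refine ⟨a * (k * s * k⁻¹), ?_, k, hk, by group⟩
  rw [h65]
  refine mul_mem (mem_sup_left ha) (mem_sup_right ?_)
  exact (mem_normalizer_iff.mp (hSn (hKM hk)) s).mp hs

end Cfsg.Agent.Helper23
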