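/-
helper23: the set `Ẑ = K K* ∖ (K ∪ K*)` of B&G section 14 in an abstract setting: it is a
TI-subset with normalizer `K K*` (S1370), and the union of its `M`-conjugates is TI (S1371).
-/
import Cfsg.Agent.Helper23.ExtLayer
import Cfsg.Agent.Helper35.Coprime
import Cfsg.Agent.Helper47.Syl
import Cfsg.Agent.Helper49.BG1216

set_option autoImplicit false

namespace Cfsg.Agent.Helper23

open Cfsg Subgroup
open scoped Pointwise

universe u

variable {G : Type u} [Group G] [Finite G]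

omit [Finite G] in
/-- Elements of `Ẑ` are products `k * y` of commuting nontrivial elements. -/
theorem bg14_zhat_decomp {K Ks : Subgroup G} (hKsC : Ks ≤ centralizer (K : Set G)) {x : G}
    (hx : x ∈ (↑(K ⊔ Ks) : Set G) \ ((K : Set G) ∪ ↑Ks)) :
    ∃ k ∈ K, ∃ y ∈ Ks, k ≠ 1 ∧ y ≠ 1 ∧ x = k * y ∧ k * y = y * k := by
  obtain ⟨hxZ, hxn⟩ := hx
  have hKsN : Ks ≤ normalizer (K : Set G) := hKsC.trans (Subgroup.centralizer_le_normalizer _)
  obtain ⟨k, hk, y, hy, rfl⟩ :=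
    Cfsg.Agent.Helper35.exists_mul_of_mem_sup_of_le_normalizer hKsN hxZ
  refine ⟨k, hk, y, hy, ?_, ?_, rfl, mem_centralizer_iff.mp (hKsC hy) k hk⟩
  · rintro rfl
    exact hxn (Or.inr (by simpa using hy))
  · rintro rfl
    exact hxn (Or.inl (by simpa using hk))

/-- Powers of elements of `Ẑ`. -/
theorem bg14_zhat_pow {K Ks : Subgroup G} (hKsC : Ks ≤ centralizer (K : Set G))
    (hcop : (Nat.card K).Coprime (Nat.card Ks)) {x : G}
    (hx : x ∈ (↑(K ⊔ Ks) : Set G) \ ((K : Set G) ∪ ↑Ks)) :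
    x ^ Nat.card Ks ∈ K ∧ x ^ Nat.card Ks ≠ 1 ∧ x ^ Nat.card K ∈ Ks ∧ x ^ Nat.card K ≠ 1 := by
  obtain ⟨k, hk, y, hy, hk1, hy1, rfl, hc⟩ := bg14_zhat_decomp hKsC hx
  have hcomm : Commute k y := hc
  have hyb : y ^ Nat.card Ks = 1 :=
    orderOf_dvd_iff_pow_eq_one.mp (Subgroup.orderOf_dvd_natCard Ks hy)
  have hka : k ^ Nat.card K = 1 :=
    orderOf_dvd_iff_pow_eq_one.mp (Subgroup.orderOf_dvd_natCard K hk)
  have h1 : (k * y) ^ Nat.card Ks = k ^ Nat.card Ks := by rw [hcomm.mul_pow, hyb, mul_one]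
  have h2 : (k * y) ^ Nat.card K = y ^ Nat.card K := by rw [hcomm.mul_pow, hka, one_mul]
  rw [h1, h2]
  refine ⟨pow_mem hk _, ?_, pow_mem hy _, ?_⟩
  · intro h
    have hd1 : orderOf k ∣ Nat.card Ks := orderOf_dvd_of_pow_eq_one h
    have hd2 : orderOf k ∣ Nat.card K := Subgroup.orderOf_dvd_natCard K hk
    exact hk1 (orderOf_eq_one_iff.mp (Nat.eq_one_of_dvd_coprimes hcop hd2 hd1))
  · intro h
    have hd1 : orderOf y ∣ Nat.card K := orderOf_dvd_of_pow_eq_one h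
    have hd2 : orderOf y ∣ Nat.card Ks := Subgroup.orderOf_dvd_natCard Ks hy
    exact hy1 (orderOf_eq_one_iff.mp (Nat.eq_one_of_dvd_coprimes hcop hd1 hd2))

/-- The fusion lemma: an element conjugating a nontrivial element of `K` into `K` and a
nontrivial element of `K*` into `K*` lies in `K K*`. -/
theorem bg14_zhat_core_aux {M K Ks : Subgroup G} (hM : IsCoatom M) (hKM : K ≤ M)
    (hcop : (Nat.card K).Coprime (Nat.card ↥⁅M, M⁆))
    (hcent : ∀ k ∈ K, k ≠ 1 → M ⊓ centralizer ({k} : Set G) = K ⊔ Ks)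
    (hNM : normalizer (M : Set G) ≤ M)
    (hu1 : ∀ Y : Subgroup G, Y ≤ Ks → (Nat.card Y).Prime → centralizer (Y : Set G) ≤ M ∧
      ∀ L : Subgroup G, IsCoatom L → centralizer (Y : Set G) ≤ L → L = M)
    {g k₁ y₁ : G} (hk₁ : k₁ ∈ K) (hk₁1 : k₁ ≠ 1) (hk₂ : g * k₁ * g⁻¹ ∈ K)
    (hy₁ : y₁ ∈ Ks) (hy₁1 : y₁ ≠ 1) (hy₂ : g * y₁ * g⁻¹ ∈ Ks) : g ∈ K ⊔ Ks := by
  -- Step 1: `g ∈ M`
  have hgM : g ∈ M := by
    have ho1 : orderOf y₁ ≠ 1 := fun h => hy₁1 (orderOf_eq_one_iff.mp h)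
    have ht := Nat.minFac_prime ho1
    have htd : (orderOf y₁).minFac ∣ orderOf y₁ := Nat.minFac_dvd _
    have hy₀o : orderOf (y₁ ^ (orderOf y₁ / (orderOf y₁).minFac)) = (orderOf y₁).minFac :=
      orderOf_pow_orderOf_div (orderOf_pos y₁).ne' htd
    obtain ⟨y₀, hy₀def⟩ : ∃ y₀, y₀ = y₁ ^ (orderOf y₁ / (orderOf y₁).minFac) := ⟨_, rfl⟩
    rw [← hy₀def] at hy₀o
    have hy₀ : y₀ ∈ Ks := by rw [hy₀def]; exact pow_mem hy₁ _
    have hgy₀ : g * y₀ * g⁻¹ ∈ Ks := by rw [hy₀def, ← conj_pow]; exact pow_mem hy₂ _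
    have hY₀ : zpowers y₀ ≤ Ks := (zpowers_le).mpr hy₀
    have hY₀c : Nat.card (zpowers y₀) = (orderOf y₁).minFac := by rw [Nat.card_zpowers, hy₀o]
    have hY₀g : (zpowers y₀).map (MulAut.conj g).toMonoidHom ≤ Ks := by
      rw [MonoidHom.map_zpowers, zpowers_le]
      exact hgy₀
    have hY₀gc : Nat.card ((zpowers y₀).map (MulAut.conj g).toMonoidHom) =
        (orderOf y₁).minFac := by
      rw [Subgroup.card_map_of_injective (MulAut.conj g).injective, hY₀c]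
    have h1 := (hu1 _ hY₀g (hY₀gc ▸ ht)).1
    rw [centralizer_map_conj] at h1
    have h2 := (hu1 _ hY₀ (hY₀c ▸ ht)).2 (M.map (MulAut.conj g⁻¹).toMonoidHom)
      (Cfsg.Agent.Helper47.isCoatom_map_conj hM g⁻¹) (by
        intro c hc
        refine ⟨g * c * g⁻¹, h1 ⟨c, hc, rfl⟩, ?_⟩
        show g⁻¹ * (g * c * g⁻¹) * g⁻¹⁻¹ = c
        group)
    apply hNM
    rw [mem_normalizer_iff]
    intro h
    constructor
    · intro hh
      rw [← h2] at hh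
      obtain ⟨m, hm, rfl⟩ := hh
      have e : g * (g⁻¹ * m * g⁻¹⁻¹) * g⁻¹ = m := by group
      show g * (g⁻¹ * m * g⁻¹⁻¹) * g⁻¹ ∈ M
      rw [e]
      exact hm
    · intro hh
      rw [← h2]
      refine ⟨g * h * g⁻¹, hh, ?_⟩
      show g⁻¹ * (g * h * g⁻¹) * g⁻¹⁻¹ = h
      group
  -- Step 2: `g` centralizes `k₁`
  have hcomm : g * k₁ * g⁻¹ * k₁⁻¹ ∈ K ⊓ ⁅M, M⁆ := by
    refine Subgroup.mem_inf.mpr ⟨K.mul_mem hk₂ (K.inv_mem hk₁), ?_⟩
    have := Subgroup.commutator_mem_commutator hgM (hKM hk₁)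
    rwa [commutatorElement_def] at this
  have hbot : K ⊓ ⁅M, M⁆ = ⊥ := disjoint_iff.mp (Subgroup.disjoint_of_coprime_natCard hcop)
  rw [hbot, mem_bot] at hcomm
  have hgk : g * k₁ = k₁ * g := by
    have h3 : g * k₁ * g⁻¹ = k₁ := mul_inv_eq_one.mp hcomm
    calc g * k₁ = g * k₁ * g⁻¹ * g := by group
      _ = k₁ * g := by rw [h3]
  rw [← hcent k₁ hk₁ hk₁1]
  refine ⟨hgM, ?_⟩
  show g ∈ centralizer ({k₁} : Set G)
  rw [mem_centralizer_iff]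
  intro h hh
  rw [Set.mem_singleton_iff] at hh
  rw [hh]
  exact hgk.symm

/-- The fusion lemma for `Ẑ`. -/
theorem bg14_zhat_core {M K Ks : Subgroup G} (hM : IsCoatom M) (hKM : K ≤ M)
    (hKsM' : Ks ≤ ⁅M, M⁆) (hKsC : Ks ≤ centralizer (K : Set G))
    (hcop : (Nat.card K).Coprime (Nat.card ↥⁅M, M⁆))
    (hcent : ∀ k ∈ K, k ≠ 1 → M ⊓ centralizer ({k} : Set G) = K ⊔ Ks)
    (hNM : normalizer (M : Set G) ≤ M)
    (hu1 : ∀ Y : Subgroup G, Y ≤ Ks → (Nat.card Y).Prime → centralizer (Y : Set G) ≤ M ∧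
      ∀ L : Subgroup G, IsCoatom L → centralizer (Y : Set G) ≤ L → L = M)
    {g x : G} (hx : x ∈ (↑(K ⊔ Ks) : Set G) \ ((K : Set G) ∪ ↑Ks))
    (hgx : g * x * g⁻¹ ∈ (↑(K ⊔ Ks) : Set G) \ ((K : Set G) ∪ ↑Ks)) : g ∈ K ⊔ Ks := by
  have hcop' : (Nat.card K).Coprime (Nat.card Ks) :=
    Nat.Coprime.coprime_dvd_right (Subgroup.card_dvd_of_le hKsM') hcop
  obtain ⟨hk₁, hk₁1, hy₁, hy₁1⟩ := bg14_zhat_pow hKsC hcop' hx
  obtain ⟨hk₂, -, hy₂, -⟩ := bg14_zhat_pow hKsC hcop' hgx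
  rw [conj_pow] at hk₂ hy₂
  exact bg14_zhat_core_aux hM hKM hcop hcent hNM hu1 hk₁ hk₁1 hk₂ hy₁ hy₁1 hy₂

/-- `Ẑ` is a TI-subset with normalizer `K K*`. -/
theorem bg14_zhat_ti {M K Ks : Subgroup G} (hM : IsCoatom M) (hKM : K ≤ M)
    (hKsM' : Ks ≤ ⁅M, M⁆) (hKsC : Ks ≤ centralizer (K : Set G))
    (hcop : (Nat.card K).Coprime (Nat.card ↥⁅M, M⁆))
    (hcent : ∀ k ∈ K, k ≠ 1 → M ⊓ centralizer ({k} : Set G) = K ⊔ Ks)
    (hNM : normalizer (M : Set G) ≤ M)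
    (hu1 : ∀ Y : Subgroup G, Y ≤ Ks → (Nat.card Y).Prime → centralizer (Y : Set G) ≤ M ∧
      ∀ L : Subgroup G, IsCoatom L → centralizer (Y : Set G) ≤ L → L = M)
    (hK1 : K ≠ ⊥) (hKs1 : Ks ≠ ⊥) :
    IsTISubset ((↑(K ⊔ Ks) : Set G) \ ((K : Set G) ∪ ↑Ks)) ∧
      normalizer ((↑(K ⊔ Ks) : Set G) \ ((K : Set G) ∪ ↑Ks)) = K ⊔ Ks := by
  have hcop' : (Nat.card K).Coprime (Nat.card Ks) :=
    Nat.Coprime.coprime_dvd_right (Subgroup.card_dvd_of_le hKsM') hcop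
  have hbot : K ⊓ Ks = ⊥ := disjoint_iff.mp (Subgroup.disjoint_of_coprime_natCard hcop')
  have hKsN : Ks ≤ normalizer (K : Set G) := hKsC.trans (Subgroup.centralizer_le_normalizer _)
  have hKN : K ≤ normalizer (Ks : Set G) :=
    (Subgroup.le_centralizer_iff.mp hKsC).trans (Subgroup.centralizer_le_normalizer _)
  have hZN : K ⊔ Ks ≤ normalizer ((↑(K ⊔ Ks) : Set G) \ ((K : Set G) ∪ ↑Ks)) := by
    intro z hz
    rw [mem_set_normalizer_iff]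
    intro n
    have hzK : z ∈ normalizer (K : Set G) := (sup_le le_normalizer hKsN) hz
    have hzKs : z ∈ normalizer (Ks : Set G) := (sup_le hKN le_normalizer) hz
    have e1 : n ∈ K ⊔ Ks ↔ z * n * z⁻¹ ∈ K ⊔ Ks :=
      ⟨fun h => mul_mem (mul_mem hz h) (inv_mem hz), fun h => by
        have e : n = z⁻¹ * (z * n * z⁻¹) * z := by group
        rw [e]
        exact mul_mem (mul_mem (inv_mem hz) h) hz⟩
    have e2 := mem_normalizer_iff.mp hzK n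
    have e3 := mem_normalizer_iff.mp hzKs n
    simp only [Set.mem_sdiff, Set.mem_union, SetLike.mem_coe]
    rw [← e1, ← e2, ← e3]
  have hcore : ∀ g x : G, x ∈ (↑(K ⊔ Ks) : Set G) \ ((K : Set G) ∪ ↑Ks) →
      g * x * g⁻¹ ∈ (↑(K ⊔ Ks) : Set G) \ ((K : Set G) ∪ ↑Ks) → g ∈ K ⊔ Ks :=
    fun g x hx hgx => bg14_zhat_core hM hKM hKsM' hKsC hcop hcent hNM hu1 hx hgx
  refine ⟨fun g hg x hx hgx => absurd (hZN (hcore g x hx hgx)) hg, le_antisymm ?_ hZN⟩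
  intro g hg
  obtain ⟨⟨k, hk⟩, hk1⟩ := Subgroup.ne_bot_iff_exists_ne_one.mp hK1
  obtain ⟨⟨y, hy⟩, hy1⟩ := Subgroup.ne_bot_iff_exists_ne_one.mp hKs1
  have hk1' : k ≠ 1 := fun h => hk1 (Subtype.ext h)
  have hy1' : y ≠ 1 := fun h => hy1 (Subtype.ext h)
  have hx : k * y ∈ (↑(K ⊔ Ks) : Set G) \ ((K : Set G) ∪ ↑Ks) := by
    refine ⟨mul_mem (mem_sup_left hk) (mem_sup_right hy), ?_⟩
    rintro (h | h)
    · have h3 : y ∈ K ⊓ Ks := by
        refine Subgroup.mem_inf.mpr ⟨?_, hy⟩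
        have e : y = k⁻¹ * (k * y) := by group
        rw [e]; exact K.mul_mem (K.inv_mem hk) h
      rw [hbot, mem_bot] at h3
      exact hy1' h3
    · have h3 : k ∈ K ⊓ Ks := by
        refine Subgroup.mem_inf.mpr ⟨hk, ?_⟩
        have e : k = (k * y) * y⁻¹ := by group
        rw [e]; exact Ks.mul_mem h (Ks.inv_mem hy)
      rw [hbot, mem_bot] at h3
      exact hk1' h3
  exact hcore g _ hx ((mem_set_normalizer_iff.mp hg _).mp hx)

end Cfsg.Agent.Helper23
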