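/-
helper23: the union of the `M`-conjugates of `Ẑ = K K* ∖ (K ∪ K*)` is `A₀(M) ∖ A(M)` and it is a
TI-subset (S1371), in an abstract setting.
-/
import Cfsg.Agent.Helper23.BG14Zhat
import Cfsg.Agent.Helper35.HallCoprime

set_option autoImplicit false

namespace Cfsg.Agent.Helper23

open Cfsg Subgroup
open scoped Pointwise

universe u

variable {G : Type u} [Group G] [Finite G]

omit [Finite G] in
/-- A subgroup normalizes its derived subgroup. -/
theorem bg14_le_normalizer_comm (M : Subgroup G) :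
    M ≤ normalizer ((⁅M, M⁆ : Subgroup G) : Set G) := by
  have hle : ⁅M, M⁆ ≤ M := Subgroup.commutator_le.mpr fun a ha b hb =>
    M.mul_mem (M.mul_mem (M.mul_mem ha hb) (M.inv_mem ha)) (M.inv_mem hb)
  have key : ∀ m ∈ M, ∀ c ∈ ⁅M, M⁆, m * c * m⁻¹ ∈ ⁅M, M⁆ := by
    intro m hm c hc
    have h1 := Subgroup.commutator_mem_commutator hm (hle hc)
    rw [commutatorElement_def] at h1
    have e : m * c * m⁻¹ = (m * c * m⁻¹ * c⁻¹) * c := by group
    rw [e]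
    exact mul_mem h1 hc
  intro m hm
  rw [mem_normalizer_iff]
  intro c
  refine ⟨key m hm c, fun h => ?_⟩
  have e : c = m⁻¹ * (m * c * m⁻¹) * m⁻¹⁻¹ := by group
  rw [e]
  exact key _ (inv_mem hm) _ h

/-- In a solvable subgroup `M`, an element whose order divides the order of a Hall subgroup `T`
of `M` is `M`-conjugate into `T`. -/
theorem bg14_conj_into_hall {M T : Subgroup G} (hMsolv : Group.IsSolvable ↥M)
    (hcop : (Nat.card T).Coprime (T.relIndex M)) {x : G} (hxM : x ∈ M)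
    (hx : orderOf x ∣ Nat.card T) : ∃ l ∈ M, l⁻¹ * x * l ∈ T := by
  obtain ⟨l, hl⟩ := Cfsg.Agent.Helper49.bg1216_hall_conj (T.subgroupOf M)
    (zpowers (⟨x, hxM⟩ : ↥M)) (by
      rw [Nat.card_zpowers, Subgroup.orderOf_mk]
      exact Nat.Coprime.coprime_dvd_left hx hcop)
  have h1 := hl (mem_zpowers _)
  rw [Subgroup.mem_pointwise_smul_iff_inv_smul_mem] at h1
  have h2 : (MulAut.conj l)⁻¹ • (⟨x, hxM⟩ : ↥M) = l⁻¹ * ⟨x, hxM⟩ * l := by
    rw [← map_inv, MulAut.smul_def, MulAut.conj_apply, inv_inv]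
  rw [h2, Subgroup.mem_subgroupOf] at h1
  exact ⟨l, l.2, by simpa using h1⟩

/-- The `M`-conjugates of `Ẑ`. -/
theorem bg14_zhat_conj {M K U Ks : Subgroup G} (hM : IsCoatom M)
    (hMsolv : Group.IsSolvable ↥M) (hKM : K ≤ M)
    (h65 : ⁅M, M⁆ = U ⊔ sigmaCore M)
    (hSn : M ≤ normalizer (sigmaCore M : Set G))
    (hKsσ : Ks ≤ sigmaCore M) (hKsC : Ks ≤ centralizer (K : Set G))
    (hcop : (Nat.card K).Coprime (Nat.card ↥⁅M, M⁆))
    (hprod : ∀ m ∈ M, ∃ w ∈ ⁅M, M⁆, ∃ k ∈ K, m = w * k)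
    (hcent : ∀ k ∈ K, k ≠ 1 → M ⊓ centralizer ({k} : Set G) = K ⊔ Ks)
    (hNM : normalizer (M : Set G) ≤ M)
    (hu1 : ∀ Y : Subgroup G, Y ≤ Ks → (Nat.card Y).Prime → centralizer (Y : Set G) ≤ M ∧
      ∀ L : Subgroup G, IsCoatom L → centralizer (Y : Set G) ≤ L → L = M) :
    {a : G | ∃ m ∈ M, ∃ z ∈ ((↑(K ⊔ Ks) : Set G) \ ((K : Set G) ∪ ↑Ks)), a = m * z * m⁻¹} =
        sigmaA0 M K \ sigmaA M U ∧
      IsTISubset (sigmaA0 M K \ sigmaA M U) := by
  have hM'M : ⁅M, M⁆ ≤ M := Subgroup.commutator_le.mpr fun a ha b hb =>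
    M.mul_mem (M.mul_mem (M.mul_mem ha hb) (M.inv_mem ha)) (M.inv_mem hb)
  have hσM' : sigmaCore M ≤ ⁅M, M⁆ := by rw [h65]; exact le_sup_right
  have hKsM' : Ks ≤ ⁅M, M⁆ := hKsσ.trans hσM'
  have hZM : K ⊔ Ks ≤ M := sup_le hKM (hKsM'.trans hM'M)
  have hMn := bg14_le_normalizer_comm M
  have hcop' : (Nat.card K).Coprime (Nat.card Ks) :=
    Nat.Coprime.coprime_dvd_right (Subgroup.card_dvd_of_le hKsM') hcop
  have hbot : K ⊓ ⁅M, M⁆ = ⊥ := disjoint_iff.mp (Subgroup.disjoint_of_coprime_natCard hcop)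
  have hbot' : ⁅M, M⁆ ⊓ K = ⊥ := by rw [inf_comm]; exact hbot
  have hsup : ⁅M, M⁆ ⊔ K = M := by
    refine le_antisymm (sup_le hM'M hKM) (fun m hm => ?_)
    obtain ⟨w, hw, k, hk, rfl⟩ := hprod m hm
    exact mul_mem (mem_sup_left hw) (mem_sup_right hk)
  have hcardM : Nat.card M = Nat.card ↥⁅M, M⁆ * Nat.card K := by
    rw [← Cfsg.Agent.Helper35.card_sup_of_le_normalizer (hKM.trans hMn) hbot', hsup]
  have hrelK : K.relIndex M = Nat.card ↥⁅M, M⁆ := by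
    have h1 := Cfsg.Agent.Helper35.card_mul_relIndex_of_le hKM
    rw [hcardM, mul_comm] at h1
    exact Nat.eq_of_mul_eq_mul_right Nat.card_pos h1
  have hrelM' : (⁅M, M⁆ : Subgroup G).relIndex M = Nat.card K := by
    have h1 := Cfsg.Agent.Helper35.card_mul_relIndex_of_le hM'M
    rw [hcardM] at h1
    exact Nat.eq_of_mul_eq_mul_left Nat.card_pos h1
  -- the union of the conjugates
  have hA : {a : G | ∃ m ∈ M, ∃ z ∈ ((↑(K ⊔ Ks) : Set G) \ ((K : Set G) ∪ ↑Ks)),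
      a = m * z * m⁻¹} = sigmaA0 M K \ sigmaA M U := by
    ext a
    constructor
    · rintro ⟨m, hm, z, hz, rfl⟩
      obtain ⟨k, hk, y, hy, hk1, hy1, hzeq, hc⟩ := bg14_zhat_decomp hKsC hz
      obtain ⟨hp1, hp2, hp3, hp4⟩ := bg14_zhat_pow hKsC hcop' hz
      have hzM : z ∈ M := hZM hz.1
      have hzy : z * y = y * z := by
        rw [hzeq, ← mul_assoc, ← hc]
      refine ⟨⟨⟨mul_mem (mul_mem hm hzM) (inv_mem hm), m * y * m⁻¹, ?_, ?_, ?_⟩, ?_⟩, ?_⟩
      · exact (mem_normalizer_iff.mp (hSn hm) y).mp (hKsσ hy)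
      · intro h
        apply hy1
        have e : y = m⁻¹ * (m * y * m⁻¹) * m := by group
        rw [e, h]
        group
      · have e1 : m * z * m⁻¹ * (m * y * m⁻¹) = m * (z * y) * m⁻¹ := by group
        have e2 : m * y * m⁻¹ * (m * z * m⁻¹) = m * (y * z) * m⁻¹ := by group
        rw [e1, e2, hzy]
      · rintro ⟨k₁, hk₁, -, m₁, -, h⟩
        have hk₁a : k₁ ^ Nat.card K = 1 :=
          orderOf_dvd_iff_pow_eq_one.mp (Subgroup.orderOf_dvd_natCard K hk₁)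
        have h5 : (m * z * m⁻¹) ^ Nat.card K = 1 := by
          rw [h, conj_pow, hk₁a, mul_one, mul_inv_cancel]
        rw [conj_pow] at h5
        apply hp4
        have e : z ^ Nat.card K = m⁻¹ * (m * z ^ Nat.card K * m⁻¹) * m := by group
        rw [e, h5]
        group
      · rintro ⟨-, haU⟩
        rw [SetLike.mem_coe, ← h65] at haU
        have hzM' : z ∈ ⁅M, M⁆ := by
          have e : z = m⁻¹ * (m * z * m⁻¹) * m⁻¹⁻¹ := by group
          rw [e]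
          exact (mem_normalizer_iff.mp (hMn (inv_mem hm)) _).mp haU
        have h3 : z ^ Nat.card Ks ∈ K ⊓ ⁅M, M⁆ :=
          Subgroup.mem_inf.mpr ⟨hp1, Subgroup.pow_mem _ hzM' _⟩
        rw [hbot, mem_bot] at h3
        exact hp2 h3
    · rintro ⟨⟨haσ, hnK⟩, hnA⟩
      have haM : a ∈ M := haσ.1
      have haM' : a ∉ ⁅M, M⁆ := fun h => hnA ⟨haσ, by rw [h65] at h; exact h⟩
      have hac1 : a ^ Nat.card ↥⁅M, M⁆ ≠ 1 := by
        intro h
        have ho : orderOf a ∣ Nat.card ↥⁅M, M⁆ := orderOf_dvd_of_pow_eq_one h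
        obtain ⟨l, hl, hla⟩ := bg14_conj_into_hall hMsolv
          (by rw [hrelM']; exact hcop.symm) haM ho
        apply haM'
        have e : a = l * (l⁻¹ * a * l) * l⁻¹ := by group
        rw [e]
        exact (mem_normalizer_iff.mp (hMn hl) _).mp hla
      have hao : orderOf (a ^ Nat.card ↥⁅M, M⁆) ∣ Nat.card K := by
        apply orderOf_dvd_of_pow_eq_one
        rw [← pow_mul, ← hcardM]
        exact orderOf_dvd_iff_pow_eq_one.mp (Subgroup.orderOf_dvd_natCard M haM)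
      obtain ⟨l, hl, hla⟩ := bg14_conj_into_hall hMsolv
        (by rw [hrelK]; exact hcop) (pow_mem haM _) hao
      have hzc : (l⁻¹ * a * l) ^ Nat.card ↥⁅M, M⁆ = l⁻¹ * a ^ Nat.card ↥⁅M, M⁆ * l := by
        have e : l⁻¹ * a * l = l⁻¹ * a * l⁻¹⁻¹ := by group
        rw [e, conj_pow, inv_inv]
      have hk₁1 : (l⁻¹ * a * l) ^ Nat.card ↥⁅M, M⁆ ≠ 1 := by
        rw [hzc]
        intro h
        apply hac1
        have e : a ^ Nat.card ↥⁅M, M⁆ = l * (l⁻¹ * a ^ Nat.card ↥⁅M, M⁆ * l) * l⁻¹ := by group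
        rw [e, h]
        group
      have hzM : l⁻¹ * a * l ∈ M := mul_mem (mul_mem (inv_mem hl) haM) hl
      have hzZ : l⁻¹ * a * l ∈ K ⊔ Ks := by
        rw [← hcent _ (hzc ▸ hla) hk₁1]
        refine Subgroup.mem_inf.mpr ⟨hzM, ?_⟩
        rw [mem_centralizer_iff]
        intro h hh
        rw [Set.mem_singleton_iff] at hh
        rw [hh]
        exact ((Commute.refl (l⁻¹ * a * l)).pow_left _).eq
      refine ⟨l, hl, l⁻¹ * a * l, ⟨hzZ, ?_⟩, by group⟩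
      rintro (hzK | hzKs)
      · apply hnK
        refine ⟨l⁻¹ * a * l, hzK, ?_, l, hl, by group⟩
        intro hz1
        apply haM'
        have e : a = l * (l⁻¹ * a * l) * l⁻¹ := by group
        rw [e, hz1]
        simp
      · apply haM'
        have e : a = l * (l⁻¹ * a * l) * l⁻¹ := by group
        rw [e]
        exact (mem_normalizer_iff.mp (hMn hl) _).mp (hKsM' hzKs)
  refine ⟨hA, ?_⟩
  rw [← hA]
  have hMW : M ≤ normalizer {a : G | ∃ m ∈ M, ∃ z ∈ ((↑(K ⊔ Ks) : Set G) \ ((K : Set G) ∪ ↑Ks)),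
      a = m * z * m⁻¹} := by
    intro m₀ hm₀
    rw [mem_set_normalizer_iff]
    intro n
    constructor
    · rintro ⟨m, hm, z, hz, rfl⟩
      exact ⟨m₀ * m, mul_mem hm₀ hm, z, hz, by group⟩
    · rintro ⟨m, hm, z, hz, h⟩
      refine ⟨m₀⁻¹ * m, mul_mem (inv_mem hm₀) hm, z, hz, ?_⟩
      have e : n = m₀⁻¹ * (m₀ * n * m₀⁻¹) * m₀ := by group
      rw [e, h]
      group
  intro g hg w hw hgw
  obtain ⟨m, hm, z, hz, rfl⟩ := hw
  obtain ⟨m', hm', z', hz', h⟩ := hgw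
  have h5 : (m'⁻¹ * g * m) * z * (m'⁻¹ * g * m)⁻¹ = z' := by
    have e : (m'⁻¹ * g * m) * z * (m'⁻¹ * g * m)⁻¹ = m'⁻¹ * (g * (m * z * m⁻¹) * g⁻¹) * m' := by
      group
    rw [e, h]
    group
  have h1 := bg14_zhat_core hM hKM hKsM' hKsC hcop hcent hNM hu1 hz (h5 ▸ hz')
  have hgM : g ∈ M := by
    have e : g = m' * (m'⁻¹ * g * m) * m⁻¹ := by group
    rw [e]
    exact mul_mem (mul_mem hm' (hZM h1)) (inv_mem hm)
  exact absurd (hMW hgM) hg

end Cfsg.Agent.Helper23
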