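import Cfsg.Agent.Helper22.BG11a
import Cfsg.Agent.Helper49.BG107b
import Cfsg.Agent.Helper62.Subnormal

/-!
# The Sylow lemma (E4) behind Bender–Glauberman sections 11 and 12

For a maximal elementary abelian subgroup `A` of order `p ^ 2`, a prime `q ≠ p` dividing
`#C_G(A)` and a maximal `A`-invariant `q`-subgroup `Q`, some Sylow `p`-subgroup `S ≥ A` of `G`
lies in `N_G(Q)'` and satisfies `N_G(S) ≤ C_G(A) N_G(Q)`.
-/

set_option autoImplicit false

namespace Cfsg.Agent.Helper23

open Cfsg Subgroup Cfsg.Agent.Helper22 Cfsg.Agent.Helper35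
open scoped Pointwise commutatorElement

universe u

variable {G : Type u} [Group G] [Finite G]

omit [Finite G] in
theorem e4_le_centralizer {p : ℕ} {A : Subgroup G} (hA : IsElementaryAbelian p A) :
    A ≤ centralizer (A : Set G) := by
  intro a ha
  rw [mem_centralizer_iff]
  intro b hb
  exact bg11_elemAb_comm hA b hb a ha

theorem e4_not_rankLE_one {p : ℕ} [Fact p.Prime] {A : Subgroup G} (hA : IsElementaryAbelian p A)
    (hAc : Nat.card A = p ^ 2) : ¬ RankLE 1 ↥(A ⊓ centralizer (A : Set G)) := by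
  have hp : p.Prime := Fact.out
  intro h
  have h1 : PRankLE p 1 ↥A := pRankLE_of_le (le_inf le_rfl (e4_le_centralizer hA)) (h p hp)
  have h2 := h1 ⊤ ⟨⟨fun a b => Subtype.ext (hA.1.is_comm.comm a.1 b.1)⟩⟩
    (fun a _ => Subtype.ext (by rw [Subgroup.coe_pow]; exact hA.2 a a.2))
  rw [Subgroup.card_top, hAc, pow_one] at h2
  have := hp.one_lt
  nlinarith

theorem e4_sylow_ne_top (hG : IsMinSimpleOddOrder G) {p : ℕ} [Fact p.Prime] (S : Sylow p G) :
    (S : Subgroup G) ≠ ⊤ := by
  intro e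
  have hs : IsSimpleGroup G := hG.2.1
  have hpg : IsPGroup p G := by
    have h1 := S.isPGroup'
    rw [e] at h1
    exact h1.of_equiv Subgroup.topEquiv
  have hnt : Nontrivial (center G) := hpg.center_nontrivial
  rcases (inferInstance : (center G).Normal).eq_bot_or_eq_top with h | h
  · rw [Subgroup.nontrivial_iff_ne_bot] at hnt
    exact hnt h
  · apply hG.2.2.1
    refine ⟨⟨fun a b => ?_⟩⟩
    have ha : a ∈ center G := by rw [h]; exact mem_top a
    exact (Subgroup.mem_center_iff.mp ha b).symm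

theorem e4_conj_normalizer_le {Q : Subgroup G} (k : G) :
    MulAut.conj k⁻¹ • normalizer ((MulAut.conj k • Q : Subgroup G) : Set G) ≤
      normalizer (Q : Set G) := by
  intro x hx
  rw [mem_conj_smul, inv_inv] at hx
  have h := bg11_conj_mem_normalizer hx
  have e : k⁻¹ * (k * x * k⁻¹) * k = x := by group
  rwa [e] at h

omit [Finite G] in
theorem e4_conj_commutator_le {H K : Subgroup G} (g : G) (h : MulAut.conj g • H ≤ K) :
    MulAut.conj g • ⁅H, H⁆ ≤ ⁅K, K⁆ := by
  rw [smul_eq_map_conj, Subgroup.map_commutator]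
  rw [smul_eq_map_conj] at h
  exact Subgroup.commutator_mono h h

/-- **(E4)**. -/
theorem bg11_e4 (hG : IsMinSimpleOddOrder G) (hpl : BGPLen G) {p : ℕ} [Fact p.Prime]
    {A : Subgroup G} (hA : IsElementaryAbelian p A) (hAc : Nat.card A = p ^ 2)
    (hmax : ∀ B : Subgroup G, IsElementaryAbelian p B → A ≤ B → B = A)
    {q : ℕ} (hq : q.Prime) (hqp : q ≠ p) (hqC : q ∣ Nat.card (centralizer (A : Set G)))
    {Q : Subgroup G} (hQ : Q ∈ maxInvSubgroups ⊤ A {q}) :
    ∃ S : Subgroup G, IsSylowOf p S ⊤ ∧ A ≤ S ∧ S ≤ normalizer (Q : Set G) ∧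
      S ≤ ⁅normalizer (Q : Set G), normalizer (Q : Set G)⁆ ∧
      normalizer (S : Set G) ≤ centralizer (A : Set G) ⊔ normalizer (Q : Set G) := by
  have hp : p.Prime := Fact.out
  have hA1 : A ≠ ⊥ := by
    intro e
    rw [e, Subgroup.card_bot] at hAc
    have := hp.one_lt
    nlinarith
  have hAp : IsPGroup p A := bg11_isPGroup_of_elemAb hA
  have hTH := bg11_transHyp hG hpl hA hA1 hmax
  have hqA : ¬ q ∣ Nat.card A := by
    rw [hAc]
    intro h
    exact hqp ((Nat.prime_dvd_prime_iff_eq hq hp).mp (hq.dvd_of_dvd_pow h))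
  have htr := trans_of_rank_two hG hTH (e4_not_rankLE_one hA hAc) hq hqA hqC
  obtain ⟨S0, hAS0⟩ := hAp.exists_le_sylow
  have hS0top := e4_sylow_ne_top hG S0
  have hPπ : ∀ r : ℕ, r.Prime → r ∣ Nat.card (S0 : Subgroup G) → r ∣ Nat.card A := by
    intro r hr hd
    obtain ⟨n, hn⟩ := IsPGroup.iff_card.mp S0.isPGroup'
    rw [hn] at hd
    have : r = p := (Nat.prime_dvd_prime_iff_eq hr hp).mp (hr.dvd_of_dvd_pow hd)
    rw [this, hAc]
    exact dvd_pow_self p (by norm_num)
  haveI : Group.IsNilpotent ↥(S0 : Subgroup G) := S0.isPGroup'.isNilpotent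
  have hsn : (A.subgroupOf (S0 : Subgroup G)).IsSubnormal :=
    Cfsg.Agent.Helper62.isSubnormal_of_isNilpotent _
  obtain ⟨-, -, i3, i4⟩ := superset_of_trans hG hTH hq hqA hS0top hPπ hAS0 hsn htr
  have hbot : (⊥ : Subgroup G) ∈ invSubgroups ⊤ (S0 : Subgroup G) {q} := by
    refine ⟨le_top, fun r hr' hrd => ?_, ?_⟩
    · rw [Subgroup.card_bot] at hrd
      exact absurd (Nat.dvd_one.mp hrd) hr'.ne_one
    · intro x _
      rw [Subgroup.mem_normalizer_iff]
      intro y
      simp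
  obtain ⟨R, hR, -⟩ := exists_maxInv_ge hbot
  have hRA := i3 hR
  obtain ⟨k, hk, e⟩ := htr Q hQ R hRA
  obtain ⟨h5, h6⟩ := i4 R hR
  have hkC : k ∈ centralizer (A : Set G) := piCoreOf_le _ _ hk
  have hkC' : k⁻¹ ∈ centralizer (A : Set G) := inv_mem hkC
  -- `S0 ≤ N(S0)'`
  have hS0comm : (S0 : Subgroup G) ≤ ⁅normalizer ((S0 : Subgroup G) : Set G),
      normalizer ((S0 : Subgroup G) : Set G)⁆ :=
    (Cfsg.Agent.Helper49.bg107a_le_comm (Cfsg.Agent.Helper49.bg107_perfect hG) S0
      (Cfsg.Agent.Helper49.bg107_ctl hG (hpl p) S0)).trans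
      (Subgroup.commutator_mono le_normalizer le_rfl)
  have hS0R : (S0 : Subgroup G) ≤ ⁅normalizer (R : Set G), normalizer (R : Set G)⁆ :=
    (le_inf le_rfl hS0comm).trans h5
  refine ⟨MulAut.conj k⁻¹ • (S0 : Subgroup G), ?_, ?_, ?_, ?_, ?_⟩
  · exact bg10_isSylowOf_conj (isSylowOf_top S0) (mem_top _)
  · intro a ha
    rw [mem_conj_smul, inv_inv]
    have h1 : k * a * k⁻¹ = a := by
      have := mem_centralizer_iff.mp hkC a ha
      rw [← this, mul_inv_cancel_right]
    rw [h1]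
    exact hAS0 ha
  · have h1 : (S0 : Subgroup G) ≤ normalizer ((MulAut.conj k • Q : Subgroup G) : Set G) := by
      rw [← e]; exact hR.1.2.2
    exact (conj_smul_le_conj_smul h1).trans (e4_conj_normalizer_le k)
  · have h1 : MulAut.conj k⁻¹ • normalizer (R : Set G) ≤ normalizer (Q : Set G) := by
      rw [e]; exact e4_conj_normalizer_le k
    exact (conj_smul_le_conj_smul hS0R).trans (e4_conj_commutator_le _ h1)
  · intro n hn
    -- `k n k⁻¹` normalizes `S0`
    have h1 : k * n * k⁻¹ ∈ normalizer ((S0 : Subgroup G) : Set G) := by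
      have := bg11_conj_mem_normalizer (m := k⁻¹) (Q := (S0 : Subgroup G)) hn
      rwa [inv_inv] at this
    rw [h6] at h1
    have h2 : piCoreOf (primesNotDvd (Nat.card A)) (centralizer ((S0 : Subgroup G) : Set G)) ⊔
        (normalizer ((S0 : Subgroup G) : Set G) ⊓ normalizer (R : Set G)) ≤
        centralizer (A : Set G) ⊔ normalizer (R : Set G) :=
      sup_le_sup ((piCoreOf_le _ _).trans (Subgroup.centralizer_le (by exact_mod_cast hAS0)))
        inf_le_right
    have h3 := h2 h1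
    -- conjugate back
    have h4 : k⁻¹ * (k * n * k⁻¹) * k⁻¹⁻¹ ∈ MulAut.conj k⁻¹ •
        (centralizer (A : Set G) ⊔ normalizer (R : Set G)) := conj_mem_conj_smul h3
    have e2 : k⁻¹ * (k * n * k⁻¹) * k⁻¹⁻¹ = n := by group
    rw [e2] at h4
    have h5' : MulAut.conj k⁻¹ • (centralizer (A : Set G) ⊔ normalizer (R : Set G)) ≤
        centralizer (A : Set G) ⊔ normalizer (Q : Set G) := by
      rw [Subgroup.smul_sup]
      refine sup_le_sup ?_ ?_
      · rw [Subgroup.conj_smul_eq_self_of_mem hkC']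
      · rw [e]; exact e4_conj_normalizer_le k
    exact h5' h4

end Cfsg.Agent.Helper23
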