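/-
helper23: S1367, second half (B&G section 14): if `K*` is a nontrivial Hall `κ(M*)`-subgroup of
a maximal subgroup `M*` and `K = C_{M*_σ}(K*)`, then every subgroup of prime order of `K` has its
centralizer in `M*` and in no other maximal subgroup.
-/
import Cfsg.Agent.Helper23.BG14U1
import Cfsg.Agent.Helper23.BG14ZhatConj
import Cfsg.Agent.Helper22.BG11d
import Cfsg.Agent.Helper47.BG14SET2
import Cfsg.Agent.Helper47.BG14RK
import Cfsg.Agent.Helper50.BG14SET1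
import Cfsg.Agent.Helper72.BG13NB8
import Cfsg.Agent.S1415

set_option autoImplicit false

namespace Cfsg.Agent.Helper23

open Cfsg Subgroup
open scoped Pointwise

universe u

variable {G : Type u} [Group G] [Finite G]

/-- If `|P|` is coprime to `|E'|`, then `P ≤ E` normalizes some Sylow `r`-subgroup of `E`. -/
theorem bg14_exists_invariant_sylow_comm {E P : Subgroup G} (hPE : P ≤ E)
    (hcop : (Nat.card P).Coprime (Nat.card ↥⁅E, E⁆))
    (hsolv : Group.IsSolvable ↥P ∨ Group.IsSolvable ↥⁅E, E⁆) (r : ℕ) [Fact r.Prime] :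
    ∃ R ∈ Cfsg.Agent.Helper35.sylowSet r E, P ≤ normalizer (R : Set G) := by
  have hr : r.Prime := Fact.out
  have hNE : ⁅E, E⁆ ≤ E := Subgroup.commutator_le.mpr fun a ha b hb =>
    E.mul_mem (E.mul_mem (E.mul_mem ha hb) (E.inv_mem ha)) (E.inv_mem hb)
  have hEN := bg14_le_normalizer_comm E
  obtain ⟨R₀, hR₀⟩ := Cfsg.Agent.Helper35.sylowSet_nonempty (p := r) E
  have key : ∀ a ∈ E, ∃ n ∈ ⁅E, E⁆, MulAut.conj n • R₀ = MulAut.conj a • R₀ := by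
    intro a ha
    have hDE : ⁅E, E⁆ ⊔ R₀ ≤ E := sup_le hNE hR₀.1
    have hfac : (Nat.card E).factorization r = (Nat.card ↥(⁅E, E⁆ ⊔ R₀)).factorization r := by
      apply le_antisymm
      · apply (Nat.Prime.pow_dvd_iff_le_factorization hr Nat.card_pos.ne').mp
        rw [← hR₀.2]
        exact Subgroup.card_dvd_of_le le_sup_right
      · exact (Nat.factorization_le_iff_dvd Nat.card_pos.ne' Nat.card_pos.ne').mpr
          (Subgroup.card_dvd_of_le hDE) r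
    have hD1 : R₀ ∈ Cfsg.Agent.Helper35.sylowSet r (⁅E, E⁆ ⊔ R₀) :=
      ⟨le_sup_right, by rw [hR₀.2, hfac]⟩
    have hD2 : MulAut.conj a • R₀ ∈ Cfsg.Agent.Helper35.sylowSet r (⁅E, E⁆ ⊔ R₀) := by
      refine ⟨?_, by rw [Cfsg.Agent.Helper35.card_conj_smul, hD1.2]⟩
      intro x hx
      have hy : a⁻¹ * x * a ∈ R₀ := Cfsg.Agent.Helper35.mem_conj_smul.mp hx
      have h1 := Subgroup.commutator_mem_commutator ha (hR₀.1 hy)
      rw [commutatorElement_def] at h1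
      have e : x = (a * (a⁻¹ * x * a) * a⁻¹ * (a⁻¹ * x * a)⁻¹) * (a⁻¹ * x * a) := by group
      rw [e]
      exact mul_mem (mem_sup_left h1) (mem_sup_right hy)
    obtain ⟨d, hd, hdR⟩ := Cfsg.Agent.Helper35.sylowSet_trans hD1 hD2
    obtain ⟨n, hn, r₀, hr₀, rfl⟩ :=
      Cfsg.Agent.Helper35.exists_mul_of_mem_sup_of_le_normalizer (hR₀.1.trans hEN) hd
    refine ⟨n, hn, ?_⟩
    rw [← hdR, map_mul, mul_smul,
      Cfsg.Agent.Helper35.conj_smul_eq_self_of_mem_normalizer (le_normalizer hr₀)]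
  have hA : ∀ a ∈ P, ∀ R ∈ {R : Subgroup G | ∃ n ∈ ⁅E, E⁆, MulAut.conj n • R₀ = R},
      MulAut.conj a • R ∈ {R : Subgroup G | ∃ n ∈ ⁅E, E⁆, MulAut.conj n • R₀ = R} := by
    rintro a ha _ ⟨n, hn, rfl⟩
    obtain ⟨n', hn', h'⟩ := key a (hPE ha)
    refine ⟨a * n * a⁻¹ * n', mul_mem ((mem_normalizer_iff.mp (hEN (hPE ha)) n).mp hn) hn', ?_⟩
    rw [map_mul, mul_smul, h', ← mul_smul, ← mul_smul, ← map_mul, ← map_mul]
    congr 2
    group
  have hK : ∀ k ∈ ⁅E, E⁆, ∀ R ∈ {R : Subgroup G | ∃ n ∈ ⁅E, E⁆, MulAut.conj n • R₀ = R},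
      MulAut.conj k • R ∈ {R : Subgroup G | ∃ n ∈ ⁅E, E⁆, MulAut.conj n • R₀ = R} := by
    rintro k hk _ ⟨n, hn, rfl⟩
    exact ⟨k * n, mul_mem hk hn, by rw [map_mul, mul_smul]⟩
  have htr : ∀ R ∈ {R : Subgroup G | ∃ n ∈ ⁅E, E⁆, MulAut.conj n • R₀ = R},
      ∀ R' ∈ {R : Subgroup G | ∃ n ∈ ⁅E, E⁆, MulAut.conj n • R₀ = R},
      ∃ k ∈ ⁅E, E⁆, MulAut.conj k • R = R' := by
    rintro _ ⟨n, hn, rfl⟩ _ ⟨n', hn', rfl⟩
    refine ⟨n' * n⁻¹, mul_mem hn' (inv_mem hn), ?_⟩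
    rw [← mul_smul, ← map_mul]
    congr 2
    group
  obtain ⟨R, ⟨n, hn, rfl⟩, hPR⟩ := Cfsg.Agent.Helper35.glauberman_subgroup (A := P)
    (K := ⁅E, E⁆) (hPE.trans hEN) hcop hsolv
    (S := {R | ∃ n ∈ ⁅E, E⁆, MulAut.conj n • R₀ = R}) ⟨R₀, 1, one_mem _, by simp⟩ hA hK htr
  exact ⟨_, Cfsg.Agent.Helper35.conj_mem_sylowSet (le_normalizer (hNE hn)) hR₀, hPR⟩

/-- The "star" half of S1367: `Ks` a nontrivial Hall `κ(Ms)`-subgroup of the maximal subgroup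
`Ms`, `K = C_{(Ms)_σ}(Ks)`. -/
theorem bg14_1367_star (hG : IsMinSimpleOddOrder G) {Ms Ks K : Subgroup G} (hMs : IsCoatom Ms)
    (hKsH : IsPiHallOf (kappa Ms) Ks Ms) (hKs1 : Ks ≠ ⊥) (hK1 : K ≠ ⊥)
    (hKst : K = sigmaCore Ms ⊓ centralizer (Ks : Set G)) :
    ∀ Y : Subgroup G, Y ≤ K → (Nat.card Y).Prime →
      centralizer (Y : Set G) ≤ Ms ∧
        ∀ L : Subgroup G, IsCoatom L → centralizer (Y : Set G) ≤ L → L = Ms := by
  have hσp := bg14_sigmaPart hG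
  have hZ := bg14_lemmaZ_pkg hG
  obtain ⟨Es, hEs, hKsE⟩ := Cfsg.Agent.Helper50.bg14_exists_compl hG hMs hKsH
  have hEsM : Es ≤ Ms := hEs.1
  have hEtop : Es ≠ ⊤ := fun h => hMs.1 (top_le_iff.mp (h ▸ hEsM))
  have hsolvE : Group.IsSolvable ↥Es := uq_isSolvable hG hEtop
  -- a prime of `Ks` in `τ₁(Ms)`
  have hex : ∃ p : ℕ, p.Prime ∧ p ∣ Nat.card Ks ∧ p ∈ tau1 Ms := by
    by_contra hno
    have hall : ∀ q : ℕ, q.Prime → q ∣ Nat.card Ks → q ∈ tau3 Ms := by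
      intro q hq hqd
      have hqκ := hKsH.2.1 q hq hqd
      have hq1 := Cfsg.Agent.Helper47.bg14_rank_of_kappa hqκ
      by_contra h3
      exact hno ⟨q, hq, hqd, hq, hqκ.2.2.1, hqκ.2.1, fun hd => h3 ⟨hq, hqκ.2.2.1, hd, hq1⟩, hq1⟩
    obtain ⟨E₃, hE₃, hKsE₃⟩ :=
      Cfsg.Agent.Helper72.bg13nb_exists_hall_ge hsolvE (tau3 Ms) hKsE hall
    have hcyc := ((Cfsg.Agent.S1415.result hG Ms hMs Es hEs).2.2 E₃ hE₃).1
    have hKc : IsCyclic Ks :=
      isCyclic_of_injective (Subgroup.inclusion hKsE₃) (Subgroup.inclusion_injective hKsE₃)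
    obtain ⟨q, hq, hqd⟩ := Nat.exists_prime_and_dvd (fun h => hKs1 (Subgroup.card_eq_one.mp h))
    exact Cfsg.Agent.Helper22.bg14_kappa_not_tau3 hG hσp hMs hKc hKsH (hKsH.2.1 q hq hqd)
      (hall q hq hqd)
  obtain ⟨p, hp, hpd, hp1⟩ := hex
  have hpκ : p ∈ kappa Ms := hKsH.2.1 p hp hpd
  have := Fact.mk hp
  obtain ⟨x, hx⟩ := exists_prime_orderOf_dvd_card' (G := ↥Ks) p hpd
  have hPKs : zpowers (x : G) ≤ Ks := (zpowers_le).mpr x.2
  have hP : Nat.card (zpowers (x : G)) = p := by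
    rw [Nat.card_zpowers, Subgroup.orderOf_coe, hx]
  have hPE : zpowers (x : G) ≤ Es := hPKs.trans hKsE
  have hD : sigmaCore Ms ⊓ centralizer ((zpowers (x : G) : Subgroup G) : Set G) ≠ ⊥ := by
    intro h
    apply hK1
    rw [eq_bot_iff, ← h, hKst]
    exact inf_le_inf_left _ (Subgroup.centralizer_le (by exact_mod_cast hPKs))
  have hNE : ⁅Es, Es⁆ ≤ Es := Subgroup.commutator_le.mpr fun a ha b hb =>
    Es.mul_mem (Es.mul_mem (Es.mul_mem ha hb) (Es.inv_mem ha)) (Es.inv_mem hb)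
  have hcomm_le : ⁅Es, Es⁆ ≤ ⁅Ms, Ms⁆ := Subgroup.commutator_mono hEsM hEsM
  have hcopP : (Nat.card (zpowers (x : G))).Coprime (Nat.card ↥⁅Es, Es⁆) := by
    rw [hP, Nat.Prime.coprime_iff_not_dvd hp]
    intro hd
    exact hp1.2.2.2.1 (hd.trans (Subgroup.card_dvd_of_le hcomm_le))
  have hsolvN : Group.IsSolvable ↥⁅Es, Es⁆ :=
    uq_isSolvable hG (fun h => hEtop (top_le_iff.mp (h ▸ hNE)))
  -- Sylow subgroups of `Es` inside `Es' Ks`
  have hsyl : ∀ r : ℕ, r.Prime →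
      ∃ R : Subgroup G, R ∈ Cfsg.Agent.Helper35.sylowSet r Es ∧ R ≤ ⁅Es, Es⁆ ⊔ Ks := by
    intro r hr
    have := Fact.mk hr
    by_cases hrκ : r ∈ kappa Ms
    · obtain ⟨Q⟩ : Nonempty (Sylow r ↥Ks) := Sylow.nonempty
      have hidx := Cfsg.Agent.Helper47.bg14_sylow_of_hall_aux hKsH hrκ Q
      have hQKs : (Q : Subgroup ↥Ks).map Ks.subtype ≤ Ks := Subgroup.map_subtype_le _
      have hQE : (Q : Subgroup ↥Ks).map Ks.subtype ≤ Es := hQKs.trans hKsE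
      refine ⟨(Q : Subgroup ↥Ks).map Ks.subtype, ⟨hQE, ?_⟩, hQKs.trans le_sup_right⟩
      have hQr : IsPGroup r ((Q : Subgroup ↥Ks).map Ks.subtype) := Q.2.map _
      obtain ⟨j, hj⟩ := IsPGroup.iff_card.mp hQr
      have hidxE : ¬ r ∣ ((Q : Subgroup ↥Ks).map Ks.subtype).relIndex Es := by
        intro h
        apply hidx
        rw [← Subgroup.relIndex_mul_relIndex _ Es Ms hQE hEsM]
        exact Dvd.dvd.mul_right h _
      have hc := Cfsg.Agent.Helper35.card_mul_relIndex_of_le hQE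
      have hrel0 : ((Q : Subgroup ↥Ks).map Ks.subtype).relIndex Es ≠ 0 := by
        intro h0
        rw [h0, mul_zero] at hc
        exact Nat.card_pos.ne' hc.symm
      rw [hj, ← hc, hj, Nat.factorization_mul (pow_pos hr.pos j).ne' hrel0,
        Nat.Prime.factorization_pow hr, Finsupp.add_apply, Finsupp.single_eq_same,
        Nat.factorization_eq_zero_of_not_dvd hidxE, add_zero]
    · obtain ⟨R, hR, hPR⟩ := bg14_exists_invariant_sylow_comm hPE hcopP (Or.inr hsolvN) r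
      exact ⟨R, hR, (Cfsg.Agent.Helper22.bg14d_sylow_le_comm hG hZ hMs hEs hp1 hpκ hPE hP hD hr
        hrκ hR.1 (Cfsg.Agent.Helper35.isPGroup_of_mem_sylowSet hR) hPR).trans le_sup_left⟩
  have hle : Es ≤ ⁅Es, Es⁆ ⊔ Ks := Cfsg.Agent.Helper22.bg11_le_of_sylows hsyl
  intro Y hYK hY
  refine bg14_u1g hG (K₀ := Ks) hMs hEs hKsE ?_ hY rfl (by rw [← hKst]; exact hYK)
  intro e he
  obtain ⟨a, ha, k, hk, rfl⟩ := Cfsg.Agent.Helper35.exists_mul_of_mem_sup_of_le_normalizer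
    (hKsE.trans (bg14_le_normalizer_comm Es)) (hle he)
  exact ⟨a, Subgroup.mem_inf.mpr ⟨hNE ha, hcomm_le ha⟩, k, hk, rfl⟩

end Cfsg.Agent.Helper23
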