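/-
helper23: B&G Theorem 14.7 for a pair `(M, M*)` (rows S1368, S1434, and S1369 modulo S1351):
`M ∩ M* = K K*`, `K*` is cyclic (without S1351: a Frobenius-type argument when `K*` is not a
complement of `M*_σ`, Theorem 14.2(c) when `U ≠ 1`, and the count of 14.7 otherwise), the
centralizers, the count of the conjugates of `Zhat`, and conjugacy of the maximal subgroups
"of type P".  Assembly of CALL BGP (pieces by helpers 34 47 54 59 61 69 86 93).
-/
import Cfsg.Agent.Helper23.BG14U1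
import Cfsg.Agent.Helper23.BG14Zhat
import Cfsg.Agent.Helper23.BG14Star
import Cfsg.Agent.Helper54.BG14T5
import Cfsg.Agent.Helper50.BG14SET1
import Cfsg.Agent.Helper22.BG14Main
import Cfsg.Agent.Helper72.BG13NB8
import Cfsg.Agent.Helper1.BGUniqA
import Cfsg.Agent.Helper2.KWConf1
import Cfsg.Agent.Helper62.BG72B
import Cfsg.Agent.S1367
import Cfsg.Agent.S1370
import Cfsg.Agent.S1372
import Cfsg.Agent.S1377
import Cfsg.Agent.S1420
import Cfsg.Agent.S1425
import Cfsg.Agent.S1352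
import Cfsg.Agent.Helper47.BGPPD
import Cfsg.Agent.Helper54.BGPDJ
import Cfsg.Agent.Helper54.BGPHS
import Cfsg.Agent.Helper54.BGPZM
import Cfsg.Agent.Helper59.BGPTC
import Cfsg.Agent.Helper59.BGPUC
import Cfsg.Agent.Helper59.BGPZF
import Cfsg.Agent.Helper59.BGPZK
import Cfsg.Agent.Helper61.BGPSY
import Cfsg.Agent.Helper69.BGPAR
import Cfsg.Agent.Helper69.BGPCS
import Cfsg.Agent.Helper69.BGPZH
import Cfsg.Agent.Helper86.BGPCA
import Cfsg.Agent.Helper86.BGPCZ
import Cfsg.Agent.Helper86.BGPHI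
import Cfsg.Agent.Helper86.BGPPW
import Cfsg.Agent.Helper86.BGPUB3
import Cfsg.Agent.Helper93.BGPAR2
import Cfsg.Agent.Helper93.BGPZC

set_option autoImplicit false

namespace Cfsg.Agent.Helper23

open Cfsg Subgroup

universe u

variable {G : Type u} [Group G] [Finite G]

/-! ## Assembly (helper23) -/

/-- CE. Centralizers of elements of `Ks` in a complement `E ⊇ Ks` of `M*_σ` lie in `Ks`. -/
theorem bgp_cent_compl {M Mstar K Ks E : Subgroup G} (hinter : M ⊓ Mstar = K ⊔ Ks)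
    (hKsC : Ks ≤ centralizer (K : Set G)) (hKσ : K ≤ sigmaCore Mstar)
    (hE : IsComplIn E (sigmaCore Mstar) Mstar) (hKsE : Ks ≤ E)
    (hu : ∀ y ∈ Ks, y ≠ 1 → centralizer ({y} : Set G) ≤ M) :
    ∀ y ∈ Ks, y ≠ 1 → E ⊓ centralizer ({y} : Set G) ≤ Ks := by
  intro y hy hy1 c hc
  have hcM : c ∈ M := hu y hy hy1 hc.2
  have hcMs : c ∈ Mstar := hE.1 hc.1
  have hcZ : c ∈ K ⊔ Ks := by rw [← hinter]; exact Subgroup.mem_inf.mpr ⟨hcM, hcMs⟩
  have hKsN : Ks ≤ normalizer (K : Set G) := hKsC.trans (Subgroup.centralizer_le_normalizer _)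
  obtain ⟨k, hk, s, hs, rfl⟩ := Helper35.exists_mul_of_mem_sup_of_le_normalizer hKsN hcZ
  have hkE : k ∈ E := by
    have h1 := E.mul_mem hc.1 (E.inv_mem (hKsE hs))
    have h2 : k * s * s⁻¹ = k := by group
    rwa [h2] at h1
  have hk1 : k ∈ E ⊓ sigmaCore Mstar := Subgroup.mem_inf.mpr ⟨hkE, hKσ hk⟩
  rw [hE.2.2.1, mem_bot] at hk1
  rw [hk1, one_mul]
  exact hs

/-- K1. `κ(M) = τ₁(M)` for a standard factorisation with `K ≠ 1`. -/
theorem bgp_kappa_eq_tau1 (hG : IsMinSimpleOddOrder G) {M K U : Subgroup G} (hM : IsCoatom M)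
    (hKU : IsSigmaDecomposition M K U) (hK1 : K ≠ ⊥) : kappa M = tau1 M := by
  obtain ⟨-, hcop, hprod, -, -, -⟩ := bg14_pkg hG hM hKU hK1
  have hKM : K ≤ M := hKU.hall.1
  have hM'M : ⁅M, M⁆ ≤ M := Subgroup.commutator_le.mpr fun a ha b hb =>
    M.mul_mem (M.mul_mem (M.mul_mem ha hb) (M.inv_mem ha)) (M.inv_mem hb)
  ext p
  constructor
  · intro hp
    have hpp : p.Prime := hp.1
    refine ⟨hpp, hp.2.2.1, hp.2.1, ?_, Helper47.bg14_rank_of_kappa hp⟩
    intro hd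
    exact Helper22.bg14_kappa_not_tau3 hG (bg14_sigmaPart hG) hM hKU.cyclic hKU.hall hp
      ⟨hpp, hp.2.2.1, hd, Helper47.bg14_rank_of_kappa hp⟩
  · intro hp
    obtain ⟨hpp, hpσ, hpM, hpM', hrank⟩ := hp
    apply hKU.hall.2.1 p hpp
    have hsup : K ⊔ ⁅M, M⁆ = M := by
      apply le_antisymm (sup_le hKM hM'M)
      intro m hm
      obtain ⟨w, hw, k, hk, rfl⟩ := hprod m hm
      exact mul_mem (mem_sup_right hw) (mem_sup_left hk)
    have hcard : Nat.card M = Nat.card K * Nat.card ↥⁅M, M⁆ :=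
      Helper86.bgp_card_sup hsup (Subgroup.disjoint_of_coprime_natCard hcop).eq_bot
        (hKM.trans (bg14_le_normalizer_comm M))
    rw [hcard] at hpM
    exact ((Nat.Prime.dvd_mul hpp).mp hpM).resolve_right hpM'


/-- NC. `M*` is not conjugate to `M`. -/
theorem bgp_not_conj {M K Mstar : Subgroup G}
    (hKκ : ∀ p : ℕ, p.Prime → p ∣ Nat.card K → p ∈ kappa M) (hK1 : K ≠ ⊥)
    (hKσ : K ≤ sigmaCore Mstar) : ∀ g : G, Mstar ≠ M.map (MulAut.conj g).toMonoidHom := by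
  intro g hg
  have hcard : Nat.card K ≠ 1 := fun h => hK1 (Subgroup.card_eq_one.mp h)
  obtain ⟨p, hp, hpd⟩ := Nat.exists_prime_and_dvd hcard
  have hpκ := hKκ p hp hpd
  have := Fact.mk hp
  obtain ⟨x, hx⟩ := exists_prime_orderOf_dvd_card' p hpd
  have hxσ : (x : G) ∈ sigmaCore Mstar := hKσ x.2
  have hps : p ∈ sigma Mstar :=
    Helper54.bg14t_mem_sigma_of_dvd hxσ hp (by rw [Subgroup.orderOf_coe, hx])
  rw [hg, Helper54.bg14t_sigma_conj] at hps
  exact hpκ.2.2.1 hps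

/-- SD. `σ(M) ∩ σ(M*) = ∅`. -/
theorem bgp_sigma_disj (hG : IsMinSimpleOddOrder G) {M Mstar : Subgroup G} (hM : IsCoatom M)
    (hMstar : IsCoatom Mstar) (hnc : ∀ g : G, Mstar ≠ M.map (MulAut.conj g).toMonoidHom) :
    ∀ p : ℕ, p ∈ sigma M → p ∉ sigma Mstar := by
  intro p hp hps
  obtain ⟨g, hg⟩ := bg14_sigmaPart hG M Mstar hM hMstar ⟨p, hp, hps⟩
  exact hnc g hg

/-- An element of `M_σ ∩ M*_σ` is trivial. -/
theorem bgp_sigma_inter {M Mstar : Subgroup G}
    (hdisj : ∀ p : ℕ, p ∈ sigma M → p ∉ sigma Mstar) {c : G} (h1 : c ∈ sigmaCore M)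
    (h2 : c ∈ sigmaCore Mstar) : c = 1 := by
  by_contra hc
  have hn1 : orderOf c ≠ 1 := fun h => hc (orderOf_eq_one_iff.mp h)
  have hq := Nat.minFac_prime hn1
  have hqd := Nat.minFac_dvd (orderOf c)
  exact hdisj _ (Helper54.bg14t_mem_sigma_of_dvd h1 hq hqd)
    (Helper54.bg14t_mem_sigma_of_dvd h2 hq hqd)

/-- (1) `M ∩ M* = K K*`. -/
theorem bgp_inter (hG : IsMinSimpleOddOrder G) {M K U Mstar Ks : Subgroup G} (hM : IsCoatom M)
    (hKU : IsSigmaDecomposition M K U) (hK1 : K ≠ ⊥) (hMstar : IsCoatom Mstar)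
    (hKs : Ks = sigmaCore M ⊓ centralizer (K : Set G))
    (hKst : K = sigmaCore Mstar ⊓ centralizer (Ks : Set G))
    (hKstH : IsPiHallOf (kappa Mstar) Ks Mstar) : M ⊓ Mstar = K ⊔ Ks := by
  obtain ⟨h65, hcop, -, -, hcent, -⟩ := bg14_pkg hG hM hKU hK1
  rw [← hKs] at hcent
  have hKM : K ≤ M := hKU.hall.1
  have hKσs : K ≤ sigmaCore Mstar := hKst.le.trans inf_le_left
  have hσsMs : sigmaCore Mstar ≤ Mstar := Subgroup.map_subtype_le _
  have hσM : sigmaCore M ≤ M := Subgroup.map_subtype_le _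
  have hKsσ : Ks ≤ sigmaCore M := hKs.le.trans inf_le_left
  have hnc := bgp_not_conj hKU.hall.2.1 hK1 hKσs
  have hdisj := bgp_sigma_disj hG hM hMstar hnc
  have hNσ : M ≤ normalizer (sigmaCore M : Set G) := le_normalizer_piCoreOf (sigma M) M
  have hNσs : Mstar ≤ normalizer (sigmaCore Mstar : Set G) :=
    le_normalizer_piCoreOf (sigma Mstar) Mstar
  -- `A := M*_σ ∩ M` centralizes `B := M_σ ∩ M*`
  have hAB : ∀ a ∈ sigmaCore Mstar ⊓ M, ∀ b ∈ sigmaCore M ⊓ Mstar, a * b = b * a := by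
    intro a ha b hb
    have h1 : a * b * a⁻¹ * b⁻¹ ∈ sigmaCore Mstar := by
      have h2 : b * a⁻¹ * b⁻¹ ∈ sigmaCore Mstar :=
        (mem_normalizer_iff.mp (hNσs hb.2) a⁻¹).mp (inv_mem ha.1)
      have h3 := mul_mem ha.1 h2
      have h4 : a * (b * a⁻¹ * b⁻¹) = a * b * a⁻¹ * b⁻¹ := by group
      rwa [h4] at h3
    have h2 : a * b * a⁻¹ * b⁻¹ ∈ sigmaCore M := by
      have h3 : a * b * a⁻¹ ∈ sigmaCore M := (mem_normalizer_iff.mp (hNσ ha.2) b).mp hb.1
      exact mul_mem h3 (inv_mem hb.1)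
    have h3 := bgp_sigma_inter hdisj h2 h1
    calc a * b = (a * b * a⁻¹ * b⁻¹) * (b * a) := by group
      _ = b * a := by rw [h3, one_mul]
  have hAK : sigmaCore Mstar ⊓ M ≤ K := by
    intro a ha
    rw [hKst]
    refine Subgroup.mem_inf.mpr ⟨ha.1, ?_⟩
    rw [mem_centralizer_iff]
    intro b hb
    exact (hAB a ha b ⟨hKsσ hb, hKstH.1 hb⟩).symm
  apply le_antisymm
  · intro d hd
    obtain ⟨hdM, hdMs⟩ := hd
    obtain ⟨k₀, hk₀, hk₀1⟩ : ∃ k₀ ∈ K, k₀ ≠ 1 := by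
      by_contra h
      push Not at h
      exact hK1 ((Subgroup.eq_bot_iff_forall K).mpr h)
    have hcomm : ∀ k ∈ K, d * k = k * d := by
      intro k hk
      have h1 : d * k * d⁻¹ ∈ K := by
        apply hAK
        exact Subgroup.mem_inf.mpr ⟨(mem_normalizer_iff.mp (hNσs hdMs) k).mp (hKσs hk),
          M.mul_mem (M.mul_mem hdM (hKM hk)) (M.inv_mem hdM)⟩
      have h2 : d * k * d⁻¹ * k⁻¹ ∈ K ⊓ ⁅M, M⁆ := by
        refine Subgroup.mem_inf.mpr ⟨K.mul_mem h1 (K.inv_mem hk), ?_⟩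
        have h3 := Subgroup.commutator_mem_commutator hdM (hKM hk)
        rwa [commutatorElement_def] at h3
      rw [(Subgroup.disjoint_of_coprime_natCard hcop).eq_bot, mem_bot] at h2
      calc d * k = (d * k * d⁻¹ * k⁻¹) * (k * d) := by group
        _ = k * d := by rw [h2, one_mul]
    rw [← hcent k₀ hk₀ hk₀1]
    refine Subgroup.mem_inf.mpr ⟨hdM, ?_⟩
    rw [mem_centralizer_iff]
    intro z hz
    rw [Set.mem_singleton_iff] at hz
    subst hz
    exact (hcomm z hk₀).symm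
  · exact sup_le (le_inf hKM (hKσs.trans hσsMs)) (le_inf (hKsσ.trans hσM) hKstH.1)

/-- (3) the `β`-case. -/
theorem bgp_beta (hG : IsMinSimpleOddOrder G) {Mstar Ks E : Subgroup G} (hMstar : IsCoatom Mstar)
    (hE : IsComplIn E (sigmaCore Mstar) Mstar) (hKsE : Ks ≤ E)
    (hKsH : IsPiHallOf (kappa Mstar) Ks Mstar)
    (hcent : ∀ y ∈ Ks, y ≠ 1 → E ⊓ centralizer ({y} : Set G) ≤ Ks) (hne : Ks ≠ E) :
    IsCyclic Ks := by
  have hS := Helper61.bgp_sylow_cyclic hKsH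
  apply Helper93.bgp_cyclic_of_central Ks hS
  by_cases hbot : ⁅Ks, Ks⁆ = ⊥
  · intro y _ a ha
    rw [hbot, mem_bot] at ha
    rw [ha, mul_one, one_mul]
  obtain ⟨a₀, ha₀, ha₀1⟩ : ∃ a₀ ∈ ⁅Ks, Ks⁆, a₀ ≠ 1 := by
    by_contra h
    push Not at h
    exact hbot ((Subgroup.eq_bot_iff_forall _).mpr h)
  have hKs'Ks : ⁅Ks, Ks⁆ ≤ Ks := Subgroup.commutator_le.mpr fun a ha b hb =>
    Ks.mul_mem (Ks.mul_mem (Ks.mul_mem ha hb) (Ks.inv_mem ha)) (Ks.inv_mem hb)
  have hE'E : ⁅E, E⁆ ≤ E := Subgroup.commutator_le.mpr fun a ha b hb =>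
    E.mul_mem (E.mul_mem (E.mul_mem ha hb) (E.inv_mem ha)) (E.inv_mem hb)
  have hE'ab : IsMulCommutative ↥⁅E, E⁆ := (Cfsg.Agent.S1420.result hG Mstar hMstar E hE).2.1
  have ha₀E' : a₀ ∈ ⁅E, E⁆ := Subgroup.commutator_mono hKsE hKsE ha₀
  have hE'Ks : ⁅E, E⁆ ≤ Ks := by
    intro c hc
    have hcomm : a₀ * c = c * a₀ := by
      have h := hE'ab.is_comm.comm (⟨a₀, ha₀E'⟩ : ↥⁅E, E⁆) ⟨c, hc⟩
      exact congrArg Subtype.val h
    refine hcent a₀ (hKs'Ks ha₀) ha₀1 (Subgroup.mem_inf.mpr ⟨hE'E hc, ?_⟩)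
    rw [mem_centralizer_iff]
    intro z hz
    rw [Set.mem_singleton_iff] at hz
    subst hz
    exact hcomm
  have hEN : E ≤ normalizer (Ks : Set G) := by
    intro e he
    rw [mem_normalizer_iff]
    intro h
    constructor
    · intro hh
      have h1 : e * h * e⁻¹ * h⁻¹ ∈ ⁅E, E⁆ := by
        have h3 := Subgroup.commutator_mem_commutator he (hKsE hh)
        rwa [commutatorElement_def] at h3
      have h2 := Ks.mul_mem (hE'Ks h1) hh
      have h3 : e * h * e⁻¹ * h⁻¹ * h = e * h * e⁻¹ := by group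
      rwa [h3] at h2
    · intro hh
      have he' : e⁻¹ ∈ E := E.inv_mem he
      have h1 : e⁻¹ * (e * h * e⁻¹) * e⁻¹⁻¹ * (e * h * e⁻¹)⁻¹ ∈ ⁅E, E⁆ := by
        have h3 := Subgroup.commutator_mem_commutator he' (hKsE hh)
        rwa [commutatorElement_def] at h3
      have h2 := Ks.mul_mem (hE'Ks h1) hh
      have h3 : e⁻¹ * (e * h * e⁻¹) * e⁻¹⁻¹ * (e * h * e⁻¹)⁻¹ * (e * h * e⁻¹) = h := by group
      rwa [h3] at h2
  have hrel : Ks.relIndex E ≠ 1 := by
    intro h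
    exact hne (le_antisymm hKsE (Subgroup.relIndex_eq_one.mp h))
  obtain ⟨r, hr, hrd⟩ := Nat.exists_prime_and_dvd hrel
  have := Fact.mk hr
  have hrκ : r ∉ kappa Mstar := by
    intro h
    apply hKsH.2.2 r hr h
    rw [← Subgroup.relIndex_mul_relIndex Ks E Mstar hKsE hE.1]
    exact Dvd.dvd.mul_right hrd _
  have hrKs : ¬ r ∣ Nat.card Ks := fun h => hrκ (hKsH.2.1 r hr h)
  have hrE : r ∣ Nat.card E := hrd.trans (Subgroup.relIndex_dvd_card Ks E)
  obtain ⟨v, hv⟩ := exists_prime_orderOf_dvd_card' r hrE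
  have hvE : (v : G) ∈ E := v.2
  have hvo : orderOf (v : G) = r := by rw [Subgroup.orderOf_coe, hv]
  have hfpf : ∀ y ∈ Ks, (v : G) * y = y * v → y = 1 := by
    intro y hy hvy
    by_contra hy1
    have hvKs : (v : G) ∈ Ks := by
      refine hcent y hy hy1 (Subgroup.mem_inf.mpr ⟨hvE, ?_⟩)
      rw [mem_centralizer_iff]
      intro z hz
      rw [Set.mem_singleton_iff] at hz
      subst hz
      exact hvy.symm
    apply hrKs
    rw [← hvo]
    exact Subgroup.orderOf_dvd_natCard Ks hvKs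
  exact Helper59.bgp_zfpf Ks v (hEN hvE) hfpf (Helper59.bgp_comm_cyclic Ks hS)

/-- (4a) the `α`-case with `U ≠ 1`. -/
theorem bgp_alpha (hG : IsMinSimpleOddOrder G) {M K U Ks : Subgroup G} (hM : IsCoatom M)
    (hKU : IsSigmaDecomposition M K U) (hK1 : K ≠ ⊥) (hU1 : U ≠ ⊥) (hKsσ : Ks ≤ sigmaCore M)
    (hS : ∀ (p : ℕ) [Fact p.Prime] (P : Sylow p Ks), IsCyclic P) : IsCyclic Ks := by
  have h72 := (Cfsg.Agent.S1372.result hG M hM K U hKU hK1 hU1).2.2
  have hnil : Group.IsNilpotent ↥(fittingOf M) := Helper1.bgu_fittingOf_isNilpotent M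
  have hKsnil : Group.IsNilpotent ↥Ks := Helper2.kw_nilpotent_of_le hnil (hKsσ.trans h72)
  haveI : IsZGroup ↥Ks := ⟨fun p hp P => by haveI := Fact.mk hp; exact hS p P⟩
  infer_instance

/-- `2 ≤ |K|` for a nontrivial subgroup. -/
theorem bgp_two_le_card {K : Subgroup G} (hK1 : K ≠ ⊥) : 2 ≤ Nat.card K := by
  have h1 : Nat.card K ≠ 1 := fun h => hK1 (Subgroup.card_eq_one.mp h)
  have h0 : 0 < Nat.card K := Nat.card_pos
  omega

/-- FC. The number of conjugates of elements of `Zhat`. -/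
theorem bgp_T_card {K Ks : Subgroup G} (hc : Ks ≤ centralizer (K : Set G))
    (hcop : (Nat.card K).Coprime (Nat.card Ks)) (hK1 : K ≠ ⊥) (hKs1 : Ks ≠ ⊥)
    (hTI : IsTISubset ((↑(K ⊔ Ks) : Set G) \ ((K : Set G) ∪ ↑Ks)))
    (hN : normalizer ((↑(K ⊔ Ks) : Set G) \ ((K : Set G) ∪ ↑Ks)) = K ⊔ Ks) :
    Nat.card K * Nat.card Ks * Set.ncard {a : G | ∃ g : G,
        ∃ z ∈ ((↑(K ⊔ Ks) : Set G) \ ((K : Set G) ∪ ↑Ks)), a = g * z * g⁻¹} =
      (Nat.card K * Nat.card Ks - Nat.card K - Nat.card Ks + 1) * Nat.card G := by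
  obtain ⟨h1, h2⟩ := Helper69.bgp_zhat_card K Ks hc hcop
  have h3 := Helper59.bgp_ti_count _ (K ⊔ Ks) hTI hN (fun h => h.2 (Or.inl K.one_mem))
  rw [h2] at h3
  have hk := bgp_two_le_card hK1
  have hks := bgp_two_le_card hKs1
  have h5 : Nat.card K + Nat.card Ks ≤ Nat.card K * Nat.card Ks := by nlinarith
  have h4 : Set.ncard ((↑(K ⊔ Ks) : Set G) \ ((K : Set G) ∪ ↑Ks)) =
      Nat.card K * Nat.card Ks - Nat.card K - Nat.card Ks + 1 := by omega
  rw [← h4, ← h3]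
  ring

/-- (4b) the count: `M = K M_σ` and `M* = K* M*_σ` cannot both hold. -/
theorem bgp_count (hG : IsMinSimpleOddOrder G) {M K U Mstar : Subgroup G} (hM : IsCoatom M)
    (hKU : IsSigmaDecomposition M K U) (hK1 : K ≠ ⊥) (hMstar : IsCoatom Mstar)
    (hKst : K = sigmaCore Mstar ⊓
      centralizer ((sigmaCore M ⊓ centralizer (K : Set G) : Subgroup G) : Set G))
    (hKstH : IsPiHallOf (kappa Mstar) (sigmaCore M ⊓ centralizer (K : Set G)) Mstar)
    (hP1 : K ⊔ sigmaCore M = M)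
    (hP1s : (sigmaCore M ⊓ centralizer (K : Set G)) ⊔ sigmaCore Mstar = Mstar) : False := by
  obtain ⟨h65, hcopM', -, hKs1, hcent, hu1⟩ := bg14_pkg hG hM hKU hK1
  obtain ⟨hTI, hN⟩ := Cfsg.Agent.S1370.result hG M hM K U hKU hK1
  obtain ⟨h67a, h67b⟩ := Cfsg.Agent.S1367.result hG M hM K U hKU hK1 Mstar hMstar hKst hKstH
  obtain ⟨Ks, hKs⟩ : ∃ Ks : Subgroup G, Ks = sigmaCore M ⊓ centralizer (K : Set G) := ⟨_, rfl⟩
  rw [← hKs] at hKst hKstH hP1s hKs1 hcent hu1 hTI hN h67a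
  have hKM : K ≤ M := hKU.hall.1
  have hσM : sigmaCore M ≤ M := Subgroup.map_subtype_le _
  have hσsMs : sigmaCore Mstar ≤ Mstar := Subgroup.map_subtype_le _
  have hKσs : K ≤ sigmaCore Mstar := hKst.le.trans inf_le_left
  have hKsσ : Ks ≤ sigmaCore M := hKs.le.trans inf_le_left
  have hKsC : Ks ≤ centralizer (K : Set G) := hKs.le.trans inf_le_right
  have hnc := bgp_not_conj hKU.hall.2.1 hK1 hKσs
  have hdisj := bgp_sigma_disj hG hM hMstar hnc
  have hσM' : sigmaCore M ≤ ⁅M, M⁆ := by rw [h65]; exact le_sup_right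
  have hcopσ : (Nat.card K).Coprime (Nat.card (sigmaCore M)) :=
    Nat.Coprime.coprime_dvd_right (Subgroup.card_dvd_of_le hσM') hcopM'
  have hcop : (Nat.card K).Coprime (Nat.card Ks) :=
    Nat.Coprime.coprime_dvd_right (Subgroup.card_dvd_of_le hKsσ) hcopσ
  have huM : ∀ y ∈ Ks, y ≠ 1 → centralizer ({y} : Set G) ≤ M :=
    Helper59.bgp_cent_of_prime (fun Y hY hYp => (h67a Y hY hYp).1)
  have huMs : ∀ k ∈ K, k ≠ 1 → centralizer ({k} : Set G) ≤ Mstar :=
    Helper59.bgp_cent_of_prime (fun Y hY hYp => (h67b Y hY hYp).1)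
  -- the three sets
  obtain ⟨T, hT⟩ : ∃ T : Set G, T = {a : G | ∃ g : G,
      ∃ z ∈ ((↑(K ⊔ Ks) : Set G) \ ((K : Set G) ∪ ↑Ks)), a = g * z * g⁻¹} := ⟨_, rfl⟩
  have hTA : Disjoint T (tildeOf M ((sigmaCore M : Set G) \ {1})) := by
    rw [Set.disjoint_left, hT]
    rintro a ⟨g, z, hz, rfl⟩ haA
    obtain ⟨k, hk, y, hy, hk1, hy1, rfl, hky⟩ := bg14_zhat_decomp hKsC hz
    rw [hky] at haA
    refine Helper54.bgp_tilde_disj hG hM (hKsσ hy) hy1 (huM y hy hy1) (show Commute y k from hky.symm)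
      hk1 ?_ haA
    intro q hq hqd hqσ
    exact (hKU.hall.2.1 q hq (hqd.trans (Subgroup.orderOf_dvd_natCard K hk))).2.2.1 hqσ
  have hTB : Disjoint T (tildeOf Mstar ((sigmaCore Mstar : Set G) \ {1})) := by
    rw [Set.disjoint_left, hT]
    rintro a ⟨g, z, hz, rfl⟩ haB
    obtain ⟨k, hk, y, hy, hk1, hy1, rfl, hky⟩ := bg14_zhat_decomp hKsC hz
    refine Helper54.bgp_tilde_disj hG hMstar (hKσs hk) hk1 (huMs k hk hk1) (show Commute k y from hky)
      hy1 ?_ haB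
    intro q hq hqd hqσ
    exact hdisj q (Helper54.bg14t_mem_sigma_of_dvd (hKsσ hy) hq hqd) hqσ
  have hAB : Disjoint (tildeOf M ((sigmaCore M : Set G) \ {1}))
      (tildeOf Mstar ((sigmaCore Mstar : Set G) \ {1})) := by
    rw [Set.disjoint_iff_inter_eq_empty]
    exact Helper54.bg14t_tilde_disjoint hG hM hMstar hnc
  have h1T : (1 : G) ∉ T := by
    rw [hT]
    rintro ⟨g, z, hz, h⟩
    have hz1 : z = 1 := by
      have h2 : g⁻¹ * (g * z * g⁻¹) * g = z := by group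
      rw [← h2, ← h]
      group
    exact hz.2 (Or.inl (hz1 ▸ K.one_mem))
  have h1A : ∀ {N : Subgroup G}, IsCoatom N →
      (1 : G) ∉ tildeOf N ((sigmaCore N : Set G) \ {1}) := by
    intro N hN h
    obtain ⟨x, ρ, g₀, hx1, -, -, -, -, -, hxz, -⟩ := Helper54.bg14t_tilde_parts hG hN h
    rw [Subgroup.zpowers_one_eq_bot, Subgroup.mem_bot] at hxz
    exact hx1 hxz
  have hsum := Helper86.bgp_union3 T _ _ hTA hTB hAB h1T (h1A hM) (h1A hMstar)
  -- cardinalities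
  have hKσbot : K ⊓ sigmaCore M = ⊥ := (Subgroup.disjoint_of_coprime_natCard hcopσ).eq_bot
  have hKsσsbot : Ks ⊓ sigmaCore Mstar = ⊥ := by
    rw [eq_bot_iff]
    intro c hc
    rw [mem_bot]
    exact bgp_sigma_inter hdisj (hKsσ hc.1) hc.2
  have hcardM : Nat.card M = Nat.card K * Nat.card (sigmaCore M) :=
    Helper86.bgp_card_sup hP1 hKσbot (hKM.trans (le_normalizer_piCoreOf (sigma M) M))
  have hcardMs : Nat.card Mstar = Nat.card Ks * Nat.card (sigmaCore Mstar) :=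
    Helper86.bgp_card_sup hP1s hKsσsbot (hKstH.1.trans (le_normalizer_piCoreOf (sigma Mstar) Mstar))
  have hTc := bgp_T_card hKsC hcop hK1 hKs1 hTI hN
  rw [← hT] at hTc
  have hAc := Cfsg.Agent.S1377.result hG M hM
  have hBc := Cfsg.Agent.S1377.result hG Mstar hMstar
  have hM1 : M.map (MulAut.conj (1 : G)).toMonoidHom = M := by
    ext x
    simp
  -- `K* ≠ M_σ`
  have hne1 : Ks ≠ sigmaCore M := by
    intro h
    obtain ⟨p, hp, hpd⟩ := Nat.exists_prime_and_dvd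
      (fun h => hK1 (Subgroup.card_eq_one.mp h) : Nat.card K ≠ 1)
    have := Fact.mk hp
    obtain ⟨x, hx⟩ := exists_prime_orderOf_dvd_card' p hpd
    have hxo : orderOf (x : G) = p := by rw [Subgroup.orderOf_coe, hx]
    have hX : zpowers (x : G) ≤ K := by
      rw [Subgroup.zpowers_le]
      exact x.2
    have hXc : Nat.card (zpowers (x : G)) = p := by rw [Nat.card_zpowers, hxo]
    have hC := (h67b _ hX (by rw [hXc]; exact hp)).1
    have hKc : ∀ a ∈ K, ∀ b ∈ K, a * b = b * a := by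
      intro a ha b hb
      haveI := hKU.cyclic
      have h2 := (inferInstance : IsMulCommutative ↥K).is_comm.comm ⟨a, ha⟩ ⟨b, hb⟩
      exact congrArg Subtype.val h2
    have hMle : M ≤ Mstar := by
      rw [← hP1]
      refine sup_le ?_ ?_
      · intro a ha
        apply hC
        rw [mem_centralizer_iff]
        intro b hb
        exact hKc b (hX hb) a ha
      · rw [← h]
        exact hKsC.trans ((Subgroup.centralizer_le (show ((zpowers (x : G) : Subgroup G) : Set G) ⊆ K from hX)).trans hC)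
    have h3 := uq_eq_of_coatom_le hM hMstar.1 hMle
    exact hnc 1 (by rw [hM1]; exact h3)
  -- `K ≠ M*_σ`
  have hne2 : K ≠ sigmaCore Mstar := by
    intro h
    have hMle : Mstar ≤ M := by
      rw [← hP1s, ← h]
      exact sup_le (hKsσ.trans hσM) hKM
    have h3 := uq_eq_of_coatom_le hMstar hM.1 hMle
    exact hnc 1 (by rw [hM1]; exact h3.symm)
  have hdv : ∀ {A B : Subgroup G}, A ≤ B → A ≠ B → 2 * Nat.card A ≤ Nat.card B := by
    intro A B hAB hne
    obtain ⟨c, hc⟩ := Subgroup.card_dvd_of_le hAB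
    have hA0 : 0 < Nat.card A := Nat.card_pos
    have hB0 : 0 < Nat.card B := Nat.card_pos
    have hc1 : c ≠ 1 := by
      intro h1
      rw [h1, mul_one] at hc
      exact hne (Subgroup.eq_of_le_of_card_ge hAB hc.le)
    have hc0 : c ≠ 0 := by
      intro h0
      rw [h0, mul_zero] at hc
      omega
    have hc2 : 2 ≤ c := by omega
    rw [hc]
    nlinarith
  exact Helper69.bgp_count_arith (g := Nat.card G) (k := Nat.card K) (ks := Nat.card Ks)
    (m := Nat.card (sigmaCore M)) (ms := Nat.card (sigmaCore Mstar)) (i₁ := M.index)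
    (i₂ := Mstar.index) (bgp_two_le_card hK1) (bgp_two_le_card hKs1)
    (by rw [← hcardM, Subgroup.card_mul_index]) (by rw [← hcardMs, Subgroup.card_mul_index])
    hTc hAc hBc (hdv hKsσ hne1) (hdv hKσs hne2) (by omega)

/-- `K*` is cyclic. -/
theorem bgp_Ks_cyclic (hG : IsMinSimpleOddOrder G) {M K U Mstar : Subgroup G} (hM : IsCoatom M)
    (hKU : IsSigmaDecomposition M K U) (hK1 : K ≠ ⊥) (hMstar : IsCoatom Mstar)
    (hKst : K = sigmaCore Mstar ⊓
      centralizer ((sigmaCore M ⊓ centralizer (K : Set G) : Subgroup G) : Set G))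
    (hKstH : IsPiHallOf (kappa Mstar) (sigmaCore M ⊓ centralizer (K : Set G)) Mstar) :
    IsCyclic ↥(sigmaCore M ⊓ centralizer (K : Set G)) := by
  have hinter := bgp_inter hG hM hKU hK1 hMstar rfl hKst hKstH
  have hS := Helper61.bgp_sylow_cyclic hKstH
  obtain ⟨E, hE, hKsE⟩ := Helper50.bg14_exists_compl hG hMstar hKstH
  by_cases hne : sigmaCore M ⊓ centralizer (K : Set G) = E
  · have hP1s : (sigmaCore M ⊓ centralizer (K : Set G)) ⊔ sigmaCore Mstar = Mstar := by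
      rw [hne]
      apply le_antisymm (sup_le hE.1 hE.2.1)
      intro m hm
      obtain ⟨a, ha, b, hb, rfl⟩ := hE.2.2.2 m hm
      exact mul_mem (mem_sup_left ha) (mem_sup_right hb)
    by_cases hU : U = ⊥
    · exfalso
      have hP1 : K ⊔ sigmaCore M = M := by
        have hc := hKU.compl
        rw [hU] at hc
        apply le_antisymm hc.2.1
        intro m hm
        obtain ⟨a, ha, b, hb, rfl⟩ := hc.2.2.2 m hm
        rw [mem_bot] at ha
        rw [ha, one_mul]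
        exact hb
      exact bgp_count hG hM hKU hK1 hMstar hKst hKstH hP1 hP1s
    · exact bgp_alpha hG hM hKU hK1 hU inf_le_left hS
  · obtain ⟨h67a, -⟩ :=
      Cfsg.Agent.S1367.result hG M hM K U hKU hK1 Mstar hMstar hKst hKstH
    have huM : ∀ y ∈ sigmaCore M ⊓ centralizer (K : Set G), y ≠ 1 →
        centralizer ({y} : Set G) ≤ M :=
      Helper59.bgp_cent_of_prime (fun Y hY hYp => (h67a Y hY hYp).1)
    exact bgp_beta hG hMstar hE hKsE hKstH
      (bgp_cent_compl hinter inf_le_right (hKst.le.trans inf_le_left) hE hKsE huM) hne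

/-- Row S1368. -/
theorem bgp_1368 (hG : IsMinSimpleOddOrder G) (M : Subgroup G) (hM : IsCoatom M)
    (K U : Subgroup G) (hKU : IsSigmaDecomposition M K U) (hK1 : K ≠ ⊥) (Mstar : Subgroup G)
    (hMstar : IsCoatom Mstar)
    (hKst : K = sigmaCore Mstar ⊓
      centralizer ((sigmaCore M ⊓ centralizer (K : Set G) : Subgroup G) : Set G))
    (hKstH : IsPiHallOf (kappa Mstar) (sigmaCore M ⊓ centralizer (K : Set G)) Mstar) :
    M ⊓ Mstar = K ⊔ (sigmaCore M ⊓ centralizer (K : Set G)) ∧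
      IsCyclic ↥(K ⊔ (sigmaCore M ⊓ centralizer (K : Set G))) := by
  obtain ⟨h65, hcopM', -, -, -, -⟩ := bg14_pkg hG hM hKU hK1
  have hσM' : sigmaCore M ≤ ⁅M, M⁆ := by rw [h65]; exact le_sup_right
  have hcop : (Nat.card K).Coprime (Nat.card ↥(sigmaCore M ⊓ centralizer (K : Set G))) :=
    Nat.Coprime.coprime_dvd_right (Subgroup.card_dvd_of_le (inf_le_left.trans hσM')) hcopM'
  exact ⟨bgp_inter hG hM hKU hK1 hMstar rfl hKst hKstH,
    Helper69.bgp_cyclic_sup K _ hKU.cyclic (bgp_Ks_cyclic hG hM hKU hK1 hMstar hKst hKstH) inf_le_right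
      hcop⟩

/-- An odd number `≥ 2` is `≥ 3`. -/
theorem bgp_three_le {K : Subgroup G} (hG : IsMinSimpleOddOrder G) (hK1 : K ≠ ⊥) :
    3 ≤ Nat.card K := by
  have h2 := bgp_two_le_card hK1
  obtain ⟨c, hc⟩ := uq_odd hG K
  omega

/-- More than half of `G` is covered by the conjugates of `Zhat`. -/
theorem bgp_half (hG : IsMinSimpleOddOrder G) {K Ks : Subgroup G}
    (hcop : (Nat.card K).Coprime (Nat.card Ks)) (hK1 : K ≠ ⊥) (hKs1 : Ks ≠ ⊥) {nT : ℕ}
    (hT : Nat.card K * Nat.card Ks * nT =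
      (Nat.card K * Nat.card Ks - Nat.card K - Nat.card Ks + 1) * Nat.card G) :
    Nat.card G < 2 * nT := by
  have hne : Nat.card K ≠ Nat.card Ks := by
    intro h
    rw [h, Nat.coprime_self] at hcop
    exact hKs1 (Subgroup.card_eq_one.mp hcop)
  exact Helper93.bgp_half_arith (bgp_three_le hG hK1) (bgp_three_le hG hKs1) (uq_odd hG K) (uq_odd hG Ks)
    hne Nat.card_pos hT

/-- Row S1434. -/
theorem bgp_1434 (hG : IsMinSimpleOddOrder G) (M : Subgroup G) (hM : IsCoatom M)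
    (K U : Subgroup G) (hKU : IsSigmaDecomposition M K U) (hK1 : K ≠ ⊥) (Mstar : Subgroup G)
    (hMstar : IsCoatom Mstar)
    (hKst : K = sigmaCore Mstar ⊓
      centralizer ((sigmaCore M ⊓ centralizer (K : Set G) : Subgroup G) : Set G))
    (hKstH : IsPiHallOf (kappa Mstar) (sigmaCore M ⊓ centralizer (K : Set G)) Mstar) :
    kappa M = tau1 M ∧ IsPiHallOf (sigma M) (sigmaCore M ⊓ centralizer (K : Set G)) Mstar ∧
      (∀ x ∈ K, x ≠ 1 → ∀ y ∈ (sigmaCore M ⊓ centralizer (K : Set G)), y ≠ 1 →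
        M ⊓ centralizer ({x} : Set G) = K ⊔ (sigmaCore M ⊓ centralizer (K : Set G)) ∧
        Mstar ⊓ centralizer ({y} : Set G) = K ⊔ (sigmaCore M ⊓ centralizer (K : Set G)) ∧
        centralizer ({x * y} : Set G) = K ⊔ (sigmaCore M ⊓ centralizer (K : Set G))) ∧
      (∀ g : G, g ∉ M → ∀ z ∈ ((↑(K ⊔ (sigmaCore M ⊓ centralizer (K : Set G))) : Set G) \
          ((K : Set G) ∪ ↑(sigmaCore M ⊓ centralizer (K : Set G)))),
        z ∉ M.map (MulAut.conj g).toMonoidHom) ∧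
      Nat.card K * Nat.card ↥(sigmaCore M ⊓ centralizer (K : Set G)) *
          Set.ncard {a : G | ∃ g : G,
            ∃ z ∈ ((↑(K ⊔ (sigmaCore M ⊓ centralizer (K : Set G))) : Set G) \
              ((K : Set G) ∪ ↑(sigmaCore M ⊓ centralizer (K : Set G)))), a = g * z * g⁻¹} =
        (Nat.card K * Nat.card ↥(sigmaCore M ⊓ centralizer (K : Set G)) - Nat.card K -
          Nat.card ↥(sigmaCore M ⊓ centralizer (K : Set G)) + 1) * Nat.card G ∧
      Nat.card G < 2 * Set.ncard {a : G | ∃ g : G,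
        ∃ z ∈ ((↑(K ⊔ (sigmaCore M ⊓ centralizer (K : Set G))) : Set G) \
          ((K : Set G) ∪ ↑(sigmaCore M ⊓ centralizer (K : Set G)))), a = g * z * g⁻¹} := by
  obtain ⟨h65, hcopM', -, hKs1, hcent, -⟩ := bg14_pkg hG hM hKU hK1
  obtain ⟨hTI, hN⟩ := Cfsg.Agent.S1370.result hG M hM K U hKU hK1
  obtain ⟨h67a, h67b⟩ := Cfsg.Agent.S1367.result hG M hM K U hKU hK1 Mstar hMstar hKst hKstH
  have hinter := bgp_inter hG hM hKU hK1 hMstar rfl hKst hKstH
  have hKsc := bgp_Ks_cyclic hG hM hKU hK1 hMstar hKst hKstH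
  have hσM' : sigmaCore M ≤ ⁅M, M⁆ := by rw [h65]; exact le_sup_right
  have hcopσ : (Nat.card K).Coprime (Nat.card (sigmaCore M)) :=
    Nat.Coprime.coprime_dvd_right (Subgroup.card_dvd_of_le hσM') hcopM'
  have hcop : (Nat.card K).Coprime (Nat.card ↥(sigmaCore M ⊓ centralizer (K : Set G))) :=
    Nat.Coprime.coprime_dvd_right (Subgroup.card_dvd_of_le inf_le_left) hcopσ
  have huM : ∀ y ∈ sigmaCore M ⊓ centralizer (K : Set G), y ≠ 1 →
      centralizer ({y} : Set G) ≤ M :=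
    Helper59.bgp_cent_of_prime (fun Y hY hYp => (h67a Y hY hYp).1)
  have huMs : ∀ k ∈ K, k ≠ 1 → centralizer ({k} : Set G) ≤ Mstar :=
    Helper59.bgp_cent_of_prime (fun Y hY hYp => (h67b Y hY hYp).1)
  have hKσbot : K ⊓ sigmaCore M = ⊥ := (Subgroup.disjoint_of_coprime_natCard hcopσ).eq_bot
  have hTc := bgp_T_card inf_le_right hcop hK1 hKs1 hTI hN
  exact ⟨bgp_kappa_eq_tau1 hG hM hKU hK1,
    Helper54.bgp_sigma_hall hG hM hMstar hinter inf_le_left hKσbot inf_le_right hKs1 huM,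
    Helper86.bgp_cents hinter inf_le_right hKU.cyclic hKsc hcop hcent huM huMs,
    Helper54.bgp_zhat_not_mem hG hM inf_le_left inf_le_right hcop huM, hTc,
    bgp_half hG hcop hK1 hKs1 hTc⟩

/-- Any maximal subgroup with a standard factorisation with `K_H ≠ 1` is conjugate to `M` or
to `M*`. -/
theorem bgp_conj (hG : IsMinSimpleOddOrder G) {M K U Mstar : Subgroup G} (hM : IsCoatom M)
    (hKU : IsSigmaDecomposition M K U) (hK1 : K ≠ ⊥) (hMstar : IsCoatom Mstar)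
    (hKst : K = sigmaCore Mstar ⊓
      centralizer ((sigmaCore M ⊓ centralizer (K : Set G) : Subgroup G) : Set G))
    (hKstH : IsPiHallOf (kappa Mstar) (sigmaCore M ⊓ centralizer (K : Set G)) Mstar)
    {H KH UH : Subgroup G} (hH : IsCoatom H) (hKUH : IsSigmaDecomposition H KH UH)
    (hKH1 : KH ≠ ⊥) :
    ∃ g : G, H = M.map (MulAut.conj g).toMonoidHom ∨
      H = Mstar.map (MulAut.conj g).toMonoidHom := by
  have key : ∀ {N L V : Subgroup G}, IsCoatom N → IsSigmaDecomposition N L V → L ≠ ⊥ →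
      (Nat.card L).Coprime (Nat.card ↥(sigmaCore N ⊓ centralizer (L : Set G))) ∧
      sigmaCore N ⊓ centralizer (L : Set G) ≠ ⊥ ∧
      Nat.card G < 2 * Set.ncard {a : G | ∃ g : G,
        ∃ z ∈ ((↑(L ⊔ (sigmaCore N ⊓ centralizer (L : Set G))) : Set G) \
          ((L : Set G) ∪ ↑(sigmaCore N ⊓ centralizer (L : Set G)))), a = g * z * g⁻¹} := by
    intro N L V hN hLV hL1
    obtain ⟨h65, hcopM', -, hKs1, -, -⟩ := bg14_pkg hG hN hLV hL1
    obtain ⟨hTI, hN'⟩ := Cfsg.Agent.S1370.result hG N hN L V hLV hL1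
    have hσM' : sigmaCore N ≤ ⁅N, N⁆ := by rw [h65]; exact le_sup_right
    have hcop : (Nat.card L).Coprime (Nat.card ↥(sigmaCore N ⊓ centralizer (L : Set G))) :=
      Nat.Coprime.coprime_dvd_right (Subgroup.card_dvd_of_le (inf_le_left.trans hσM')) hcopM'
    exact ⟨hcop, hKs1, bgp_half hG hcop hL1 hKs1 (bgp_T_card inf_le_right hcop hL1 hKs1 hTI hN')⟩
  obtain ⟨hcop, hKs1, hhalf⟩ := key hM hKU hK1
  obtain ⟨hcopH, hKsH1, hhalfH⟩ := key hH hKUH hKH1
  obtain ⟨h67a, h67b⟩ := Cfsg.Agent.S1367.result hG M hM K U hKU hK1 Mstar hMstar hKst hKstH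
  obtain ⟨-, -, -, -, -, hu1H⟩ := bg14_pkg hG hH hKUH hKH1
  obtain ⟨a, ⟨g₁, z, hz, rfl⟩, ⟨g₂, zH, hzH, h⟩⟩ := Helper86.bgp_half_inter _ _ hhalf hhalfH
  obtain ⟨k, hk, y, hy, hk1, hy1, rfl, hky⟩ := bg14_zhat_decomp inf_le_right hz
  obtain ⟨kH, hkH, yH, hyH, hkH1, hyH1, rfl, hkyH⟩ := bg14_zhat_decomp inf_le_right hzH
  -- an element of prime order of `⟨yH⟩`
  have ho1 : orderOf yH ≠ 1 := fun h => hyH1 (orderOf_eq_one_iff.mp h)
  have hq := Nat.minFac_prime ho1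
  have hqd : (orderOf yH).minFac ∣ orderOf yH := Nat.minFac_dvd _
  obtain ⟨w₀, hw₀def⟩ : ∃ w₀, w₀ = yH ^ (orderOf yH / (orderOf yH).minFac) := ⟨_, rfl⟩
  have hw₀o : orderOf w₀ = (orderOf yH).minFac := by
    rw [hw₀def]
    exact orderOf_pow_orderOf_div (orderOf_pos yH).ne' hqd
  have hw₀Ks : w₀ ∈ sigmaCore H ⊓ centralizer (KH : Set G) := by
    rw [hw₀def]; exact pow_mem hyH _
  have hYH : zpowers w₀ ≤ sigmaCore H ⊓ centralizer (KH : Set G) := by
    rw [Subgroup.zpowers_le]; exact hw₀Ks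
  have hYHc : (Nat.card (zpowers w₀)).Prime := by
    rw [Nat.card_zpowers, hw₀o]; exact hq
  obtain ⟨hCH, -⟩ := hu1H _ hYH hYHc
  -- conjugate into `⟨k * y⟩`
  obtain ⟨c, hc⟩ : ∃ c : G, c = g₁⁻¹ * g₂ := ⟨_, rfl⟩
  have hconj : c * (kH * yH) * c⁻¹ = k * y := by
    rw [hc]
    have h2 : g₁⁻¹ * g₂ * (kH * yH) * (g₁⁻¹ * g₂)⁻¹ = g₁⁻¹ * (g₂ * (kH * yH) * g₂⁻¹) * g₁ := by
      group
    rw [h2, ← h]
    group
  have hcopo : (orderOf kH).Coprime (orderOf yH) :=
    Nat.Coprime.coprime_dvd_left (Subgroup.orderOf_dvd_natCard KH hkH)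
      (Nat.Coprime.coprime_dvd_right (Subgroup.orderOf_dvd_natCard _ hyH) hcopH)
  have hcopo' : (orderOf k).Coprime (orderOf y) :=
    Nat.Coprime.coprime_dvd_left (Subgroup.orderOf_dvd_natCard K hk)
      (Nat.Coprime.coprime_dvd_right (Subgroup.orderOf_dvd_natCard _ hy) hcop)
  have hyHz : yH ∈ zpowers (kH * yH) :=
    (Helper54.bg14t_mem_zpowers_mul (show Commute kH yH from hkyH) hcopo).2
  have hw₀z : w₀ ∈ zpowers (kH * yH) := by
    rw [hw₀def]; exact pow_mem hyHz _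
  have hwz : c * w₀ * c⁻¹ ∈ zpowers (k * y) := by
    rw [← hconj]
    have h3 : (zpowers (kH * yH)).map (MulAut.conj c).toMonoidHom =
        zpowers (c * (kH * yH) * c⁻¹) := by
      rw [MonoidHom.map_zpowers]
      rfl
    rw [← h3]
    exact ⟨w₀, hw₀z, rfl⟩
  have hwo : orderOf (c * w₀ * c⁻¹) = (orderOf yH).minFac := by
    rw [← hw₀o]
    exact orderOf_injective (MulAut.conj c).toMonoidHom (MulAut.conj c).injective w₀
  have hY' : (zpowers w₀).map (MulAut.conj c).toMonoidHom = zpowers (c * w₀ * c⁻¹) := by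
    rw [MonoidHom.map_zpowers]
    rfl
  have hY'c : (Nat.card (zpowers (c * w₀ * c⁻¹))).Prime := by
    rw [Nat.card_zpowers, hwo]; exact hq
  have hCY' : centralizer ((zpowers (c * w₀ * c⁻¹) : Subgroup G) : Set G) ≤
      H.map (MulAut.conj c).toMonoidHom := by
    rw [← hY', centralizer_map_conj]
    exact Subgroup.map_mono hCH
  have hHc := Helper47.isCoatom_map_conj hH c
  rcases Helper86.bgp_prime_zpowers (show Commute k y from hky) hcopo' hwz (by rw [hwo]; exact hq) with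
    hwk | hwy
  · have hle : zpowers (c * w₀ * c⁻¹) ≤ K := by
      rw [Subgroup.zpowers_le]
      exact (Subgroup.zpowers_le.mpr hk) hwk
    have h5 := (h67b _ hle hY'c).2 _ hHc hCY'
    exact ⟨c⁻¹, Or.inr (Helper54.bg14t_conj_symm h5.symm)⟩
  · have hle : zpowers (c * w₀ * c⁻¹) ≤ sigmaCore M ⊓ centralizer (K : Set G) := by
      rw [Subgroup.zpowers_le]
      exact (Subgroup.zpowers_le.mpr hy) hwy
    have h5 := (h67a _ hle hY'c).2 _ hHc hCY'
    exact ⟨c⁻¹, Or.inl (Helper54.bg14t_conj_symm h5.symm)⟩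

/-- Row S1369, given that Hall `κ`-subgroups exist and are cyclic (row S1351). -/
theorem bgp_1369 (hG : IsMinSimpleOddOrder G)
    (h51 : ∀ H : Subgroup G, IsCoatom H → (∃ L : Subgroup G, IsPiHallOf (kappa H) L H) ∧
      ∀ L : Subgroup G, IsPiHallOf (kappa H) L H → IsCyclic L)
    (M : Subgroup G) (hM : IsCoatom M)
    (K U : Subgroup G) (hKU : IsSigmaDecomposition M K U) (hK1 : K ≠ ⊥) (Mstar : Subgroup G)
    (hMstar : IsCoatom Mstar)
    (hKst : K = sigmaCore Mstar ⊓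
      centralizer ((sigmaCore M ⊓ centralizer (K : Set G) : Subgroup G) : Set G))
    (hKstH : IsPiHallOf (kappa Mstar) (sigmaCore M ⊓ centralizer (K : Set G)) Mstar) :
    (U ≠ ⊥ ∨ ∀ Ustar : Subgroup G,
        IsSigmaDecomposition Mstar (sigmaCore M ⊓ centralizer (K : Set G)) Ustar → Ustar ≠ ⊥) ∧
      ∀ H : Subgroup G, IsCoatom H → (kappa H).Nonempty →
        ∃ g : G, H = M.map (MulAut.conj g).toMonoidHom ∨
          H = Mstar.map (MulAut.conj g).toMonoidHom := by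
  constructor
  · by_contra hcon
    rw [not_or] at hcon
    obtain ⟨hU, hUs⟩ := hcon
    rw [not_not] at hU
    push Not at hUs
    obtain ⟨Ustar, hdec, hUs1⟩ := hUs
    have hP1 : K ⊔ sigmaCore M = M := by
      have hc := hKU.compl
      rw [hU] at hc
      apply le_antisymm hc.2.1
      intro m hm
      obtain ⟨a, ha, b, hb, rfl⟩ := hc.2.2.2 m hm
      rw [mem_bot] at ha
      rw [ha, one_mul]
      exact hb
    have hP1s : (sigmaCore M ⊓ centralizer (K : Set G)) ⊔ sigmaCore Mstar = Mstar := by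
      have hc := hdec.compl
      rw [hUs1] at hc
      apply le_antisymm hc.2.1
      intro m hm
      obtain ⟨a, ha, b, hb, rfl⟩ := hc.2.2.2 m hm
      rw [mem_bot] at ha
      rw [ha, one_mul]
      exact hb
    exact bgp_count hG hM hKU hK1 hMstar hKst hKstH hP1 hP1s
  · intro H hH hκ
    obtain ⟨⟨L, hL⟩, hcyc⟩ := h51 H hH
    have hLc := hcyc L hL
    obtain ⟨⟨V, hV⟩, -⟩ := Cfsg.Agent.S1352.result hG H hH L hLc hL
    have hL1 : L ≠ ⊥ := by
      rintro rfl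
      obtain ⟨p, hp⟩ := hκ
      apply hL.2.2 p hp.1 hp
      have h1 : (⊥ : Subgroup G).relIndex H = Nat.card H := by
        rw [Subgroup.relIndex_bot_left]
      rw [h1]
      exact hp.2.1
    exact bgp_conj hG hM hKU hK1 hMstar hKst hKstH hH hV hL1

end Cfsg.Agent.Helper23
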