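/-
helper23: row S1373 (B&G 14.7(e): `U = 1` forces `K* = C_{M_σ}(K)` of prime order) reduced to the
existence half of S1366: given a maximal `M*` with `K = C_{M*_σ}(K*)` and `K*` a Hall
`κ(M*)`-subgroup, the count of `bgp_count` shows `M* ≠ K* M*_σ`, and Theorem 14.2(c)
(row S1372) for `M*` gives `|K*|` prime.
-/
import Cfsg.Agent.Helper23.BGPMain
import Cfsg.Agent.S1352
import Cfsg.Agent.S1372

set_option autoImplicit false
open Cfsg Subgroup

namespace Cfsg.Agent.Helper23

universe u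
variable {G : Type u} [Group G] [Finite G]

theorem bgp_1373_of_pair (hG : IsMinSimpleOddOrder G) {M K U Mstar : Subgroup G} (hM : IsCoatom M)
    (hKU : IsSigmaDecomposition M K U) (hK1 : K ≠ ⊥) (hU : U = ⊥) (hMstar : IsCoatom Mstar)
    (hKst : K = sigmaCore Mstar ⊓
      centralizer ((sigmaCore M ⊓ centralizer (K : Set G) : Subgroup G) : Set G))
    (hKstH : IsPiHallOf (kappa Mstar) (sigmaCore M ⊓ centralizer (K : Set G)) Mstar) :
    (Nat.card ↥(sigmaCore M ⊓ centralizer (K : Set G))).Prime := by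
  have hKsc := bgp_Ks_cyclic hG hM hKU hK1 hMstar hKst hKstH
  have hKs1 : sigmaCore M ⊓ centralizer (K : Set G) ≠ ⊥ := (bg14_pkg hG hM hKU hK1).2.2.2.1
  -- `M = K M_σ`
  have hP1 : K ⊔ sigmaCore M = M := by
    obtain ⟨-, hle, -, hprod⟩ := hKU.compl
    apply le_antisymm hle
    intro m hm
    obtain ⟨a, ha, b, hb, rfl⟩ := hprod m hm
    rw [hU, Subgroup.mem_bot] at ha
    subst ha
    simpa using hb
  obtain ⟨Us, hUs⟩ := (Cfsg.Agent.S1352.result hG Mstar hMstar _ hKsc hKstH).1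
  have hUs1 : Us ≠ ⊥ := by
    intro hUs0
    apply bgp_count hG hM hKU hK1 hMstar hKst hKstH hP1
    obtain ⟨-, hle, -, hprod⟩ := hUs.compl
    apply le_antisymm hle
    intro m hm
    obtain ⟨a, ha, b, hb, rfl⟩ := hprod m hm
    rw [hUs0, Subgroup.mem_bot] at ha
    subst ha
    simpa using hb
  exact (Cfsg.Agent.S1372.result hG Mstar hMstar _ Us hUs hKs1 hUs1).1

/-- Row S1373 from the existence half of row S1366. -/
theorem bgp_1373_of_exists (hG : IsMinSimpleOddOrder G) {M K U : Subgroup G} (hM : IsCoatom M)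
    (hKU : IsSigmaDecomposition M K U) (hK1 : K ≠ ⊥) (hU : U = ⊥)
    (hex : ∃ Mstar : Subgroup G, IsCoatom Mstar ∧
      K = sigmaCore Mstar ⊓
        centralizer ((sigmaCore M ⊓ centralizer (K : Set G) : Subgroup G) : Set G) ∧
      IsPiHallOf (kappa Mstar) (sigmaCore M ⊓ centralizer (K : Set G)) Mstar) :
    (Nat.card ↥(sigmaCore M ⊓ centralizer (K : Set G))).Prime := by
  obtain ⟨Mstar, hMstar, hKst, hKstH⟩ := hex
  exact bgp_1373_of_pair hG hM hKU hK1 hU hMstar hKst hKstH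

end Cfsg.Agent.Helper23
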