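/-
helper23: piece C1B of CALL S1363 (helper68): a `σ(H)`-element of `M` normalizing `U` lies in `U`.
-/
import Cfsg.Agent.Helper23.BGPMain
import Cfsg.Agent.Helper68.BG14R30
import Cfsg.Agent.Helper22.BG12a
import Cfsg.Agent.S1378

set_option autoImplicit false

namespace Cfsg.Agent.Helper23

open Cfsg Subgroup

universe u

variable {G : Type u} [Group G] [Finite G]

/-- C1B. A `σ(H)`-element of `M` normalizing `U` lies in `U`. -/
theorem bg63_mem_U (hG : IsMinSimpleOddOrder G) {M K U H : Subgroup G} (hM : IsCoatom M)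
    (hKU : IsSigmaDecomposition M K U) (hK1 : K ≠ ⊥) (hKp : (Nat.card K).Prime)
    (hH : IsCoatom H) (hnM : ∀ g : G, H ≠ M.map (MulAut.conj g).toMonoidHom)
    (hpσ : Nat.card K ∉ sigma H) {g : G} (hgM : g ∈ M) (hgS : g ∈ sigmaCore H)
    (hgN : g ∈ normalizer (U : Set G)) : g ∈ U := by
  have hUhall := Helper68.bg14r_U_hall hG hM hKU
  have hUM : U ≤ M := hKU.compl.1
  have hle : zpowers g ≤ U := by
    refine Helper22.bg12_le_of_coprime_relIndex hUM (zpowers_le.mpr hgM) (zpowers_le.mpr hgN) ?_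
    rw [Nat.card_zpowers]
    apply Nat.coprime_of_dvd
    intro q hq h1 h2
    -- `q ∈ σ(H)`
    have hqσH : q ∈ sigma H := Helper54.bg14t_mem_sigma_of_dvd hgS hq h1
    -- `q ∈ κ(M)` or `q ∈ σ(M)`
    by_cases hqσM : q ∈ sigma M
    · obtain ⟨x, hx⟩ := (Cfsg.Agent.S1378.result hG).2 M H hM hH ⟨q, hqσM, hqσH⟩
      exact hnM x hx
    · by_cases hqκ : q ∈ kappa M
      · -- then `q ∣ |K|`, so `q = |K| ∈ σ(H)`
        have hqK : q ∣ Nat.card K := by
          have hqM : q ∣ Nat.card M := hqκ.2.1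
          have hnd : ¬ q ∣ K.relIndex M := hKU.hall.2.2 q hq hqκ
          have hmul : Nat.card K * K.relIndex M = Nat.card M := by
            have h := Subgroup.card_mul_index (K.subgroupOf M)
            rwa [Helper35.card_subgroupOf_of_le hKU.hall.1] at h
          rw [← hmul] at hqM
          rcases (Nat.Prime.dvd_mul hq).mp hqM with h | h
          · exact h
          · exact absurd h hnd
        have hqeq : q = Nat.card K := (Nat.prime_dvd_prime_iff_eq hq hKp).mp hqK
        exact hpσ (hqeq ▸ hqσH)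
      · exact hUhall.2.2 q hq ⟨hq, hqκ, hqσM⟩ h2
  exact hle (mem_zpowers g)

end Cfsg.Agent.Helper23
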