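/-
helper23: piece FPFB of CALL S1363 (helper68): if `K` (of prime order `p ∈ τ₂(H)`) has a fixed
point on `H_σ`, then `H = M*`.
-/
import Cfsg.Agent.Helper23.BGPMain
import Cfsg.Agent.Helper20.BG13P4
import Cfsg.Agent.S1367
import Cfsg.Agent.S1420

set_option autoImplicit false

namespace Cfsg.Agent.Helper23

open Cfsg Subgroup

universe u

variable {G : Type u} [Group G] [Finite G]

/-- FPFB. If `K` (of prime order `p ∈ τ₂(H)`) has a fixed point on `H_σ`, then `H = M*`. -/
theorem bg63_fpf_tau2 (hG : IsMinSimpleOddOrder G) {M K U Mstar H : Subgroup G}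
    (hM : IsCoatom M) (hKU : IsSigmaDecomposition M K U) (hK1 : K ≠ ⊥)
    (hMstar : IsCoatom Mstar)
    (hKst : K = sigmaCore Mstar ⊓
      centralizer ((sigmaCore M ⊓ centralizer (K : Set G) : Subgroup G) : Set G))
    (hKstH : IsPiHallOf (kappa Mstar) (sigmaCore M ⊓ centralizer (K : Set G)) Mstar)
    (hKp : (Nat.card K).Prime) (hH : IsCoatom H) (hKH : K ≤ H)
    (ht : Nat.card K ∈ tau2 H) {k y : G} (hk : k ∈ K) (hk1 : k ≠ 1) (hy : y ∈ sigmaCore H)
    (hy1 : y ≠ 1) (hky : k * y = y * k) : H = Mstar := by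
  have hU : Helper22.BGUniq G := fun K hK h1 h2 => Cfsg.Agent.S1403.result hG K hK h1 h2
  obtain ⟨hCK, -⟩ :=
    (Cfsg.Agent.S1367.result hG M hM K U hKU hK1 Mstar hMstar hKst hKstH).2 K le_rfl hKp
  -- a complement of `H_σ` in `H`
  obtain ⟨E, hE, -⟩ := Helper20.bg13_exists_compl_ge hG hU hH (K := ⊥) bot_le
    (by rw [Subgroup.card_bot]; exact Nat.coprime_one_left _)
  -- `orderOf k = |K|`
  have hko : orderOf k = Nat.card K := by
    have h1 : orderOf k ∣ Nat.card K := by
      have h := orderOf_dvd_natCard (⟨k, hk⟩ : K)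
      rwa [Subgroup.orderOf_mk] at h
    rcases (Nat.dvd_prime hKp).mp h1 with h | h
    · exact absurd (orderOf_eq_one_iff.mp h) hk1
    · exact h
  -- `K = zpowers k`, so `C_G(k) ≤ C_G(K) ≤ M*`
  have hKz : ∀ z ∈ K, z ∈ zpowers k := by
    intro z hz
    haveI := Fact.mk hKp
    have htop : zpowers (⟨k, hk⟩ : K) = ⊤ :=
      zpowers_eq_top_of_prime_card (p := Nat.card K) rfl (fun h => hk1 (congrArg Subtype.val h))
    have hmem : (⟨z, hz⟩ : K) ∈ zpowers (⟨k, hk⟩ : K) := by rw [htop]; trivial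
    obtain ⟨n, hn⟩ := Subgroup.mem_zpowers_iff.mp hmem
    refine Subgroup.mem_zpowers_iff.mpr ⟨n, ?_⟩
    have := congrArg Subtype.val hn
    simpa using this
  have hcent : centralizer ({k} : Set G) ≤ centralizer (K : Set G) := by
    intro c hc
    rw [Subgroup.mem_centralizer_iff] at hc ⊢
    intro z hz
    obtain ⟨n, rfl⟩ := Subgroup.mem_zpowers_iff.mp (hKz z hz)
    have hcx : k * c = c * k := hc k rfl
    exact ((Commute.zpow_left (show Commute k c from hcx) n)).eq
  obtain ⟨-, huniq⟩ := (Cfsg.Agent.S1420.result hG H hH E hE).2.2.2 k (hKH hk) hk1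
    (fun q hq hqd => by
      rw [hko] at hqd
      rw [(Nat.prime_dvd_prime_iff_eq hq hKp).mp hqd]
      exact ht)
    ⟨hKH hk, y, hy, hy1, hky⟩
  exact (huniq Mstar hMstar (hcent.trans hCK)).symm

end Cfsg.Agent.Helper23
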