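/-
helper23: piece NS of CALL S1363 (helper68): a maximal subgroup containing `K` and `U ≠ 1` is not
conjugate to the partner `M*`.
-/
import Cfsg.Agent.Helper23.BGPMain
import Cfsg.Agent.Helper68.BG123
import Cfsg.Agent.Helper54.BG14T4
import Cfsg.Agent.S1352
import Cfsg.Agent.S1367
import Cfsg.Agent.S1375

set_option autoImplicit false

namespace Cfsg.Agent.Helper23

open Cfsg Subgroup

universe u

variable {G : Type u} [Group G] [Finite G]

/-- A maximal subgroup `H` containing a subgroup `Q ≤ K` of prime order `q ∈ σ(H)` is `M*`. -/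
theorem bg63_eq_Mstar_of_sigma (hG : IsMinSimpleOddOrder G) {M K U Mstar H Q : Subgroup G}
    (hM : IsCoatom M) (hKU : IsSigmaDecomposition M K U) (hK1 : K ≠ ⊥)
    (hMstar : IsCoatom Mstar)
    (hKst : K = sigmaCore Mstar ⊓
      centralizer ((sigmaCore M ⊓ centralizer (K : Set G) : Subgroup G) : Set G))
    (hKstH : IsPiHallOf (kappa Mstar) (sigmaCore M ⊓ centralizer (K : Set G)) Mstar)
    (hH : IsCoatom H) (hQK : Q ≤ K) (hQp : (Nat.card Q).Prime) (hQH : Q ≤ H)
    (hqσ : Nat.card Q ∈ sigma H) : H = Mstar := by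
  have hU : Helper22.BGUniq G := fun K hK h1 h2 => Cfsg.Agent.S1403.result hG K hK h1 h2
  obtain ⟨hCQ, hQuniq⟩ :=
    (Cfsg.Agent.S1367.result hG M hM K U hKU hK1 Mstar hMstar hKst hKstH).2 Q hQK hQp
  -- a generator `x` of `Q`
  have hQ1 : Q ≠ ⊥ := by
    intro h
    rw [h, Subgroup.card_bot] at hQp
    exact Nat.not_prime_one hQp
  obtain ⟨x, hxQ, hx1⟩ : ∃ x ∈ Q, x ≠ 1 := by
    by_contra hcon
    apply hQ1
    rw [Subgroup.eq_bot_iff_forall]
    intro y hy
    by_contra hy1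
    exact hcon ⟨y, hy, hy1⟩
  have hxq : x ^ Nat.card Q = 1 := by
    have h := pow_card_eq_one' (G := Q) (x := ⟨x, hxQ⟩)
    exact congrArg Subtype.val h
  have hxσ : x ∈ sigmaCore H := Helper68.bg123_mem_sigmaCore hG hU hH hqσ (hQH hxQ) hxq
  -- `Q = zpowers x`
  have hQz : ∀ y ∈ Q, y ∈ zpowers x := by
    intro y hy
    haveI := Fact.mk hQp
    have htop : zpowers (⟨x, hxQ⟩ : Q) = ⊤ :=
      zpowers_eq_top_of_prime_card (p := Nat.card Q) rfl (fun h => hx1 (congrArg Subtype.val h))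
    have hmem : (⟨y, hy⟩ : Q) ∈ zpowers (⟨x, hxQ⟩ : Q) := by rw [htop]; trivial
    obtain ⟨n, hn⟩ := Subgroup.mem_zpowers_iff.mp hmem
    refine Subgroup.mem_zpowers_iff.mpr ⟨n, ?_⟩
    have := congrArg Subtype.val hn
    simpa using this
  have hcent : centralizer ({x} : Set G) ≤ centralizer (Q : Set G) := by
    intro c hc
    rw [Subgroup.mem_centralizer_iff] at hc ⊢
    intro y hy
    obtain ⟨n, rfl⟩ := Subgroup.mem_zpowers_iff.mp (hQz y hy)
    have hcx : x * c = c * x := hc x rfl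
    exact ((Commute.zpow_left (show Commute x c from hcx) n)).eq
  by_cases hle : centralizer ({x} : Set G) ≤ H
  · have hQle : centralizer (Q : Set G) ≤ H := by
      intro c hc
      apply hle
      rw [Subgroup.mem_centralizer_iff] at hc ⊢
      intro y hy
      rw [Set.mem_singleton_iff] at hy
      subst hy
      exact hc y hxQ
    exact hQuniq H hH hQle
  · exfalso
    obtain ⟨N, ⟨hN, hxN⟩, hNuniq, -, -, -, -, hdec⟩ :=
      Cfsg.Agent.S1375.result hG H hH x hxσ hx1 hle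
    have hNeq : Mstar = N := hNuniq Mstar hMstar (hcent.trans hCQ)
    have hKsc := bgp_Ks_cyclic hG hM hKU hK1 hMstar hKst hKstH
    obtain ⟨Us, hUs⟩ := (Cfsg.Agent.S1352.result hG Mstar hMstar _ hKsc hKstH).1
    rw [hNeq] at hUs
    have hxnot := (hdec _ _ hUs).2.2
    apply hxnot
    rw [← hNeq]
    exact (hKst.le.trans inf_le_left) (hQK hxQ)

/-- NS. A maximal subgroup containing `K` and `U ≠ 1` is not conjugate to `M*`. -/
theorem bg63_nconj_Ms (hG : IsMinSimpleOddOrder G) {M K U Mstar H : Subgroup G}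
    (hM : IsCoatom M) (hKU : IsSigmaDecomposition M K U) (hK1 : K ≠ ⊥) (hU1 : U ≠ ⊥)
    (hMstar : IsCoatom Mstar)
    (hKst : K = sigmaCore Mstar ⊓
      centralizer ((sigmaCore M ⊓ centralizer (K : Set G) : Subgroup G) : Set G))
    (hKstH : IsPiHallOf (kappa Mstar) (sigmaCore M ⊓ centralizer (K : Set G)) Mstar)
    (hKH : K ≤ H) (hUH : U ≤ H) :
    ∀ g : G, H ≠ Mstar.map (MulAut.conj g).toMonoidHom := by
  intro g hg
  have hH : IsCoatom H := by
    rw [hg]
    exact Helper47.isCoatom_map_conj hMstar g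
  -- a subgroup `Q ≤ K` of prime order
  obtain ⟨q, hq, hqK⟩ := Nat.exists_prime_and_dvd (show Nat.card K ≠ 1 by
    intro h
    exact hK1 (Subgroup.card_eq_one.mp h))
  haveI := Fact.mk hq
  obtain ⟨y, hy⟩ := exists_prime_orderOf_dvd_card' (G := K) q hqK
  have hyo : orderOf (y : G) = q := by rw [Subgroup.orderOf_coe]; exact hy
  have hQp : (Nat.card (zpowers (y : G))).Prime := by rw [Nat.card_zpowers, hyo]; exact hq
  have hQK : zpowers (y : G) ≤ K := by rw [zpowers_le]; exact y.2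
  have hKσ : K ≤ sigmaCore Mstar := hKst.le.trans inf_le_left
  have hqσ : Nat.card (zpowers (y : G)) ∈ sigma H := by
    rw [Nat.card_zpowers, hyo, hg, Helper54.bg14t_sigma_conj]
    exact mem_of_dvd_card_piCoreOf (sigma Mstar) Mstar hq
      (hqK.trans (Subgroup.card_dvd_of_le hKσ))
  have hHeq : H = Mstar :=
    bg63_eq_Mstar_of_sigma hG hM hKU hK1 hMstar hKst hKstH hH hQK hQp (hQK.trans hKH) hqσ
  -- then `U ≤ M ⊓ M* = K ⊔ K*`, which meets `U` trivially
  have hinter := bgp_inter hG hM hKU hK1 hMstar rfl hKst hKstH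
  apply hU1
  rw [eq_bot_iff]
  intro u hu
  have h1 : u ∈ M ⊓ Mstar := ⟨hKU.compl.1 hu, hHeq ▸ hUH hu⟩
  rw [hinter] at h1
  have hle : K ⊔ (sigmaCore M ⊓ centralizer (K : Set G)) ≤ K ⊔ sigmaCore M :=
    sup_le_sup_left inf_le_left K
  have h2 : u ∈ U ⊓ (K ⊔ sigmaCore M) := ⟨hu, hle h1⟩
  rw [hKU.compl.2.2.1] at h2
  exact h2

end Cfsg.Agent.Helper23
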