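/-
helper23: piece KAP of CALL S1438 (helper2, B&G Theorem 15.7).
-/
import Cfsg.Agent.Helper22.BG10b
import Cfsg.Agent.Helper23.Uniq
import Cfsg.Agent.Helper23.Trans
import Cfsg.Agent.Helper35.HallCoprime
import Cfsg.Agent.Helper49.OddCyclic
import Cfsg.Agent.S1403

set_option autoImplicit false

namespace Cfsg.Agent.Helper23

open Cfsg Subgroup
open scoped Pointwise

universe u

variable {G : Type u} [Group G] [Finite G]

/-- KAP. A prime `r ∉ σ(M) ∪ τ₂(M)` with an element of order `r` of `M` centralizing a non-identity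
element of `M_σ` lies in `κ(M)`. -/
theorem bg157_mem_kappa (hG : IsMinSimpleOddOrder G) {M : Subgroup G} (hM : IsCoatom M) {r : ℕ}
    (hr : r.Prime) (hrσ : r ∉ sigma M) (hr2 : r ∉ tau2 M) {x y : G} (hxM : x ∈ M)
    (hxo : orderOf x = r) (hy : y ∈ sigmaCore M) (hy1 : y ≠ 1) (hxy : x * y = y * x) :
    r ∈ kappa M := by
  classical
  have hU : Cfsg.Agent.Helper22.BGUniq G :=
    fun K hK h1 h2 => Cfsg.Agent.S1403.result hG K hK h1 h2
  haveI := Fact.mk hr
  have hx1 : x ≠ 1 := by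
    intro h
    rw [h, orderOf_one] at hxo
    exact hr.one_lt.ne hxo
  have hrM : r ∣ Nat.card M := by
    rw [← hxo]
    have h := orderOf_dvd_natCard (⟨x, hxM⟩ : M)
    rwa [Subgroup.orderOf_mk] at h
  have hodd : r ≠ 2 := by
    intro h2
    have h3 : r ∣ Nat.card G := hrM.trans (Subgroup.card_subgroup_dvd_card M)
    rw [h2] at h3
    exact (Nat.not_even_iff_odd.mpr hG.1) (even_iff_two_dvd.mpr h3)
  have hrk2 : PRankLE r 2 M := by
    apply Cfsg.Agent.Helper22.bg10_pRank_of_not_alpha M r hr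
    intro hα
    exact hrσ (Cfsg.Agent.Helper22.bg10_alpha_sub_sigma hG hU hM hα)
  have hrk1 : PRankLE r 1 M := by
    by_contra hrk1
    exact hr2 ⟨hr, hrσ, hrk2, hrk1⟩
  refine ⟨hr, hrM, hrσ, fun P =>
    ⟨Cfsg.Agent.Helper49.isCyclic_sylow_of_pRankLE_one hodd hrk1 P, ?_⟩⟩
  -- conjugate `⟨x⟩` into `P`
  have hYp : IsPGroup r (zpowers (⟨x, hxM⟩ : M)) := by
    apply IsPGroup.of_card (n := 1)
    rw [pow_one, Nat.card_zpowers, Subgroup.orderOf_mk, hxo]
  obtain ⟨Q, hQ⟩ := hYp.exists_le_sylow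
  obtain ⟨g, hg⟩ := MulAction.exists_smul_eq M Q P
  have hyQ : (⟨x, hxM⟩ : M) ∈ (Q : Subgroup M) := hQ (mem_zpowers _)
  have hxP : g * ⟨x, hxM⟩ * g⁻¹ ∈ (P : Subgroup M) := by
    have h1 : (MulAut.conj g) • (⟨x, hxM⟩ : M) ∈ (MulAut.conj g) • (Q : Subgroup M) :=
      Subgroup.smul_mem_pointwise_smul _ _ _ hyQ
    rw [← Sylow.coe_subgroup_smul, hg] at h1
    simpa [MulAut.smul_def] using h1
  have hgN : (g : G) ∈ normalizer ((sigmaCore M : Subgroup G) : Set G) :=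
    Cfsg.Agent.Helper23.le_normalizer_piCoreOf (sigma M) M g.2
  have hconj : ∀ a b : G, (g : G) * a * (g : G)⁻¹ * ((g : G) * b * (g : G)⁻¹) =
      (g : G) * (a * b) * (g : G)⁻¹ := by
    intro a b; group
  refine ⟨g * ⟨x, hxM⟩ * g⁻¹, hxP, ?_, (g : G) * y * (g : G)⁻¹,
    (mem_normalizer_iff.mp hgN y).mp hy, ?_, ?_⟩
  · intro h
    rw [conj_eq_one_iff] at h
    exact hx1 (Subtype.ext_iff.mp h)
  · intro h
    rw [conj_eq_one_iff] at h
    exact hy1 h
  · show (g : G) * x * (g : G)⁻¹ * ((g : G) * y * (g : G)⁻¹) =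
      (g : G) * y * (g : G)⁻¹ * ((g : G) * x * (g : G)⁻¹)
    rw [hconj, hconj, hxy]

end Cfsg.Agent.Helper23
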