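/-
helper23: piece NK of CALL S1438 (helper2, B&G Theorem 15.7).
-/
import Cfsg.Agent.S1430
import Cfsg.Agent.S1431
import Cfsg.Agent.Helper35.HallCoprime

set_option autoImplicit false

namespace Cfsg.Agent.Helper23

open Cfsg Subgroup

universe u

variable {G : Type u} [Group G] [Finite G]

/-- NK. No non-identity element of a Hall `κ(M)`-subgroup centralizes a non-trivial Hall subgroup
`H` of `M_σ`. -/
theorem bg157_not_kappa (hG : IsMinSimpleOddOrder G) {M H K : Subgroup G} (hM : IsCoatom M)
    (hH : H ≤ sigmaCore M) (hH1 : H ≠ ⊥)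
    (hHall : (Nat.card H).Coprime (H.relIndex (sigmaCore M)))
    (hK : IsPiHallOf (kappa M) K M) {x : G} (hxK : x ∈ K) (hx1 : x ≠ 1)
    (hxH : x ∈ centralizer (H : Set G)) : False := by
  classical
  have hK1 : K ≠ ⊥ := by
    intro h
    rw [h, Subgroup.mem_bot] at hxK
    exact hx1 hxK
  have h30 := (Cfsg.Agent.S1430.result hG M hM K hK hK1).1 x hxK hx1
  have h31 := (Cfsg.Agent.S1431.result hG M hM K hK hK1).2.2.1
  -- `H ≤ K*`
  have hHKs : H ≤ sigmaCore M ⊓ centralizer (K : Set G) := by
    rw [← h30]
    refine le_inf hH ?_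
    intro h hh
    rw [Subgroup.mem_centralizer_iff]
    intro y hy
    rw [Set.mem_singleton_iff] at hy
    subst hy
    exact ((Subgroup.mem_centralizer_iff.mp hxH) h hh).symm
  -- a prime `t` dividing `|H|`
  obtain ⟨t, ht, htH⟩ := Nat.exists_prime_and_dvd (show Nat.card H ≠ 1 by
    intro h
    exact hH1 (Subgroup.card_eq_one.mp h))
  haveI := Fact.mk ht
  have htKs : t ∣ Nat.card ↥(sigmaCore M ⊓ centralizer (K : Set G)) :=
    htH.trans (Subgroup.card_dvd_of_le hHKs)
  -- a Sylow `t`-subgroup of `H`, viewed in `G`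
  obtain ⟨T⟩ : Nonempty (Sylow t H) := inferInstance
  have hT'H : (T : Subgroup H).map H.subtype ≤ H := Subgroup.map_subtype_le _
  have hT'p : IsPGroup t ((T : Subgroup H).map H.subtype) := T.isPGroup'.map _
  have hT'idx : ¬ t ∣ ((T : Subgroup H).map H.subtype).relIndex (sigmaCore M) := by
    rw [← Subgroup.relIndex_mul_relIndex _ H (sigmaCore M) hT'H hH]
    intro h
    rcases (Nat.Prime.dvd_mul ht).mp h with h | h
    · have e : ((T : Subgroup H).map H.subtype).relIndex H = (T : Subgroup H).index := by
        have e2 : ((T : Subgroup H).map H.subtype).subgroupOf H = (T : Subgroup H) :=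
          Subgroup.comap_map_eq_self_of_injective H.subtype_injective _
        rw [Subgroup.relIndex, e2]
      rw [e] at h
      exact T.not_dvd_index h
    · exact (Nat.Prime.coprime_iff_not_dvd ht).mp
        (Nat.Coprime.coprime_dvd_left htH hHall) h
  have hSp : IsPGroup t (((T : Subgroup H).map H.subtype).subgroupOf (sigmaCore M)) :=
    hT'p.comap_subtype
  let S : Sylow t ↥(sigmaCore M) := hSp.toSylow hT'idx
  have hSmap : (S : Subgroup ↥(sigmaCore M)).map (sigmaCore M).subtype =
      (T : Subgroup H).map H.subtype := by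
    show ((((T : Subgroup H).map H.subtype).subgroupOf (sigmaCore M))).map
      (sigmaCore M).subtype = _
    rw [Subgroup.subgroupOf_map_subtype, inf_of_le_left (hT'H.trans hH)]
  apply (h31 t ht htKs S).2.2
  rw [hSmap]
  exact hT'H.trans hHKs

end Cfsg.Agent.Helper23
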