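import Cfsg.Agent.Helper23.BG1210c
import Cfsg.Agent.Helper47.BG1210P1c
import Cfsg.Agent.Helper34.BG1210P2a
import Cfsg.Agent.Helper34.BG1210P4b
import Cfsg.Agent.Helper34.BG1210P4c
import Cfsg.Agent.Helper24.BG1210P4d
import Cfsg.Agent.Helper49.BG1210P3P6

/-!
# B&G Corollary 12.10-type theorem (S1421), generalised to a normal subgroup `W` of `E`

`bg1212_gen`: let `M` be maximal, `E` a complement of `M_σ`, `W ≤ E` a subgroup containing every
`τ₂(M)`-element of `E`, such that every non-identity `τ₁ ∪ τ₃`-element of `W` acts regularly on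
`M_σ`.  Then `W` has an abelian subgroup `A₀`, normal in `E`, containing `C_W(x)` for all
`x ∈ M_σ^#`, and a subgroup `W₀` of the same exponent as `W` acting regularly on `M_σ`.
S1421 is the case `W = E`.
-/

set_option autoImplicit false

namespace Cfsg.Agent.Helper23

open Cfsg Subgroup Cfsg.Agent.Helper22 Cfsg.Agent.Helper35

universe u

variable {G : Type u} [Group G] [Finite G]

theorem bg1212_gen (hG : IsMinSimpleOddOrder G) (M : Subgroup G) (hM : IsCoatom M)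
    (E : Subgroup G) (hE : IsComplIn E (sigmaCore M) M) (W : Subgroup G) (hWE : W ≤ E)
    (hW2 : ∀ e ∈ E, (∀ p : ℕ, p.Prime → p ∣ orderOf e → p ∈ tau2 M) → e ∈ W)
    (h : ∀ e ∈ W, e ≠ 1 → (∀ p : ℕ, p.Prime → p ∣ orderOf e → p ∈ tau1 M ∪ tau3 M) →
      sigmaCore M ⊓ centralizer ({e} : Set G) = ⊥) :
    (∃ A₀ : Subgroup G, A₀ ≤ W ∧ E ≤ normalizer (A₀ : Set G) ∧ IsMulCommutative A₀ ∧
        ∀ x ∈ sigmaCore M, x ≠ 1 → W ⊓ centralizer ({x} : Set G) ≤ A₀) ∧
      ∃ W₀ : Subgroup G, W₀ ≤ W ∧ Monoid.exponent W₀ = Monoid.exponent W ∧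
        ∀ e ∈ W₀, e ≠ 1 → sigmaCore M ⊓ centralizer ({e} : Set G) = ⊥ := by
  have hR : BG1210R M W := h
  by_cases hcase : ∃ p ∈ tau2 M, ∀ S : Sylow p G, ¬ IsMulCommutative (S : Subgroup G)
  · obtain ⟨p, hp, hS⟩ := hcase
    haveI : Fact p.Prime := ⟨hp.1⟩
    exact bg1212_nonab hG hM hE hWE hW2 hR hp hS
      (fun P A₀ hPW hP hPsyl hPc hA₀P hA₀ hWA₀ hsq hP2 =>
        Helper47.bg1210_nonab_compl hPW hP hPsyl hPc hA₀P hA₀ hWA₀ hsq hP2)
  · push Not at hcase
    apply bg1212_ab hG hM hE hWE hW2 hR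
    · intro p hp
      haveI : Fact p.Prime := ⟨hp.1⟩
      obtain ⟨S, hS⟩ := hcase p hp
      obtain ⟨P, A, hPE, hP, hPc, hAP, hA, hAc, hom, hsyl⟩ :=
        Helper34.bg1210_syl_exists hG hM hE hp S hS
      have hnorm := bg1210_syl_normal hG hM hE hp hPE hP hPc hAP hA hAc hom hsyl
      exact ⟨P, A, ⟨hPE, hnorm, hP, bg1210_syl_all hP hnorm hsyl, hPc, hAP, hA, hAc, hom, hsyl⟩⟩
    · intro p _ hp P A hS hτ
      exact bg1210_exists_line_aux hG hM hE hWE hp hS
        (fun hdich hWA => Helper34.bg1210_min_elt hG hM hE hWE hR hp hS hτ hdich hWA)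
        (fun {r} hr hrτ {e₁} he₁M ho {H} hH hHM hNH hAH hpH =>
          Helper34.bg1210_step2_nonsigma hG hM hE hp (hS.leA.trans hS.le) hS.elemA hS.cardA
            hr hrτ he₁M ho hH hHM hNH hAH hpH)
        (fun hdich {r e e₁} hr hrp hrτ heE heA her hek he₁ ho {H} hH hNH hAH hpH =>
          Helper24.bg1210_step2_sigma hG hM hE hp hS hdich hr hrp hrτ heE heA her hek he₁ ho
            hH hNH hAH hpH)
    · intro p _ hp P A hS hPW hline
      exact Helper49.bg1210_cyclic hG hM hE hp hS hWE hPW hline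

end Cfsg.Agent.Helper23
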