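/-
helper23: definitions for CALL S1435 (prefix bg65_): the context of a maximal subgroup
`M = K U M_σ` of type P2 with partner `M*`, and the basic facts about a maximal subgroup `H`
containing `K`, `U` that is not conjugate to `M`.
-/
import Cfsg.Agent.Helper68.BG63Main

set_option autoImplicit false

namespace Cfsg.Agent.Helper23

open Cfsg Subgroup

universe u

variable {G : Type u} [Group G] [Finite G]

/-- The context: `M = K U M_σ` maximal with `K ≠ 1`, `U ≠ 1` and partner `M*`. -/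
structure BG65Ctx (M K U Mstar : Subgroup G) : Prop where
  hG : IsMinSimpleOddOrder G
  hM : IsCoatom M
  hKU : IsSigmaDecomposition M K U
  hK1 : K ≠ ⊥
  hU1 : U ≠ ⊥
  hMstar : IsCoatom Mstar
  hKst : K = sigmaCore Mstar ⊓
    centralizer ((sigmaCore M ⊓ centralizer (K : Set G) : Subgroup G) : Set G)
  hKstH : IsPiHallOf (kappa Mstar) (sigmaCore M ⊓ centralizer (K : Set G)) Mstar

/-- The basic facts about a maximal subgroup `H ≥ K U` not conjugate to `M`. -/
structure BG65H (M K U Mstar H : Subgroup G) : Prop where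
  hG : IsMinSimpleOddOrder G
  hH : IsCoatom H
  hKH : K ≤ H
  hUH : U ≤ H
  hnM : ∀ g : G, H ≠ M.map (MulAut.conj g).toMonoidHom
  hnMs : ∀ g : G, H ≠ Mstar.map (MulAut.conj g).toMonoidHom
  hκ : ∀ q : ℕ, q ∉ kappa H
  hKp : (Nat.card K).Prime
  hpσ : Nat.card K ∉ sigma H
  hnil : Group.IsNilpotent (sigmaCore H)
  hfpf : ∀ k ∈ K, k ≠ 1 → ∀ y ∈ sigmaCore H, k * y = y * k → y = 1
  hσ1 : sigmaCore H ≠ ⊥

end Cfsg.Agent.Helper23
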