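/-
helper23: piece DER of CALL S1435.
-/
import Cfsg.Agent.Helper23.BG65Defs
import Cfsg.Agent.S1364
import Cfsg.Agent.S1423
import Cfsg.Agent.S1431

set_option autoImplicit false

namespace Cfsg.Agent.Helper23

open Cfsg Subgroup

universe u

variable {G : Type u} [Group G] [Finite G] {M K U Mstar H : Subgroup G}

/-- DER. A `K`-invariant `σ(M*)`-subgroup `W` with `H` the unique maximal subgroup over `C_G(v)`
for all `v ∈ W#` is centralized by `K`. -/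
theorem bg65_der_false (c : BG65Ctx M K U Mstar) (h : BG65H M K U Mstar H) {W : Subgroup G}
    (hKW : K ≤ normalizer (W : Set G))
    (hWσ : ∀ q : ℕ, q.Prime → q ∣ Nat.card W → q ∈ sigma Mstar)
    (huniq : ∀ v ∈ W, v ≠ 1 →
      ∀ L : Subgroup G, IsCoatom L → centralizer ({v} : Set G) ≤ L → L = H)
    {k w : G} (hk : k ∈ K) (hw : w ∈ W) (hkw : k * w ≠ w * k) : False := by
  obtain ⟨hG, hM, hKU, hK1, hU1, hMstar, hKst, hKstH⟩ := c
  have hKs1 : sigmaCore M ⊓ centralizer (K : Set G) ≠ ⊥ :=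
    (Cfsg.Agent.S1364.result hG M hM K U hKU hK1).2.1
  have h31 := (Cfsg.Agent.S1431.result hG Mstar hMstar (sigmaCore M ⊓ centralizer (K : Set G))
    hKstH hKs1).2.2.2
  have hKσ : K ≤ sigmaCore Mstar := hKst.le.trans inf_le_left
  have hpσs : Nat.card K ∈ sigma Mstar :=
    Helper23.mem_of_dvd_card_piCoreOf (sigma Mstar) Mstar h.hKp (Subgroup.card_dvd_of_le hKσ)
  have hdvd : Nat.card ↥(K ⊔ W) ∣ Nat.card K * Nat.card W :=
    Helper22.card_sup_dvd_of_le_normalizer hKW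
  have hYσ : ∀ p : ℕ, p.Prime → p ∣ Nat.card ↥(K ⊔ W) → p ∈ sigma Mstar := by
    intro q hq hqY
    rcases hq.dvd_mul.mp (hqY.trans hdvd) with h1 | h1
    · rw [(Nat.prime_dvd_prime_iff_eq hq h.hKp).mp h1]
      exact hpσs
    · exact hWσ q hq h1
  have hYne : (K ⊔ W) ⊓ (sigmaCore Mstar ⊓
      centralizer ((sigmaCore M ⊓ centralizer (K : Set G) : Subgroup G) : Set G)) ≠ ⊥ := by
    rw [← hKst]
    intro h0
    apply hK1
    rw [eq_bot_iff, ← h0]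
    exact le_inf le_sup_left le_rfl
  have hYle : K ⊔ W ≤ sigmaCore Mstar := h31 (K ⊔ W) hYσ hYne
  have hkσ : k ∈ sigmaCore Mstar := hYle ((le_sup_left : K ≤ K ⊔ W) hk)
  have hwσ : w ∈ sigmaCore Mstar := hYle ((le_sup_right : W ≤ K ⊔ W) hw)
  have hcW : k * w * k⁻¹ * w⁻¹ ∈ W :=
    W.mul_mem ((mem_normalizer_iff.mp (hKW hk) w).mp hw) (W.inv_mem hw)
  have hcD : k * w * k⁻¹ * w⁻¹ ∈ ⁅sigmaCore Mstar, sigmaCore Mstar⁆ :=
    Subgroup.commutator_mem_commutator hkσ hwσ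
  have hc1 : k * w * k⁻¹ * w⁻¹ ≠ 1 := by
    intro h1
    apply hkw
    have h2 : k * w = (k * w * k⁻¹ * w⁻¹) * (w * k) := by group
    rw [h1, one_mul] at h2
    exact h2
  obtain ⟨q, hq, hqc⟩ : ∃ q : ℕ, q.Prime ∧ q ∣ orderOf (k * w * k⁻¹ * w⁻¹) :=
    Nat.exists_prime_and_dvd (fun h1 => hc1 (orderOf_eq_one_iff.mp h1))
  have hc2o : orderOf ((k * w * k⁻¹ * w⁻¹) ^ (orderOf (k * w * k⁻¹ * w⁻¹) / q)) = q :=
    orderOf_pow_orderOf_div (orderOf_pos _).ne' hqc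
  have hc2W : (k * w * k⁻¹ * w⁻¹) ^ (orderOf (k * w * k⁻¹ * w⁻¹) / q) ∈ W := W.pow_mem hcW _
  have hc2D : (k * w * k⁻¹ * w⁻¹) ^ (orderOf (k * w * k⁻¹ * w⁻¹) / q) ∈
      ⁅sigmaCore Mstar, sigmaCore Mstar⁆ := Subgroup.pow_mem _ hcD _
  have hc21 : (k * w * k⁻¹ * w⁻¹) ^ (orderOf (k * w * k⁻¹ * w⁻¹) / q) ≠ 1 := by
    intro h1
    rw [h1, orderOf_one] at hc2o
    exact hq.one_lt.ne hc2o
  have hqW : q ∣ Nat.card W := by
    rw [← hc2o]
    exact Subgroup.orderOf_dvd_natCard W hc2W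
  have hqσ : q ∈ sigma Mstar := hWσ q hq hqW
  haveI := Fact.mk hq
  obtain ⟨P⟩ : Nonempty (Sylow q ↥(sigmaCore Mstar)) := inferInstance
  have hDσ : ⁅sigmaCore Mstar, sigmaCore Mstar⁆ ≤ sigmaCore Mstar :=
    Subgroup.commutator_le.mpr fun a ha b hb =>
      (sigmaCore Mstar).mul_mem ((sigmaCore Mstar).mul_mem ((sigmaCore Mstar).mul_mem ha hb)
        ((sigmaCore Mstar).inv_mem ha)) ((sigmaCore Mstar).inv_mem hb)
  have hXM : zpowers ((k * w * k⁻¹ * w⁻¹) ^ (orderOf (k * w * k⁻¹ * w⁻¹) / q)) ≤ Mstar :=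
    zpowers_le.mpr (Helper23.piCoreOf_le (sigma Mstar) Mstar (hDσ hc2D))
  have hXcard : Nat.card (zpowers ((k * w * k⁻¹ * w⁻¹) ^ (orderOf (k * w * k⁻¹ * w⁻¹) / q))) = q := by
    rw [Nat.card_zpowers, hc2o]
  have h23 := (Cfsg.Agent.S1423.result hG Mstar hMstar q hqσ _ hXM hXcard P
    (Or.inr (zpowers_le.mpr hc2D))).1
  have hcent : centralizer ({(k * w * k⁻¹ * w⁻¹) ^ (orderOf (k * w * k⁻¹ * w⁻¹) / q)} : Set G) ≤
      Mstar := by
    refine le_trans ?_ h23.1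
    intro x hx
    rw [mem_centralizer_iff] at hx ⊢
    intro y hy
    obtain ⟨n, rfl⟩ := Subgroup.mem_zpowers_iff.mp hy
    have hxc := hx _ rfl
    exact (Commute.zpow_left hxc n).eq
  have hHM := huniq _ hc2W hc21 Mstar hMstar hcent
  apply h.hnMs 1
  rw [← hHM, Helper68.bg63_map_conj_one]

end Cfsg.Agent.Helper23
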