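/-
helper23: piece FACTS of CALL S1435.
-/
import Cfsg.Agent.Helper23.BG65Defs
import Cfsg.Agent.S1355

set_option autoImplicit false

namespace Cfsg.Agent.Helper23

open Cfsg Subgroup

universe u

variable {G : Type u} [Group G] [Finite G] {M K U Mstar H : Subgroup G}

/-- FACTS. The basic facts about `H ≥ K U` (as in the proof of `Helper68.bg63_main`). -/
theorem bg65_facts (c : BG65Ctx M K U Mstar) (hH : IsCoatom H) (hKH : K ≤ H) (hUH : U ≤ H)
    (hnM : ∀ g : G, H ≠ M.map (MulAut.conj g).toMonoidHom) : BG65H M K U Mstar H := by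
  obtain ⟨hG, hM, hKU, hK1, hU1, hMstar, hKst, hKstH⟩ := c
  have hU : Helper22.BGUniq G := fun K hK h1 h2 => Cfsg.Agent.S1403.result hG K hK h1 h2
  have hKp : (Nat.card K).Prime := (Cfsg.Agent.S1372.result hG M hM K U hKU hK1 hU1).1
  have hnMs := Helper23.bg63_nconj_Ms hG hM hKU hK1 hU1 hMstar hKst hKstH hKH hUH
  have hκ : ∀ q : ℕ, q ∉ kappa H := by
    intro q hq
    obtain ⟨g, hg | hg⟩ :=
      (Cfsg.Agent.S1369.result hG M hM K U hKU hK1 Mstar hMstar hKst hKstH).2 H hH ⟨q, hq⟩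
    · exact hnM g hg
    · exact hnMs g hg
  have hpσs : Nat.card K ∈ sigma Mstar := by
    have hKσ : K ≤ sigmaCore Mstar := hKst.le.trans inf_le_left
    exact Helper23.mem_of_dvd_card_piCoreOf (sigma Mstar) Mstar hKp (Subgroup.card_dvd_of_le hKσ)
  have hpσ : Nat.card K ∉ sigma H := by
    intro h
    obtain ⟨g, hg⟩ := (Cfsg.Agent.S1378.result hG).2 Mstar H hMstar hH ⟨_, hpσs, h⟩
    exact hnMs g hg
  have hpH : Nat.card K ∣ Nat.card H := Subgroup.card_dvd_of_le hKH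
  have hnil : Group.IsNilpotent (sigmaCore H) := by
    haveI := Fact.mk hKp
    obtain ⟨S⟩ : Nonempty (Sylow (Nat.card K) H) := inferInstance
    exact (Cfsg.Agent.S1429.result hG H hH (fun h => hκ _ (h _ hKp hpH hpσ)) (Nat.card K) hpH
      (by rintro (h | h); exacts [hpσ h, hκ _ h]) S).2.2
  have hHMs : H ≠ Mstar := by
    intro h
    apply hnMs 1
    rw [h, Helper68.bg63_map_conj_one]
  have hfpf : ∀ k ∈ K, k ≠ 1 → ∀ y ∈ sigmaCore H, k * y = y * k → y = 1 := by
    intro k hk hk1 y hy hky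
    by_contra hy1
    by_cases hrk : PRankLE (Nat.card K) 1 ↥H
    · exact hκ _ (Helper54.bg63_fpf_rank1 hG hKH hKp hpσ hrk hk hk1 hy hy1 hky)
    · have ht : Nat.card K ∈ tau2 H :=
        ⟨hKp, hpσ, Helper22.bg10_pRank_of_not_alpha H _ hKp
          (fun hα => hpσ (Helper22.bg10_alpha_sub_sigma hG hU hH hα)), hrk⟩
      exact hHMs (Helper23.bg63_fpf_tau2 hG hM hKU hK1 hMstar hKst hKstH hKp hH hKH ht hk hk1 hy
        hy1 hky)
  have h55 := Cfsg.Agent.S1355.result hG H hH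
  have hσ1 : sigmaCore H ≠ ⊥ := by
    intro h
    apply h55.1
    have := h55.2.1
    rw [h] at this
    exact le_bot_iff.mp this
  exact ⟨hG, hH, hKH, hUH, hnM, hnMs, hκ, hKp, hpσ, hnil, hfpf, hσ1⟩

end Cfsg.Agent.Helper23
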