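/-
helper23: piece FIN1 of CALL S1435 (double).
-/
import Cfsg.Agent.Helper23.BG65Defs
import Cfsg.Agent.S1364
import Cfsg.Agent.S1367
import Cfsg.Agent.S1431

set_option autoImplicit false

namespace Cfsg.Agent.Helper23

open Cfsg Subgroup

universe u

variable {G : Type u} [Group G] [Finite G] {M K U Mstar H : Subgroup G}

/-- FIN1. `E ≤ M*` when `K ≤ E` centralizes `[E, E]`. -/
theorem bg65_E_le_Ms (c : BG65Ctx M K U Mstar) (h : BG65H M K U Mstar H) {E : Subgroup G}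
    (hE : IsComplIn E (sigmaCore H) H) (hKE : K ≤ E)
    (hcent : ∀ k ∈ K, ∀ a ∈ ⁅E, E⁆, k * a = a * k) : E ≤ Mstar := by
  obtain ⟨hG, hM, hKU, hK1, hU1, hMstar, hKst, hKstH⟩ := c
  have hKs1 : sigmaCore M ⊓ centralizer (K : Set G) ≠ ⊥ :=
    (Cfsg.Agent.S1364.result hG M hM K U hKU hK1).2.1
  have h31 := (Cfsg.Agent.S1431.result hG Mstar hMstar (sigmaCore M ⊓ centralizer (K : Set G))
    hKstH hKs1).1
  have h67 := ((Cfsg.Agent.S1367.result hG M hM K U hKU hK1 Mstar hMstar hKst hKstH).2 K le_rfl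
    h.hKp).1
  have hKcomm : ∀ a ∈ K, ∀ b ∈ K, a * b = b * a := by
    haveI := hKU.cyclic
    intro a ha b hb
    have h1 : (⟨a, ha⟩ : K) * ⟨b, hb⟩ = ⟨b, hb⟩ * ⟨a, ha⟩ := IsCyclic.commGroup.mul_comm _ _
    exact congrArg Subtype.val h1
  intro e he
  by_contra heM
  have heM' : e⁻¹ ∉ Mstar := fun h1 => heM (by simpa using Mstar.inv_mem h1)
  have h0 := h31 e⁻¹ heM'
  rw [← hKst] at h0
  apply hK1
  rw [eq_bot_iff, ← h0]
  refine le_inf le_rfl ?_
  intro k hk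
  rw [Subgroup.mem_map]
  refine ⟨e * k * e⁻¹, h67 ?_, ?_⟩
  · rw [mem_centralizer_iff]
    intro k' hk'
    have hc : e * k * e⁻¹ * k⁻¹ ∈ ⁅E, E⁆ := Subgroup.commutator_mem_commutator he (hKE hk)
    have h1 := hcent k' hk' _ hc
    have h2 := hKcomm k' hk' k hk
    calc k' * (e * k * e⁻¹) = k' * (e * k * e⁻¹ * k⁻¹) * k := by group
      _ = (e * k * e⁻¹ * k⁻¹) * (k' * k) := by rw [h1, mul_assoc]
      _ = (e * k * e⁻¹ * k⁻¹) * (k * k') := by rw [h2]
      _ = e * k * e⁻¹ * k' := by group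
  · simp only [MulEquiv.coe_toMonoidHom, MulAut.conj_apply]
    group

end Cfsg.Agent.Helper23
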