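/-
helper23: piece FIXQ of CALL S1435 (double).
-/
import Cfsg.Agent.Helper23.BG65Defs
import Cfsg.Agent.Helper23.Fit81b
import Cfsg.Agent.Helper47.Syl
import Cfsg.Agent.S1367
import Cfsg.Agent.S1425
import Cfsg.Agent.S1432

set_option autoImplicit false

namespace Cfsg.Agent.Helper23

open Cfsg Subgroup

universe u

variable {G : Type u} [Group G] [Finite G] {M K U Mstar H : Subgroup G}

/-- FIXQ. `q ∈ σ(M*)` if some `a` of order `q` centralizes `k ∈ K#` and commutes with `w ∈ H` of
order `q`, where `k w ≠ w k`, `w` commutes with `k w k⁻¹`, and `H` is the unique maximal subgroup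
over `C_G(w)`. -/
theorem bg65_fix_sigma (c : BG65Ctx M K U Mstar) (h : BG65H M K U Mstar H) {q : ℕ}
    (hq : q.Prime) {k a w : G} (hk : k ∈ K) (hk1 : k ≠ 1) (ha : orderOf a = q)
    (hka : k * a = a * k) (hwH : w ∈ H) (hw : orderOf w = q) (haw : a * w = w * a)
    (hkw : k * w ≠ w * k) (hww : (k * w * k⁻¹) * w = w * (k * w * k⁻¹))
    (huniq : ∀ L : Subgroup G, IsCoatom L → centralizer ({w} : Set G) ≤ L → L = H) :
    q ∈ sigma Mstar := by
  obtain ⟨hG, hM, hKU, hK1, hU1, hMstar, hKst, hKstH⟩ := c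
  haveI : IsSimpleGroup G := hG.2.1
  by_contra hqσ
  haveI := Fact.mk hq
  have hKσ : K ≤ sigmaCore Mstar := hKst.le.trans inf_le_left
  have h67 := ((Cfsg.Agent.S1367.result hG M hM K U hKU hK1 Mstar hMstar hKst hKstH).2 K le_rfl
    h.hKp).1
  have hKz : K ≤ zpowers k := by
    have hle : zpowers k ≤ K := zpowers_le.mpr hk
    have hcard : Nat.card (zpowers k) = Nat.card K := by
      have hd : Nat.card (zpowers k) ∣ Nat.card K := Subgroup.card_dvd_of_le hle
      rcases (Nat.dvd_prime h.hKp).mp hd with h1 | h1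
      · exfalso
        rw [Nat.card_zpowers] at h1
        exact hk1 (orderOf_eq_one_iff.mp h1)
      · exact h1
    exact (Subgroup.eq_of_le_of_card_ge hle hcard.ge).ge
  have haM : a ∈ Mstar := by
    apply h67
    rw [mem_centralizer_iff]
    intro k' hk'
    obtain ⟨n, rfl⟩ := Subgroup.mem_zpowers_iff.mp (hKz hk')
    exact (Commute.zpow_left (show Commute k a from hka) n).eq
  have ha1 : a ≠ 1 := by
    rintro rfl
    rw [orderOf_one] at ha
    exact hq.one_lt.ne ha
  have hw1 : w ≠ 1 := by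
    rintro rfl
    rw [orderOf_one] at hw
    exact hq.one_lt.ne hw
  have haC : a ∈ Mstar ⊓ centralizer ({k} : Set G) := by
    refine Subgroup.mem_inf.mpr ⟨haM, ?_⟩
    rw [mem_centralizer_iff]
    intro y hy
    rw [Set.mem_singleton_iff] at hy
    rw [hy]
    exact hka
  have h32 := Cfsg.Agent.S1432.result hG Mstar hMstar k (hKσ hk) hk1 a haC ha1
    (fun p hp hpa => by
      rw [ha] at hpa
      rw [(Nat.prime_dvd_prime_iff_eq hp hq).mp hpa]
      exact hqσ)
  rcases h32 with ⟨hκ, -⟩ | ⟨-, -, hCa, -⟩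
  · -- `q ∈ κ(M*)`
    have hqκ : q ∈ kappa Mstar := hκ q hq (by rw [ha])
    have hqKs : q ∣ Nat.card ↥(sigmaCore M ⊓ centralizer (K : Set G)) := by
      have h1 := hKstH.2.2 q hq hqκ
      have h2 : q ∣ Nat.card Mstar := hqκ.2.1
      have h4 : Nat.card ↥(sigmaCore M ⊓ centralizer (K : Set G)) *
          (sigmaCore M ⊓ centralizer (K : Set G)).relIndex Mstar = Nat.card Mstar := by
        have h5 := Subgroup.card_mul_index ((sigmaCore M ⊓ centralizer (K : Set G)).subgroupOf Mstar)
        rwa [Nat.card_congr (Subgroup.subgroupOfEquivOfLe hKstH.1).toEquiv] at h5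
      rw [← h4] at h2
      rcases hq.dvd_mul.mp h2 with h3 | h3
      · exact h3
      · exact absurd h3 h1
    have hqσM : q ∈ sigma M := Helper23.mem_of_dvd_card_piCoreOf (sigma M) M hq
      (hqKs.trans (Subgroup.card_dvd_of_le inf_le_left))
    obtain ⟨g, hg⟩ := Cfsg.Agent.S1425.result hG M hM (zpowers w)
      (fun h0 => hw1 (zpowers_eq_bot.mp h0))
      (fun p hp hpw => by
        rw [Nat.card_zpowers, hw] at hpw
        rw [(Nat.prime_dvd_prime_iff_eq hp hq).mp hpw]
        exact hqσM)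
    have hgw : g * w * g⁻¹ ∈ sigmaCore M :=
      hg (Subgroup.mem_map.mpr ⟨w, mem_zpowers w, by simp [MulAut.conj_apply]⟩)
    have h72 := Cfsg.Agent.S1372.result hG M hM K U hKU hK1 hU1
    have hgwF : g * w * g⁻¹ ∈ fittingOf M := h72.2.2 hgw
    have hgw1 : g * w * g⁻¹ ≠ 1 := by
      intro h1
      apply hw1
      have : w = g⁻¹ * (g * w * g⁻¹) * g := by group
      rw [this, h1]
      group
    have hF1 : fittingOf M ≠ ⊥ := fun h0 => hgw1 (by rw [h0] at hgwF; exact Subgroup.mem_bot.mp hgwF)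
    have hFtop : fittingOf M ≠ ⊤ := fun h0 => hM.1 (eq_top_iff.mpr (h0 ▸ Helper23.f81_fittingOf_le M))
    have hNF : normalizer (fittingOf M : Set G) = M := by
      have hle := Helper23.f81_le_normalizer_fittingOf M
      by_contra hne
      exact Helper23.normalizer_ne_top_of_simple hF1 hFtop
        (hM.2 _ (lt_of_le_of_ne hle (Ne.symm hne)))
    have hCM : centralizer ({g * w * g⁻¹} : Set G) ≤ M := by
      intro x hx
      rw [← hNF]
      by_contra hxN
      apply hgw1
      refine h72.2.1 x hxN (g * w * g⁻¹) hgwF ?_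
      have hxc : g * w * g⁻¹ * x = x * (g * w * g⁻¹) := (mem_centralizer_iff.mp hx) _ rfl
      have : x * (g * w * g⁻¹) * x⁻¹ = g * w * g⁻¹ := by
        rw [← hxc]
        group
      rw [this]
      exact hgwF
    have hL : centralizer ({w} : Set G) ≤ M.map (MulAut.conj g⁻¹).toMonoidHom := by
      intro x hx
      rw [Subgroup.mem_map]
      refine ⟨g * x * g⁻¹, hCM ?_, ?_⟩
      · rw [mem_centralizer_iff] at hx ⊢
        intro y hy
        rw [Set.mem_singleton_iff] at hy
        subst hy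
        have hwx := hx w rfl
        calc g * w * g⁻¹ * (g * x * g⁻¹) = g * (w * x) * g⁻¹ := by group
          _ = g * (x * w) * g⁻¹ := by rw [hwx]
          _ = g * x * g⁻¹ * (g * w * g⁻¹) := by group
      · simp only [MulEquiv.coe_toMonoidHom, MulAut.conj_apply]
        group
    have hco : IsCoatom (M.map (MulAut.conj g⁻¹).toMonoidHom) := Helper47.isCoatom_map_conj hM _
    exact h.hnM g⁻¹ (huniq _ hco hL).symm
  · -- `C_G(a) ≤ M*`
    have hwM : w ∈ Mstar := by
      apply hCa
      rw [mem_centralizer_iff]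
      intro y hy
      rw [Set.mem_singleton_iff] at hy
      rw [hy]
      exact haw
    have hcσ : k * w * k⁻¹ * w⁻¹ ∈ sigmaCore Mstar := by
      have hn := Helper23.le_normalizer_piCoreOf (sigma Mstar) Mstar hwM
      have h1 : w * k⁻¹ * w⁻¹ ∈ sigmaCore Mstar :=
        (mem_normalizer_iff.mp hn k⁻¹).mp ((sigmaCore Mstar).inv_mem (hKσ hk))
      have h2 : k * w * k⁻¹ * w⁻¹ = k * (w * k⁻¹ * w⁻¹) := by group
      rw [h2]
      exact (sigmaCore Mstar).mul_mem (hKσ hk) h1
    have hc1 : k * w * k⁻¹ * w⁻¹ ≠ 1 := by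
      intro h1
      apply hkw
      have h2 : k * w = (k * w * k⁻¹ * w⁻¹) * (w * k) := by group
      rw [h1, one_mul] at h2
      exact h2
    have hcq : (k * w * k⁻¹ * w⁻¹) ^ q = 1 := by
      have hcomm : Commute (k * w * k⁻¹) w⁻¹ := (show Commute (k * w * k⁻¹) w from hww).inv_right
      rw [hcomm.mul_pow]
      have h1 : (k * w * k⁻¹) ^ q = 1 := by
        rw [conj_pow, ← hw, pow_orderOf_eq_one]
        group
      have h2 : w⁻¹ ^ q = 1 := by rw [inv_pow, ← hw, pow_orderOf_eq_one, inv_one]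
      rw [h1, h2, one_mul]
    have hco : orderOf (k * w * k⁻¹ * w⁻¹) = q := orderOf_eq_prime hcq hc1
    apply hqσ
    apply Helper23.mem_of_dvd_card_piCoreOf (sigma Mstar) Mstar hq
    rw [← hco]
    exact Subgroup.orderOf_dvd_natCard _ hcσ

end Cfsg.Agent.Helper23
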