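/-
helper23: assembly of CALL S1435 (B&G): for M = K U M_σ of type P2 with partner M*, R a Sylow
subgroup of U and H maximal over N_G(R): κ(H) = ∅, U ≤ H_σ, M ∩ H = U K, N_H(U) ≰ M,
K ≤ F(H ∩ M*), H = (H ∩ M*) ⋉ H_σ.
-/
import Cfsg.Agent.Helper23.BG65Defs
import Cfsg.Agent.Helper10.BG65ABCOP
import Cfsg.Agent.Helper10.BG65COMMK
import Cfsg.Agent.Helper10.BG65DNORM
import Cfsg.Agent.Helper10.BG65PPART
import Cfsg.Agent.Helper11.BG65COP2
import Cfsg.Agent.Helper11.BG65CYC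
import Cfsg.Agent.Helper11.BG65ORDR
import Cfsg.Agent.Helper11.BG65PCENT
import Cfsg.Agent.Helper2.BG65TAU2A
import Cfsg.Agent.Helper20.BG65SUBS
import Cfsg.Agent.Helper23.BG65DER
import Cfsg.Agent.Helper23.BG65FACTS
import Cfsg.Agent.Helper23.BG65FIN1
import Cfsg.Agent.Helper23.BG65FIXQ
import Cfsg.Agent.Helper47.BG65ECOP
import Cfsg.Agent.Helper47.BG65MSINT
import Cfsg.Agent.Helper47.BG65WCENT
import Cfsg.Agent.Helper52.BG65FIN2
import Cfsg.Agent.Helper52.BG65FIN3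
import Cfsg.Agent.Helper54.BG65FIX
import Cfsg.Agent.Helper54.BG65FPFA
import Cfsg.Agent.Helper54.BG65NSIG
import Cfsg.Agent.Helper6.BG65SYLM
import Cfsg.Agent.Helper6.BG65SYLN
import Cfsg.Agent.Helper61.BG65NORMU
import Cfsg.Agent.Helper68.BG65MSINT
import Cfsg.Agent.Helper70.BG65INTER
import Cfsg.Agent.S1355
import Cfsg.Agent.S1361
import Cfsg.Agent.S1364
import Cfsg.Agent.S1367
import Cfsg.Agent.S1368
import Cfsg.Agent.S1417
import Cfsg.Agent.S1418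
import Cfsg.Agent.S1420
import Cfsg.Agent.S1423
import Cfsg.Agent.S1425
import Cfsg.Agent.S1431
import Cfsg.Agent.S1432

set_option autoImplicit false

namespace Cfsg.Agent.Helper23

open Cfsg Subgroup

open scoped commutatorElement

universe u

variable {G : Type u} [Group G] [Finite G] {M K U Mstar H : Subgroup G}


/-- `r ∈ σ(H)` for `H` maximal over `N_G(R)`, `R` a Sylow `r`-subgroup of `U`. -/
theorem bg65_sigma (c : BG65Ctx M K U Mstar) {r : ℕ} (hr : r.Prime) {R : Subgroup G}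
    (hRU : R ≤ U) (hR1 : R ≠ ⊥) (hRr : IsPGroup r R) (hRi : ¬ r ∣ R.relIndex U)
    (hH : IsCoatom H) (hNR : normalizer (R : Set G) ≤ H) : r ∈ sigma H := by
  by_contra hrσ
  have hG := c.hG
  haveI : IsSimpleGroup G := hG.2.1
  haveI := Fact.mk hr
  have hUq : Helper22.BGUniq G := fun K hK h1 h2 => Cfsg.Agent.S1403.result hG K hK h1 h2
  have hUc : IsMulCommutative U := Helper68.bg14r_U_comm hG c.hM c.hKU c.hK1
  have hUhall := Helper68.bg14r_U_hall hG c.hM c.hKU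
  have hUM : U ≤ M := c.hKU.compl.1
  have hNUR := Cfsg.Agent.Helper6.bg65_syl_norm hr hUc hRU hRr hRi
  have hNU : normalizer (U : Set G) ≤ H := hNUR.trans hNR
  have hUH : U ≤ H := le_normalizer.trans hNU
  have hKH : K ≤ H := c.hKU.normal.trans hNU
  have hKR : K ≤ normalizer (R : Set G) := c.hKU.normal.trans hNUR
  have hrU : r ∣ Nat.card U :=
    (Helper22.bg11_dvd_card_of_isPGroup hRr hR1).trans (Subgroup.card_dvd_of_le hRU)
  have hrπ := hUhall.2.1 r hr hrU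
  have hrσM : r ∉ sigma M := hrπ.2.2
  have hRiM : ¬ r ∣ R.relIndex M := by
    rw [← Subgroup.relIndex_mul_relIndex R U M hRU hUM]
    intro h
    rcases (Nat.Prime.dvd_mul hr).mp h with h | h
    · exact hRi h
    · exact hUhall.2.2 r hr hrπ h
  have hnM := Helper68.bg63_nconj_M hr hrσM (hRU.trans hUM) hR1 hRr hRiM hNR
  have h := Cfsg.Agent.Helper23.bg65_facts c hH hKH hUH hnM
  have hRH : R ≤ H := le_normalizer.trans hNR
  have hrk : ¬ PRankLE r 1 ↥H := fun hrk => hrσ (Cfsg.Agent.Helper11.bg65_sigma_of_cyclic hG.1 hr hRH hR1 hRr hNR hrk)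
  have hτ : r ∈ tau2 H :=
    ⟨hr, hrσ, Helper22.bg10_pRank_of_not_alpha H _ hr
      (fun hα => hrσ (Helper22.bg10_alpha_sub_sigma hG hUq hH hα)), hrk⟩
  have hcop := Cfsg.Agent.Helper11.bg65_cop hr h.hKp h.hpσ hrσ hRr hKR
  obtain ⟨E, hE, hKRE⟩ := Helper20.bg13_exists_compl_ge hG hUq hH (sup_le hKH hRH) hcop
  have hKE : K ≤ E := le_sup_left.trans hKRE
  have hRE : R ≤ E := le_sup_right.trans hKRE
  obtain ⟨A, hAE, hAc, hEA, hAcomm, hAexp, hAall, hAσ⟩ := Cfsg.Agent.Helper2.bg65_tau2_A hG hH hE hτ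
  obtain ⟨x, hxR, hxr⟩ := Cfsg.Agent.Helper11.bg65_exists_order hr hR1 hRr
  have hxA : x ∈ A := hAall x (hRE hxR) hxr
  obtain ⟨k, hk, hk1⟩ : ∃ k ∈ K, k ≠ 1 := by
    by_contra hcon
    push Not at hcon
    exact c.hK1 ((Subgroup.eq_bot_iff_forall K).mpr hcon)
  have hkA : k ∈ normalizer (A : Set G) := hEA (hKE hk)
  have hrK : r ≠ Nat.card K := by
    intro hrK
    have h1 := c.hKU.hall.2.1 _ h.hKp dvd_rfl
    rw [← hrK] at h1
    exact hrπ.2.1 h1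
  by_cases hfix : ∀ a ∈ A, k * a = a * k → a = 1
  · have hcen := Cfsg.Agent.Helper54.bg65_fpf_A h hr hrK hrσ (hAE.trans hE.1) hAc hk hk1 hkA hfix
    have h2 : sigmaCore H ≤ sigmaCore H ⊓ centralizer (A : Set G) := le_inf le_rfl hcen
    rw [hAσ] at h2
    exact h.hσ1 (le_bot_iff.mp h2)
  · push Not at hfix
    obtain ⟨a, haA, hka, ha1⟩ := hfix
    have har : orderOf a = r := orderOf_eq_prime (hAexp a haA) ha1
    exact Cfsg.Agent.Helper54.bg65_fix_false c hr (Cfsg.Agent.Helper54.bg65_not_sigma_Ms c hr hRU hR1 hRr hKR) hk hk1 har hka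
      (hRU hxR) hxr (hAcomm a haA x hxA)

/-- `U ≤ H_σ`. -/
theorem bg65_U_le (c : BG65Ctx M K U Mstar) (h : BG65H M K U Mstar H) : U ≤ sigmaCore H := by
  have hG := c.hG
  have hUc : IsMulCommutative U := Helper68.bg14r_U_comm hG c.hM c.hKU c.hK1
  refine Cfsg.Agent.Helper20.bg65_le_sigmaCore hG h.hH h.hUH fun s hs hsU => ?_
  by_contra hsσ
  haveI := Fact.mk hs
  obtain ⟨R0⟩ : Nonempty (Sylow s U) := inferInstance
  obtain ⟨hRU, hR1, hRs, hRi⟩ := Cfsg.Agent.Helper6.bg65_sylow_map hsU R0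
  have hcen := Helper68.bg63_cent hG c.hM c.hKU c.hK1 h.hKp hUc h.hH h.hKH h.hUH h.hpσ h.hnil
    h.hfpf
  obtain ⟨y, hy, hy1⟩ : ∃ y ∈ sigmaCore H, y ≠ 1 := by
    by_contra hcon
    push Not at hcon
    exact h.hσ1 ((Subgroup.eq_bot_iff_forall _).mpr hcon)
  have key : ∀ x ∈ (R0 : Subgroup U).map U.subtype, x ≠ 1 → centralizer ({x} : Set G) ≤ H ∧
      ∀ L : Subgroup G, IsCoatom L → centralizer ({x} : Set G) ≤ L → L = H := by
    intro x hx hx1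
    have hxσ : ∀ q : ℕ, q.Prime → q ∣ orderOf x → q ∉ sigma H := fun q hq hqx => by
      rw [Cfsg.Agent.Helper11.bg65_prime_dvd_order hs hRs hx hq hqx]
      exact hsσ
    have hxC : x ∈ Helper68.bg63C (sigma H) U := Helper68.bg63C_mem_of _ (hRU hx) hxσ
    have hxy : x * y = y * x := (Subgroup.mem_centralizer_iff.mp (hcen hy)) x hxC
    exact (Cfsg.Agent.Helper68.bg65_uniq hG h.hH h.hκ (h.hUH (hRU hx)) hx1 hy hy1 hxy hxσ).2
  have hNR := Cfsg.Agent.Helper61.bg65_norm_le hG h.hH hR1 key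
  exact hsσ (bg65_sigma c hs hRU hR1 hRs hRi h.hH hNR)

/-- `K` centralizes an abelian `p'`-subgroup `Q` of a complement `E ≥ K` that it normalizes. -/
theorem bg65_Q_cent (c : BG65Ctx M K U Mstar) (h : BG65H M K U Mstar H) {E Q : Subgroup G}
    (hE : IsComplIn E (sigmaCore H) H) (hKE : K ≤ E) (hQE : Q ≤ E)
    (hQc : ∀ a ∈ Q, ∀ b ∈ Q, a * b = b * a) (hpQ : ¬ Nat.card K ∣ Nat.card Q)
    (hKQ : K ≤ normalizer (Q : Set G)) : ∀ k ∈ K, ∀ a ∈ Q, k * a = a * k := by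
  have hG := c.hG
  by_contra hcon
  push Not at hcon
  obtain ⟨k, hk, y, hyQ, hky⟩ := hcon
  have hk1 : k ≠ 1 := by
    rintro rfl
    exact hky (by simp)
  obtain ⟨hWQ, hKW⟩ := Cfsg.Agent.Helper10.bg65_comm_basic hKQ
  have hWE : ⁅Q, K⁆ ≤ E := hWQ.trans hQE
  have hWH : ⁅Q, K⁆ ≤ H := hWE.trans hE.1
  obtain ⟨hcopE, hordE⟩ := Cfsg.Agent.Helper47.bg65_E_coprime hG h.hH hE
  have hWcen : sigmaCore H ≤ centralizer ((⁅Q, K⁆ : Subgroup G) : Set G) :=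
    Cfsg.Agent.Helper47.bg65_W_cent h (hQE.trans hE.1) hKQ hpQ (hcopE Q hQE)
  have hWfpf := Cfsg.Agent.Helper10.bg65_comm_fpf hQc h.hKp hpQ hKQ
  have hwW : ⁅y, k⁆ ∈ ⁅Q, K⁆ := Subgroup.commutator_mem_commutator hyQ hk
  have hw1 : ⁅y, k⁆ ≠ 1 := by
    intro h1
    apply hky
    rw [commutatorElement_eq_one_iff_mul_comm] at h1
    exact h1.symm
  have hkw : k * ⁅y, k⁆ ≠ ⁅y, k⁆ * k := fun hkw => hw1 (hWfpf k hk hk1 _ hwW hkw)
  obtain ⟨y0, hy0, hy01⟩ : ∃ y ∈ sigmaCore H, y ≠ 1 := by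
    by_contra hcon
    push Not at hcon
    exact h.hσ1 ((Subgroup.eq_bot_iff_forall _).mpr hcon)
  have huniq : ∀ v ∈ ⁅Q, K⁆, v ≠ 1 → (∀ q : ℕ, q.Prime → q ∣ orderOf v → q ∈ tau2 H) ∧
      centralizer ({v} : Set G) ≤ H ∧
      ∀ L : Subgroup G, IsCoatom L → centralizer ({v} : Set G) ≤ L → L = H := by
    intro v hv hv1
    exact Cfsg.Agent.Helper68.bg65_uniq hG h.hH h.hκ (hWH hv) hv1 hy0 hy01
      ((Subgroup.mem_centralizer_iff.mp (hWcen hy0)) v hv) (hordE v (hWE hv))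
  have hWσ : ∀ q : ℕ, q.Prime → q ∣ Nat.card ↥(⁅Q, K⁆ : Subgroup G) → q ∈ sigma Mstar := by
    intro q hq hqW
    haveI := Fact.mk hq
    obtain ⟨v, hvW, hvq⟩ := Cfsg.Agent.Helper11.bg65_cauchy hq hqW
    have hv1 : v ≠ 1 := by
      rintro rfl
      rw [orderOf_one] at hvq
      exact hq.one_lt.ne hvq
    obtain ⟨hvτ, -, hvu⟩ := huniq v hvW hv1
    have hqτ : q ∈ tau2 H := hvτ q hq (by rw [hvq])
    obtain ⟨A, hAE, hAc, hEA, hAcomm, hAexp, hAall, hAσ⟩ := Cfsg.Agent.Helper2.bg65_tau2_A hG h.hH hE hqτ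
    have hvA : v ∈ A := hAall v (hWE hvW) hvq
    have hkA : k ∈ normalizer (A : Set G) := hEA (hKE hk)
    have hqK : q ≠ Nat.card K := by
      rintro rfl
      exact hpQ (hqW.trans (Subgroup.card_dvd_of_le hWQ))
    by_cases hfix : ∀ a ∈ A, k * a = a * k → a = 1
    · exfalso
      have hcen := Cfsg.Agent.Helper54.bg65_fpf_A h hq hqK hqτ.2.1 (hAE.trans hE.1) hAc hk hk1 hkA hfix
      have h2 : sigmaCore H ≤ sigmaCore H ⊓ centralizer (A : Set G) := le_inf le_rfl hcen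
      rw [hAσ] at h2
      exact h.hσ1 (le_bot_iff.mp h2)
    · push Not at hfix
      obtain ⟨a, haA, hka, ha1⟩ := hfix
      have haq : orderOf a = q := orderOf_eq_prime (hAexp a haA) ha1
      have hkv : k * v ≠ v * k := fun hkv => hv1 (hWfpf k hk hk1 v hvW hkv)
      have hvv : (k * v * k⁻¹) * v = v * (k * v * k⁻¹) := by
        have hkvW : k * v * k⁻¹ ∈ ⁅Q, K⁆ := (Subgroup.mem_normalizer_iff.mp (hKW hk) v).mp hvW
        exact hQc _ (hWQ hkvW) _ (hWQ hvW)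
      exact Cfsg.Agent.Helper23.bg65_fix_sigma c h hq hk hk1 haq hka (hWH hvW) hvq (hAcomm a haA v hvA) hkv hvv hvu
  exact Cfsg.Agent.Helper23.bg65_der_false c h hKW hWσ (fun v hv hv1 => (huniq v hv hv1).2.2) hk hwW hkw

/-- `K` centralizes `[E, E]` for a complement `E ≥ K` of `H_σ` in `H`. -/
theorem bg65_K_cent (c : BG65Ctx M K U Mstar) (h : BG65H M K U Mstar H) {E : Subgroup G}
    (hE : IsComplIn E (sigmaCore H) H) (hKE : K ≤ E) :
    (∀ a ∈ ⁅E, E⁆, ∀ b ∈ ⁅E, E⁆, a * b = b * a) ∧ ∀ k ∈ K, ∀ a ∈ ⁅E, E⁆, k * a = a * k := by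
  have hG := c.hG
  have hE'ab : IsMulCommutative ↥⁅E, E⁆ := (Cfsg.Agent.S1420.result hG H h.hH E hE).2.1
  have hcomm : ∀ a ∈ ⁅E, E⁆, ∀ b ∈ ⁅E, E⁆, a * b = b * a := fun a ha b hb =>
    congrArg Subtype.val (hE'ab.is_comm.comm (⟨a, ha⟩ : ↥⁅E, E⁆) ⟨b, hb⟩)
  refine ⟨hcomm, ?_⟩
  obtain ⟨P, Q, hPA, hQA, hP, hQ, hdec, hnorm⟩ := Cfsg.Agent.Helper10.bg65_ppart hcomm h.hKp
  have hE'E : ⁅E, E⁆ ≤ E := Subgroup.commutator_le.mpr fun a ha b hb =>
    E.mul_mem (E.mul_mem (E.mul_mem ha hb) (E.inv_mem ha)) (E.inv_mem hb)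
  have hEn := Cfsg.Agent.Helper10.bg65_comm_norm E
  have hKP : K ≤ normalizer (P : Set G) := fun k hk => (hnorm k (hEn (hKE hk))).1
  have hKQ : K ≤ normalizer (Q : Set G) := fun k hk => (hnorm k (hEn (hKE hk))).2
  have h1 := Cfsg.Agent.Helper11.bg65_P_cent h ((hPA.trans hE'E).trans hE.1) hP hKP
  have h2 := bg65_Q_cent c h hE hKE (hQA.trans hE'E)
    (fun a ha b hb => hcomm a (hQA ha) b (hQA hb)) hQ hKQ
  intro k hk a ha
  obtain ⟨a1, ha1, a2, ha2, rfl⟩ := hdec a ha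
  rw [← mul_assoc, h1 k hk a1 ha1, mul_assoc, h2 k hk a2 ha2, mul_assoc]

/-- The statement of S1435 with `R` a subgroup of `G`. -/
theorem bg65_main (hG : IsMinSimpleOddOrder G) (hM : IsCoatom M)
    (hKU : IsSigmaDecomposition M K U) (hK1 : K ≠ ⊥) (hU1 : U ≠ ⊥) (hMstar : IsCoatom Mstar)
    (hKst : K = sigmaCore Mstar ⊓
      centralizer ((sigmaCore M ⊓ centralizer (K : Set G) : Subgroup G) : Set G))
    (hKstH : IsPiHallOf (kappa Mstar) (sigmaCore M ⊓ centralizer (K : Set G)) Mstar)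
    {r : ℕ} (hr : r.Prime) {R : Subgroup G} (hRU : R ≤ U) (hR1 : R ≠ ⊥) (hRr : IsPGroup r R)
    (hRi : ¬ r ∣ R.relIndex U) (hH : IsCoatom H) (hNR : normalizer (R : Set G) ≤ H) :
    kappa H = ∅ ∧ U ≤ sigmaCore H ∧ M ⊓ H = U ⊔ K ∧ ¬ H ⊓ normalizer (U : Set G) ≤ M ∧
      K ≤ fittingOf (H ⊓ Mstar) ∧ IsComplIn (H ⊓ Mstar) (sigmaCore H) H := by
  have c : BG65Ctx M K U Mstar := ⟨hG, hM, hKU, hK1, hU1, hMstar, hKst, hKstH⟩
  haveI := Fact.mk hr
  have hUq : Helper22.BGUniq G := fun K hK h1 h2 => Cfsg.Agent.S1403.result hG K hK h1 h2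
  have hUc : IsMulCommutative U := Helper68.bg14r_U_comm hG hM hKU hK1
  have hUhall := Helper68.bg14r_U_hall hG hM hKU
  have hUM : U ≤ M := hKU.compl.1
  have hNU : normalizer (U : Set G) ≤ H := (Cfsg.Agent.Helper6.bg65_syl_norm hr hUc hRU hRr hRi).trans hNR
  have hUH : U ≤ H := le_normalizer.trans hNU
  have hKH : K ≤ H := hKU.normal.trans hNU
  have hrU : r ∣ Nat.card U :=
    (Helper22.bg11_dvd_card_of_isPGroup hRr hR1).trans (Subgroup.card_dvd_of_le hRU)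
  have hrπ := hUhall.2.1 r hr hrU
  have hRiM : ¬ r ∣ R.relIndex M := by
    rw [← Subgroup.relIndex_mul_relIndex R U M hRU hUM]
    intro h
    rcases (Nat.Prime.dvd_mul hr).mp h with h | h
    · exact hRi h
    · exact hUhall.2.2 r hr hrπ h
  have hnM := Helper68.bg63_nconj_M hr hrπ.2.2 (hRU.trans hUM) hR1 hRr hRiM hNR
  have h := Cfsg.Agent.Helper23.bg65_facts c hH hKH hUH hnM
  have hUσ := bg65_U_le c h
  refine ⟨Set.eq_empty_iff_forall_notMem.mpr h.hκ, hUσ, Cfsg.Agent.Helper70.bg65_inter c h hUσ, ?_, ?_⟩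
  · intro hle
    apply Helper68.bg63_main hG hM hKU hK1 hU1 hMstar hKst hKstH
    exact fun g hg => (hle (Subgroup.mem_inf.mpr ⟨hNU hg, hg⟩))
  · have hcopK : (Nat.card K).Coprime (Nat.card (sigmaCore H)) :=
      (Nat.Prime.coprime_iff_not_dvd h.hKp).mpr
        (fun hd => h.hpσ (Helper23.mem_of_dvd_card_piCoreOf (sigma H) H h.hKp hd))
    obtain ⟨E, hE, hKE⟩ := Helper20.bg13_exists_compl_ge hG hUq hH hKH hcopK
    obtain ⟨hE'c, hcent⟩ := bg65_K_cent c h hE hKE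
    have hEM := Cfsg.Agent.Helper23.bg65_E_le_Ms c h hE hKE hcent
    have hEq : H ⊓ Mstar = E := Cfsg.Agent.Helper52.bg65_inter_eq hE hEM (Cfsg.Agent.Helper47.bg65_Ms_inter c h)
    rw [hEq]
    exact ⟨Cfsg.Agent.Helper52.bg65_le_fitting hKE hKU.cyclic hE'c hcent, hE⟩

end Cfsg.Agent.Helper23
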