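import Cfsg.Agent.Helper23.BG1210
import Cfsg.Agent.S1411
import Cfsg.Agent.S1414
import Cfsg.Agent.Helper49.BG1216
import Cfsg.Agent.Helper35.CoprimeSylow
import Cfsg.Agent.Helper23.Rank2GL
import Cfsg.Agent.Helper23.Rank2Fit
import Cfsg.Agent.Helper49.OddCyclic
import Cfsg.Agent.Helper49.BG107a
import Cfsg.Agent.S1408

/-!
# CALL S1421, piece P2b: in the abelian Sylow case the Sylow `p`-subgroup of `E` is normal in `E`
-/

set_option autoImplicit false

namespace Cfsg.Agent.Helper23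

open Cfsg Subgroup Cfsg.Agent.Helper22 Cfsg.Agent.Helper35

universe u

variable {G : Type u} [Group G] [Finite G]

/-- If `P` is a Sylow `p`-subgroup of `G` whose elements of order dividing `p` lie in a subgroup
`A` of order `p ^ 2`, then `G` has `p`-rank at most `2`. -/
theorem bg1210_prank_two {p : ℕ} [Fact p.Prime] {P A : Subgroup G} (hP : IsPGroup p P)
    (hAc : Nat.card A = p ^ 2) (hom : ∀ x ∈ P, x ^ p = 1 → x ∈ A)
    (hsyl : ∀ Q : Subgroup G, IsPGroup p Q → P ≤ Q → Q = P) : PRankLE p 2 G := by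
  intro B _ hBe
  have hB : IsPGroup p B := fun b => ⟨1, by
    rw [pow_one]; exact Subtype.ext (by simpa using hBe b b.2)⟩
  let S₀ : Sylow p G := ⟨P, hP, fun {Q} hQ hle => hsyl Q hQ hle⟩
  obtain ⟨Q, hBQ⟩ := hB.exists_le_sylow
  obtain ⟨g, hg⟩ := MulAction.exists_smul_eq G Q S₀
  have hmem : ∀ b ∈ B, g * b * g⁻¹ ∈ A := by
    intro b hb
    have h1 : g * b * g⁻¹ ∈ (S₀ : Subgroup G) := by
      rw [← hg, Sylow.coe_subgroup_smul]
      have : g * b * g⁻¹ = MulAut.conj g • b := rfl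
      rw [this]
      exact Subgroup.smul_mem_pointwise_smul _ _ _ (hBQ hb)
    apply hom _ h1
    rw [conj_pow, hBe b hb]; group
  rw [← hAc]
  apply Nat.card_le_card_of_injective (fun b : B => (⟨g * b * g⁻¹, hmem b b.2⟩ : A))
  intro b c hbc
  have h1 : g * (b : G) * g⁻¹ = g * (c : G) * g⁻¹ := congrArg Subtype.val hbc
  exact Subtype.ext (by simpa using h1)

/-- One-sided conjugation-invariance gives normalizer membership for a whole subgroup. -/
theorem bg1210_le_normalizer {H K : Subgroup G} (h : ∀ g ∈ H, ∀ x ∈ K, g * x * g⁻¹ ∈ K) :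
    H ≤ normalizer (K : Set G) := fun g hg => bg10_mem_normalizer (h g hg)

/-- Two commuting-up-to-`c` elements: if `y x y⁻¹ = c x` with `c` commuting with `x`, `x` a
`p`-element and `c` of order prime to `p`, then `c = 1`. -/
theorem bg1210_comm_trick {x y c : G} {m n : ℕ} (hc : y * x * y⁻¹ = c * x) (hcx : c * x = x * c)
    (hxm : x ^ m = 1) (hcn : c ^ n = 1) (hmn : Nat.Coprime m n) : c = 1 := by
  have h1 : (c * x) ^ m = c ^ m * x ^ m := (Commute.mul_pow hcx m)
  have h2 : (y * x * y⁻¹) ^ m = 1 := by rw [conj_pow, hxm]; group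
  rw [hc, h1, hxm, mul_one] at h2
  have h3 : orderOf c ∣ m := orderOf_dvd_of_pow_eq_one h2
  have h4 : orderOf c ∣ n := orderOf_dvd_of_pow_eq_one hcn
  have h5 : orderOf c ∣ 1 := by
    have := Nat.dvd_gcd h3 h4
    rwa [hmn] at this
  exact orderOf_eq_one_iff.mp (Nat.dvd_one.mp h5)

/-- The `r`-part of a commutative subgroup `D`. -/
def bg1210RPart (r : ℕ) (D : Subgroup G) (hD : ∀ x ∈ D, ∀ y ∈ D, x * y = y * x) : Subgroup G where
  carrier := {z | z ∈ D ∧ z ^ r ^ Nat.card G = 1}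
  mul_mem' := by
    rintro a b ⟨ha, ha'⟩ ⟨hb, hb'⟩
    refine ⟨D.mul_mem ha hb, ?_⟩
    have hc : Commute a b := hD a ha b hb
    rw [hc.mul_pow, ha', hb', one_mul]
  one_mem' := ⟨D.one_mem, one_pow _⟩
  inv_mem' := by
    rintro a ⟨ha, ha'⟩
    exact ⟨D.inv_mem ha, by rw [inv_pow, ha', inv_one]⟩

omit [Finite G] in
theorem bg1210_mem_rPart {r : ℕ} {D : Subgroup G} {hD : ∀ x ∈ D, ∀ y ∈ D, x * y = y * x} {z : G} :
    z ∈ bg1210RPart r D hD ↔ z ∈ D ∧ z ^ r ^ Nat.card G = 1 := Iff.rfl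

/-- An `r`-element of `D` lies in the `r`-part. -/
theorem bg1210_mem_rPart_of_pow {r : ℕ} (hr : r.Prime) {D : Subgroup G}
    {hD : ∀ x ∈ D, ∀ y ∈ D, x * y = y * x} {z : G} (hz : z ∈ D) {k : ℕ} (hk : z ^ r ^ k = 1) :
    z ∈ bg1210RPart r D hD := by
  refine ⟨hz, ?_⟩
  obtain ⟨j, hj, hjo⟩ := (Nat.dvd_prime_pow hr).mp (orderOf_dvd_of_pow_eq_one hk)
  have h1 : orderOf z ∣ Nat.card G := orderOf_dvd_natCard z
  have h2 : j ≤ Nat.card G := by
    by_contra hlt
    push Not at hlt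
    have h3 : r ^ j ≤ Nat.card G := hjo ▸ Nat.le_of_dvd Nat.card_pos h1
    have h4 : j < r ^ j := Nat.lt_pow_self hr.one_lt
    omega
  exact orderOf_dvd_iff_pow_eq_one.mp (hjo ▸ pow_dvd_pow r h2)

theorem bg1210_isPGroup_rPart {r : ℕ} {D : Subgroup G}
    {hD : ∀ x ∈ D, ∀ y ∈ D, x * y = y * x} : IsPGroup r (bg1210RPart r D hD) := fun z =>
  ⟨Nat.card G, Subtype.ext (by simpa using z.2.2)⟩

omit [Finite G] in
theorem bg1210_eq_one_of_coprime {c : G} {m n : ℕ} (hm : c ^ m = 1) (hn : c ^ n = 1)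
    (h : Nat.Coprime m n) : c = 1 := by
  have h5 : orderOf c ∣ 1 := by
    have := Nat.dvd_gcd (orderOf_dvd_of_pow_eq_one hm) (orderOf_dvd_of_pow_eq_one hn)
    rwa [h] at this
  exact orderOf_eq_one_iff.mp (Nat.dvd_one.mp h5)

theorem bg1210_pow_card_of_mem {H : Subgroup G} {x : G} (hx : x ∈ H) : x ^ Nat.card H = 1 := by
  have h := congrArg Subtype.val (pow_card_eq_one' (G := H) (x := ⟨x, hx⟩))
  simpa only [Subgroup.coe_pow, Subgroup.coe_mk, Subgroup.coe_one] using h

/-- **Piece P2b of CALL S1421**, modulo `N_G(A)' ≤ C_G(A)` (piece P3a). -/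
theorem bg1210_syl_normal_aux (hG : IsMinSimpleOddOrder G) {M E : Subgroup G} (hM : IsCoatom M)
    (hE : IsComplIn E (sigmaCore M) M) {p : ℕ} [Fact p.Prime] (hp : p ∈ tau2 M)
    {P A : Subgroup G} (hPE : P ≤ E) (hP : IsPGroup p P)
    (hPc : ∀ x ∈ P, ∀ y ∈ P, x * y = y * x) (hAP : A ≤ P)
    (hA : IsElementaryAbelian p A) (hAc : Nat.card A = p ^ 2)
    (hom : ∀ x ∈ P, x ^ p = 1 → x ∈ A)
    (hsyl : ∀ Q : Subgroup G, IsPGroup p Q → P ≤ Q → Q = P)
    (hcomm : ∀ g ∈ normalizer (A : Set G), ∀ h ∈ normalizer (A : Set G),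
      g * h * g⁻¹ * h⁻¹ ∈ centralizer (A : Set G)) :
    E ≤ normalizer (P : Set G) := by
  have hpp : p.Prime := Fact.out
  have hU : BGUniq G := fun K hK h1 h2 => S1403.result hG K hK h1 h2
  haveI hsimple : IsSimpleGroup G := hG.2.1
  have hAE : A ≤ E := hAP.trans hPE
  obtain ⟨⟨hEA, -⟩, ⟨hCE, hMN, hNM⟩, -⟩ :=
    S1418.result hG M hM E hE p hp A ⟨hAE, hA, hAc⟩
  have hCE' : centralizer (A : Set G) ≤ E := by rw [← hMN]; exact hCE
  have hNPA : normalizer (P : Set G) ≤ normalizer (A : Set G) := by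
    intro g hg
    apply bg10_mem_normalizer
    intro a ha
    have h1 : g * a * g⁻¹ ∈ P := (mem_normalizer_iff.mp hg a).mp (hAP ha)
    exact hom _ h1 (by rw [conj_pow, hA.2 a ha]; group)
  have hA1 : A ≠ ⊥ := by
    intro h
    rw [h, Subgroup.card_bot] at hAc
    have := hpp.one_lt
    nlinarith
  have hA2 : A ≠ ⊤ := fun h => hM.1 (top_le_iff.mp (h ▸ hAE.trans hE.1))
  obtain ⟨L, hL, hNL⟩ := uq_exists_coatom_ge (normalizer_ne_top_of_simple hA1 hA2)
  have hEL : E ≤ L := hEA.trans hNL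
  have hPL : P ≤ L := hPE.trans hEL
  have hAL : A ≤ L := hAE.trans hEL
  have hr2G : PRankLE p 2 G := bg1210_prank_two hP hAc hom hsyl
  have hSylL : IsSylowOf p P L := ⟨hPL, hP, fun T _ hT hle => hsyl T hT hle⟩
  have hpσ : p ∈ sigma L := by
    by_contra hpσ
    have hr2L : PRankLE p 2 ↥L := Helper49.pRankLE_subgroup hr2G L
    have hr1L : ¬ PRankLE p 1 ↥L := by
      intro h
      haveI := hA.1
      have h1 := h (A.subgroupOf L) inferInstance
        (fun a ha => Subtype.ext (by simpa using hA.2 a ha))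
      rw [card_subgroupOf_of_le hAL, hAc] at h1
      have := hpp.one_lt
      nlinarith
    have hpτ : p ∈ tau2 L := ⟨hpp, hpσ, hr2L, hr1L⟩
    obtain ⟨-, hb, -⟩ := S1417.result hG L hL p hpτ A ⟨hAL, hA, hAc⟩
    obtain ⟨P', hP'⟩ := hSylL.exists_sylow
    have hmap : (P' : Subgroup L).map L.subtype = P := by
      rw [hP']; exact Subgroup.map_subgroupOf_eq_of_le hPL
    have h2 := ((hb P').2 (by rw [hmap]; exact hAP)).2
    rw [hmap] at h2
    exact h2 (hNPA.trans hNL)
  have hpβ : p ∉ beta L := fun h => h.2.2.1 hr2G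
  obtain ⟨-, -, -, -, hcomp⟩ := S1414.result hG L hL
  have hpL : p ∣ Nat.card L := by
    have h1 : Nat.card A ∣ Nat.card L := Subgroup.card_dvd_of_le hAL
    rw [hAc] at h1
    exact (dvd_pow_self p two_ne_zero).trans h1
  have hPσ : P ≤ sigmaCore L := by
    apply Helper49.bg1216_le_sigmaCore hG hU hL hPL
    intro q hq hqd
    obtain ⟨k, hk⟩ := IsPGroup.iff_card.mp hP
    rw [hk] at hqd
    rw [(Nat.prime_dvd_prime_iff_eq hq hpp).mp (hq.dvd_of_dvd_pow hqd)]
    exact hpσ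
  have hLσL : sigmaCore L ≤ L := Subgroup.map_subtype_le _
  have hLσn : L ≤ normalizer ((sigmaCore L : Subgroup G) : Set G) :=
    le_normalizer_piCoreOf (sigma L) L
  -- the normal `p`-complement of `L_σ`
  obtain ⟨P₁, K, hKn, hKc⟩ := (hcomp p hpp hpL hpβ).2.1
  have hKp : ¬ p ∣ Nat.card K := by
    rw [← hKc.index_eq_card]; exact P₁.not_dvd_index
  have hSylσ : IsSylowOf p P (sigmaCore L) := ⟨hPσ, hP, fun T _ hT hle => hsyl T hT hle⟩
  obtain ⟨P₂, hP₂⟩ := hSylσ.exists_sylow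
  have hcard12 : Nat.card (P₂ : Subgroup (sigmaCore L)) =
      Nat.card (P₁ : Subgroup (sigmaCore L)) := by
    rw [Sylow.card_eq_multiplicity, Sylow.card_eq_multiplicity]
  have hKc2 : K.IsComplement' (P₂ : Subgroup (sigmaCore L)) := by
    apply Subgroup.isComplement'_of_coprime
    · rw [hcard12]; exact hKc.card_mul_card
    · obtain ⟨k, hk⟩ := IsPGroup.iff_card.mp P₂.2
      rw [hk]
      exact ((hpp.coprime_iff_not_dvd.mpr hKp).symm).pow_right k
  set Kg : Subgroup G := K.map (sigmaCore L).subtype with hKg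
  have hKgσ : Kg ≤ sigmaCore L := Subgroup.map_subtype_le _
  have hKgcard : Nat.card Kg = Nat.card K :=
    Subgroup.card_map_of_injective (Subgroup.subtype_injective _)
  have hKgn : ∀ g ∈ sigmaCore L, ∀ z ∈ Kg, g * z * g⁻¹ ∈ Kg := by
    rintro g hg _ ⟨w, hw, rfl⟩
    exact ⟨⟨g, hg⟩ * w * ⟨g, hg⟩⁻¹, hKn.conj_mem w hw ⟨g, hg⟩, rfl⟩
  have hdec : ∀ t ∈ sigmaCore L, ∃ k ∈ Kg, ∃ x ∈ P, t = k * x := by
    intro t ht
    obtain ⟨⟨k, x⟩, hkx⟩ := hKc2.2 ⟨t, ht⟩
    refine ⟨((k : sigmaCore L) : G), ⟨k, k.2, rfl⟩, ((x : sigmaCore L) : G), ?_, ?_⟩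
    · have h1 : (x : sigmaCore L) ∈ (P₂ : Subgroup (sigmaCore L)) := x.2
      have h2 : (x : sigmaCore L) ∈ P.subgroupOf (sigmaCore L) := by rw [← hP₂]; exact h1
      exact Subgroup.mem_subgroupOf.mp h2
    · have := congrArg Subtype.val hkx
      simpa using this.symm
  set T₀ : Subgroup G := Kg ⊓ E with hT₀
  have hT₀p : ¬ p ∣ Nat.card T₀ := fun h =>
    hKp (hKgcard ▸ h.trans (Subgroup.card_dvd_of_le inf_le_left))
  have hPT₀ : P ≤ normalizer (T₀ : Set G) :=
    bg1210_le_normalizer (fun x hx z hz =>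
      ⟨hKgn x (hPσ hx) z hz.1, E.mul_mem (E.mul_mem (hPE hx) hz.2) (E.inv_mem (hPE hx))⟩)
  obtain ⟨kP, hkP⟩ := IsPGroup.iff_card.mp hP
  have hcopT : (Nat.card P).Coprime (Nat.card T₀) := by
    rw [hkP]
    exact (hpp.coprime_iff_not_dvd.mpr hT₀p).pow_left kP
  have hPsolv : Group.IsSolvable P := isSolvable_of_forall_comm hPc
  have key : ∀ (r : ℕ) [Fact r.Prime], ∀ R' ∈ sylowSet r T₀, P ≤ normalizer (R' : Set G) →
      R' ≤ centralizer (P : Set G) := by
    intro r hrf R' hR' hPR'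
    have hr : r.Prime := hrf.out
    intro y hy
    rw [mem_centralizer_iff]
    intro x hx
    have hRr : IsPGroup r R' := isPGroup_of_mem_sylowSet hR'
    have hRT : R' ≤ T₀ := hR'.1
    set c : G := y * x * y⁻¹ * x⁻¹ with hc
    have hcR : c ∈ R' := by
      have h1 : x * y⁻¹ * x⁻¹ ∈ R' := (mem_normalizer_iff.mp (hPR' hx) y⁻¹).mp (R'.inv_mem hy)
      have : c = y * (x * y⁻¹ * x⁻¹) := by rw [hc]; group
      rw [this]; exact R'.mul_mem hy h1
    have hcn : c ^ Nat.card R' = 1 := bg1210_pow_card_of_mem hcR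
    suffices hc1 : c = 1 by
      have h1 : y * x = c * (x * y) := by rw [hc]; group
      rw [h1, hc1, one_mul]
    by_contra hcne
    have hR1 : R' ≠ ⊥ := by
      rintro rfl
      exact hcne ((Subgroup.mem_bot).mp hcR)
    obtain ⟨f, hf⟩ := IsPGroup.iff_card.mp hRr
    have hf0 : f ≠ 0 := by
      rintro rfl
      rw [pow_zero] at hf
      exact hR1 (Subgroup.card_eq_one.mp hf)
    have hrR : r ∣ Nat.card R' := hf ▸ dvd_pow_self r hf0
    have hrT : r ∣ Nat.card T₀ := hrR.trans (Subgroup.card_dvd_of_le hRT)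
    have hrne : r ≠ p := by
      rintro rfl
      exact hT₀p hrT
    have hRE : R' ≤ E := hRT.trans inf_le_right
    have hrL : r ∣ Nat.card L := hrR.trans (Subgroup.card_dvd_of_le (hRE.trans hEL))
    have hcopPR : (Nat.card P).Coprime (Nat.card R') := by
      rw [hkP, hf]
      exact Nat.Coprime.pow _ _ ((Nat.coprime_primes hpp hr).mpr (Ne.symm hrne))
    apply hcne
    by_cases hrβ : r ∈ beta L
    · -- `r ∈ β(L)`: `r`-subgroups of `M` are cyclic
      have hrodd : r ≠ 2 := by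
        rintro rfl
        have h2 : 2 ∣ Nat.card G := hrL.trans (Subgroup.card_subgroup_dvd_card L)
        exact (Nat.not_even_iff_odd.mpr hG.1) (even_iff_two_dvd.mpr h2)
      have hrE : r ∣ Nat.card E := hrR.trans (Subgroup.card_dvd_of_le hRE)
      have hMσn : M ≤ normalizer ((sigmaCore M : Subgroup G) : Set G) :=
        le_normalizer_piCoreOf (sigma M) M
      have hrσM : r ∉ sigma M := by
        intro h
        have hH := (bg10_sigma_hall hG hU hM).1
        apply hH.2.2 r hr h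
        have h1 := bg12_card_compl hMσn hE
        have h2 : Nat.card (sigmaCore M) * (sigmaCore M).relIndex M = Nat.card M := by
          have := Subgroup.card_mul_index ((sigmaCore M).subgroupOf M)
          rwa [card_subgroupOf_of_le hH.1] at this
        have h3 : (sigmaCore M).relIndex M = Nat.card E :=
          Nat.eq_of_mul_eq_mul_left Nat.card_pos (h2.trans (by rw [← h1, mul_comm]))
        rw [h3]; exact hrE
      have hr2M : PRankLE r 2 ↥M := by
        by_contra h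
        exact hrσM (bg10_alpha_sub_sigma hG hU hM ⟨hr, h⟩)
      have hr1M : PRankLE r 1 ↥M := by
        by_contra h
        exact (S1408.result hG M hM r hrσM hr2M h).1 hrβ.2
      obtain ⟨-, hEEc, -, -⟩ := S1420.result hG M hM E hE
      have hDc : ∀ a ∈ ⁅E, E⁆, ∀ b ∈ ⁅E, E⁆, a * b = b * a := fun a ha b hb =>
        congrArg Subtype.val (hEEc.is_comm.comm ⟨a, ha⟩ ⟨b, hb⟩)
      set D₀ : Subgroup G := bg1210RPart r ⁅E, E⁆ hDc with hD₀
      have hcEE : c ∈ ⁅E, E⁆ := by
        have h1 := Subgroup.commutator_mem_commutator (hRE hy) (hPE hx)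
        rwa [commutatorElement_def] at h1
      have hcD : c ∈ D₀ := bg1210_mem_rPart_of_pow hr hcEE (hf ▸ hcn)
      have hEEE : ⁅E, E⁆ ≤ E := by
        rw [Subgroup.commutator_le]
        intro a ha b hb
        rw [commutatorElement_def]
        exact E.mul_mem (E.mul_mem (E.mul_mem ha hb) (E.inv_mem ha)) (E.inv_mem hb)
      have hD₀M : D₀ ≤ M := fun z hz => hE.1 (hEEE hz.1)
      have hD₀cyc : IsCyclic D₀ :=
        Helper49.isCyclic_of_pRankLE_one hrodd bg1210_isPGroup_rPart (pRankLE_of_le hD₀M hr1M)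
      have hND : normalizer (P : Set G) ≤ normalizer (D₀ : Set G) := by
        apply bg1210_le_normalizer
        intro g hg z hz
        have hgN := hNPA hg
        have hgE : E.map (MulAut.conj g).toMonoidHom ≤ E := by
          rintro _ ⟨e, he, rfl⟩
          have h1 := hcomm g hgN e (hEA he)
          have : (MulAut.conj g).toMonoidHom e = (g * e * g⁻¹ * e⁻¹) * e := by
            simp [MulAut.conj_apply]
          rw [this]; exact E.mul_mem (hCE' h1) he
        have hgEE : g * z * g⁻¹ ∈ ⁅E, E⁆ := by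
          have h1 : (MulAut.conj g).toMonoidHom z ∈ (⁅E, E⁆).map (MulAut.conj g).toMonoidHom :=
            Subgroup.mem_map_of_mem _ hz.1
          rw [Subgroup.map_commutator] at h1
          exact Subgroup.commutator_mono hgE hgE h1
        exact ⟨hgEE, by rw [conj_pow, hz.2]; group⟩
      let S₀ : Sylow p G := ⟨P, hP, fun {Q} hQ hle => hsyl Q hQ hle⟩
      obtain ⟨V, hV, -⟩ := Helper49.bg107a_exists_compl S₀
      have hPcomm : P ≤ ⁅normalizer (P : Set G), normalizer (P : Set G)⁆ :=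
        (S1411.result hG p S₀ V hV).2
      have hxc : x ∈ centralizer (D₀ : Set G) := by
        have hx' := hPcomm hx
        rw [← Subgroup.map_subtype_commutator] at hx'
        obtain ⟨x₀, hx₀, hx₀x⟩ := hx'
        haveI := hD₀cyc
        let φ := conjActHom D₀ (normalizer (P : Set G)) hND
        let ψ : ↥(normalizer (P : Set G)) →* (ZMod (Nat.card D₀))ˣ :=
          (IsCyclic.mulAutMulEquiv D₀).toMonoidHom.comp φ
        have h1 : x₀ ∈ ψ.ker := Abelianization.commutator_subset_ker ψ hx₀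
        have h2 : φ x₀ = 1 := by
          have h3 : (IsCyclic.mulAutMulEquiv D₀) (φ x₀) = 1 := MonoidHom.mem_ker.mp h1
          exact (IsCyclic.mulAutMulEquiv D₀).injective (by rw [h3, map_one])
        have h4 := mem_centralizer_of_conjActHom_eq_one D₀ _ hND x₀ h2
        rw [← hx₀x]; exact h4
      have hcx : c * x = x * c := mem_centralizer_iff.mp hxc c hcD
      exact bg1210_comm_trick (x := x) (y := y) (c := c) (by rw [hc]; group) hcx
        (bg1210_pow_card_of_mem hx) hcn hcopPR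
    · -- `r ∉ β(L)`: normal `r`-complement of `L_σ`
      obtain ⟨R₁, Kr, hKrn, hKrc⟩ := (hcomp r hr hrL hrβ).2.1
      have hKr : ¬ r ∣ Nat.card Kr := by
        rw [← hKrc.index_eq_card]; exact R₁.not_dvd_index
      have hxσ : x ∈ sigmaCore L := hPσ hx
      have hyσ : y ∈ sigmaCore L := hKgσ (hRT hy).1
      have hxK : (⟨x, hxσ⟩ : sigmaCore L) ∈ Kr := by
        refine mem_of_pow_mem_of_coprime (m := Kr.index) (n := Nat.card P) ?_
          (Subgroup.pow_index_mem Kr _) ?_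
        · rw [hKrc.symm.index_eq_card]
          obtain ⟨j, hj⟩ := IsPGroup.iff_card.mp R₁.2
          rw [hj, hkP]
          exact Nat.Coprime.pow _ _ ((Nat.coprime_primes hr hpp).mpr hrne)
        · have : (⟨x, hxσ⟩ : sigmaCore L) ^ Nat.card P = 1 :=
            Subtype.ext (by simpa using bg1210_pow_card_of_mem hx)
          rw [this]; exact Kr.one_mem
      have hcσ : c ∈ sigmaCore L := by
        rw [hc]
        exact (sigmaCore L).mul_mem ((sigmaCore L).mul_mem ((sigmaCore L).mul_mem hyσ hxσ)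
          ((sigmaCore L).inv_mem hyσ)) ((sigmaCore L).inv_mem hxσ)
      have hcK : (⟨c, hcσ⟩ : sigmaCore L) ∈ Kr := by
        have h1 : (⟨y, hyσ⟩ : sigmaCore L) * ⟨x, hxσ⟩ * (⟨y, hyσ⟩ : sigmaCore L)⁻¹ ∈ Kr :=
          hKrn.conj_mem _ hxK _
        have h2 := Kr.mul_mem h1 (Kr.inv_mem hxK)
        have h3 : (⟨c, hcσ⟩ : sigmaCore L) =
            (⟨y, hyσ⟩ : sigmaCore L) * ⟨x, hxσ⟩ * (⟨y, hyσ⟩ : sigmaCore L)⁻¹ *
              (⟨x, hxσ⟩ : sigmaCore L)⁻¹ := Subtype.ext (by simp [hc])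
        rw [h3]; exact h2
      have hc2 : c ^ Nat.card Kr = 1 := by
        have h1 : (⟨c, hcσ⟩ : sigmaCore L) ^ Nat.card Kr = 1 := bg1210_pow_card_of_mem hcK
        have h2 := congrArg Subtype.val h1
        simpa only [Subgroup.coe_pow, Subgroup.coe_mk, Subgroup.coe_one] using h2
      refine bg1210_eq_one_of_coprime hcn hc2 ?_
      rw [hf]
      exact (hr.coprime_iff_not_dvd.mpr hKr).pow_left f
  have hcard : Nat.card T₀ ∣ Nat.card (T₀ ⊓ centralizer (P : Set G) : Subgroup G) := by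
    rw [← Nat.factorization_prime_le_iff_dvd Nat.card_pos.ne' Nat.card_pos.ne']
    intro r hr
    haveI : Fact r.Prime := ⟨hr⟩
    obtain ⟨R', hR', hPR'⟩ := exists_invariant_sylow hPT₀ hcopT (Or.inl hPsolv) r
    have h1 : R' ≤ T₀ ⊓ centralizer (P : Set G) := le_inf hR'.1 (key r R' hR' hPR')
    have h2 := Subgroup.card_dvd_of_le h1
    rw [hR'.2] at h2
    exact (Nat.Prime.pow_dvd_iff_le_factorization hr Nat.card_pos.ne').mp h2
  have hT₀C : T₀ ≤ centralizer (P : Set G) := by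
    have h1 : T₀ ⊓ centralizer (P : Set G) = T₀ :=
      Subgroup.eq_of_le_of_card_ge inf_le_left (Nat.le_of_dvd Nat.card_pos hcard)
    rw [← h1]; exact inf_le_right
  apply bg1210_le_normalizer
  intro e he x hx
  have hy1 : e * x * e⁻¹ ∈ sigmaCore L :=
    (mem_normalizer_iff.mp (hLσn (hEL he)) x).mp (hPσ hx)
  obtain ⟨k, hk, x', hx', hkx⟩ := hdec _ hy1
  have hkE : k ∈ E := by
    have : k = e * x * e⁻¹ * x'⁻¹ := by rw [hkx]; group
    rw [this]
    exact E.mul_mem (E.mul_mem (E.mul_mem he (hPE hx)) (E.inv_mem he)) (E.inv_mem (hPE hx'))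
  have hkc : ∀ z ∈ P, z * k = k * z := mem_centralizer_iff.mp (hT₀C ⟨hk, hkE⟩)
  have hk1 : k = 1 := by
    have h1 : (k * x') ^ Nat.card P = k ^ Nat.card P * x' ^ Nat.card P :=
      Commute.mul_pow (hkc x' hx').symm _
    have h2 : (e * x * e⁻¹) ^ Nat.card P = 1 := by
      rw [conj_pow, bg1210_pow_card_of_mem hx]; group
    rw [hkx, h1, bg1210_pow_card_of_mem hx', mul_one] at h2
    have h3 : k ^ Nat.card Kg = 1 := bg1210_pow_card_of_mem hk
    refine bg1210_eq_one_of_coprime h2 h3 ?_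
    rw [hkP, hKgcard]
    exact (hpp.coprime_iff_not_dvd.mpr hKp).pow_left kP
  rw [hkx, hk1, one_mul]; exact hx'

end Cfsg.Agent.Helper23
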