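/-
helper23: piece NE of CALL S1438 (helper2, B&G Theorem 15.7).
-/
import Cfsg.Agent.S1417

set_option autoImplicit false

namespace Cfsg.Agent.Helper23

open Cfsg Subgroup

universe u

variable {G : Type u} [Group G] [Finite G]

/-- NE. No `E_{r²}` (`r ∈ τ₂(M)`) of `M` centralizes `H ≠ 1`, `H ≤ M_σ` (row S1417, clause (d)). -/
theorem bg157_no_rank2 (hG : IsMinSimpleOddOrder G) {M H A : Subgroup G} (hM : IsCoatom M)
    (hH : H ≤ sigmaCore M) (hH1 : H ≠ ⊥) {r : ℕ} (hr : r ∈ tau2 M) (hAM : A ≤ M)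
    (hAH : A ≤ centralizer (H : Set G)) (hAc : Nat.card A = r ^ 2)
    (hAe : ∀ a ∈ A, a ^ r = 1) : False := by
  haveI := Fact.mk hr.1
  have hcomm : IsMulCommutative A := IsPGroup.isMulCommutative_of_card_eq_prime_sq hAc
  have h17 := (Cfsg.Agent.S1417.result hG M hM r hr A ⟨hAM, ⟨hcomm, hAe⟩, hAc⟩).2.2.2.1
  apply hH1
  rw [eq_bot_iff, ← h17]
  refine le_inf hH ?_
  intro h hh
  rw [Subgroup.mem_centralizer_iff]
  intro a ha
  exact ((Subgroup.mem_centralizer_iff.mp (hAH ha)) h hh).symm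

end Cfsg.Agent.Helper23
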