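/-
CALL BG83 (helper25, row S1383): bridge from the skeleton's `bg83_sl2` hypotheses to the hypotheses of
helper2's pure lemma `sl2l_main` (CALL SL2L).  Pure group theory, Mathlib only.
`bg83h_p3`: a group `P` of order `p³` with `P' ≠ 1` has `P' = Z(P)` of order `p`.
`bg83h_K`: the `K`-hypotheses in elementwise form.
-/
import Mathlib

set_option autoImplicit false

namespace Cfsg.Agent.Helper23

open Subgroup

universe u

variable {G : Type u} [Group G] [Finite G]

/-- A subgroup `P` of order `p³` with `⁅P, P⁆ ≠ 1`: `⁅P, P⁆ ≤ P` has order `p`, is central in `P`,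
and contains every element of `P` that is central in `P`. -/
theorem bg83h_p3 (p : ℕ) [Fact p.Prime] (P : Subgroup G) (hcard : Nat.card ↥P = p ^ 3)
    (hnab : ⁅P, P⁆ ≠ ⊥) :
    ⁅P, P⁆ ≤ P ∧ Nat.card ↥⁅P, P⁆ = p ∧ (∀ z ∈ ⁅P, P⁆, ∀ a ∈ P, z * a = a * z) ∧
      (∀ a ∈ P, (∀ b ∈ P, a * b = b * a) → a ∈ ⁅P, P⁆) := by
  have hp : p.Prime := Fact.out
  have hPg : IsPGroup p ↥P := IsPGroup.of_card hcard
  have hnc : ¬ ∀ a b : ↥P, a * b = b * a := by
    intro h
    apply hnab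
    rw [Subgroup.commutator_eq_bot_iff_le_centralizer]
    intro a ha
    rw [Subgroup.mem_centralizer_iff]
    intro b hb
    exact congrArg Subtype.val (h ⟨b, hb⟩ ⟨a, ha⟩)
  haveI hnt : Nontrivial ↥P := by
    rw [← Finite.one_lt_card_iff_nontrivial, hcard]
    exact Nat.one_lt_pow (by norm_num) hp.one_lt
  have hZne : Subgroup.center ↥P ≠ ⊥ := by
    have h1 := hPg.center_nontrivial
    exact (Subgroup.nontrivial_iff_ne_bot _).mp h1
  have hZdvd : Nat.card (Subgroup.center ↥P) ∣ p ^ 3 :=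
    hcard ▸ Subgroup.card_subgroup_dvd_card _
  obtain ⟨j, hj, hZj⟩ := (Nat.dvd_prime_pow hp).mp hZdvd
  have hj0 : j ≠ 0 := by
    rintro rfl
    rw [pow_zero] at hZj
    exact hZne (Subgroup.card_eq_one.mp hZj)
  have hj3 : j ≠ 3 := by
    rintro rfl
    apply hnc
    have htop : Subgroup.center ↥P = ⊤ := Subgroup.eq_top_of_card_eq _ (hZj.trans hcard.symm)
    intro a b
    have hb : b ∈ Subgroup.center ↥P := htop ▸ Subgroup.mem_top b
    exact Subgroup.mem_center_iff.mp hb a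
  have hj2 : j ≠ 2 := by
    rintro rfl
    apply hnc
    have hq : Nat.card (↥P ⧸ Subgroup.center ↥P) = p := by
      have h1 := Subgroup.card_eq_card_quotient_mul_card_subgroup (Subgroup.center ↥P)
      rw [hcard, hZj] at h1
      have h2 : p ^ 3 = p * p ^ 2 := by ring
      rw [h2] at h1
      exact (Nat.eq_of_mul_eq_mul_right (pow_pos hp.pos 2) h1).symm
    haveI : IsCyclic (↥P ⧸ Subgroup.center ↥P) := isCyclic_of_prime_card hq
    have hc := (QuotientGroup.mk' (Subgroup.center ↥P)).isMulCommutative_of_isCyclic_of_ker_le_center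
      (QuotientGroup.ker_mk' _).le
    exact fun a b => hc.is_comm.comm a b
  have hj1 : j = 1 := by omega
  rw [hj1, pow_one] at hZj
  have hQ : Nat.card (↥P ⧸ Subgroup.center ↥P) = p ^ 2 := by
    have h1 := Subgroup.card_eq_card_quotient_mul_card_subgroup (Subgroup.center ↥P)
    rw [hcard, hZj] at h1
    have h2 : p ^ 3 = p ^ 2 * p := by ring
    rw [h2] at h1
    exact (Nat.eq_of_mul_eq_mul_right hp.pos h1).symm
  have hcomm : ∀ a b : ↥P ⧸ Subgroup.center ↥P, a * b = b * a := fun a b =>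
    (IsPGroup.isMulCommutative_of_card_eq_prime_sq hQ).is_comm.comm a b
  have hZmc : Nat.card ↥((Subgroup.center ↥P).map P.subtype) = p := by
    rw [← hZj]
    exact Nat.card_congr
      ((Subgroup.center ↥P).equivMapOfInjective P.subtype P.subtype_injective).symm.toEquiv
  have hmemZm : ∀ a : G, a ∈ (Subgroup.center ↥P).map P.subtype ↔
      ∃ ha : a ∈ P, ∀ b : ↥P, b * ⟨a, ha⟩ = ⟨a, ha⟩ * b := by
    intro a
    constructor
    · rintro ⟨z, hz, rfl⟩
      exact ⟨z.2, fun b => Subgroup.mem_center_iff.mp hz b⟩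
    · rintro ⟨ha, h⟩
      exact ⟨⟨a, ha⟩, Subgroup.mem_center_iff.mpr h, rfl⟩
  have hle : ⁅P, P⁆ ≤ (Subgroup.center ↥P).map P.subtype := by
    rw [Subgroup.commutator_le]
    intro a ha b hb
    have h1 := hcomm (QuotientGroup.mk (⟨a, ha⟩ : P)) (QuotientGroup.mk (⟨b, hb⟩ : P))
    have h2 : (QuotientGroup.mk ((⟨a, ha⟩ : P) * ⟨b, hb⟩ * (⟨a, ha⟩ : P)⁻¹ * (⟨b, hb⟩ : P)⁻¹) :
        ↥P ⧸ Subgroup.center ↥P) = 1 := by
      simp only [QuotientGroup.mk_mul, QuotientGroup.mk_inv]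
      rw [h1]; group
    rw [QuotientGroup.eq_one_iff] at h2
    exact ⟨_, h2, by simp [commutatorElement_def]⟩
  have heq : ⁅P, P⁆ = (Subgroup.center ↥P).map P.subtype := by
    apply Subgroup.eq_of_le_of_card_ge hle
    rw [hZmc]
    have hd : Nat.card ↥⁅P, P⁆ ∣ p := hZmc ▸ Subgroup.card_dvd_of_le hle
    rcases (Nat.dvd_prime hp).mp hd with h | h
    · exact absurd (Subgroup.card_eq_one.mp h) hnab
    · exact h.ge
  refine ⟨?_, ?_, ?_, ?_⟩
  · rw [heq]; exact Subgroup.map_subtype_le _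
  · rw [heq]; exact hZmc
  · intro z hz a ha
    rw [heq] at hz
    obtain ⟨hzP, h⟩ := (hmemZm z).mp hz
    exact (congrArg Subtype.val (h ⟨a, ha⟩)).symm
  · intro a ha h
    rw [heq]
    exact (hmemZm a).mpr ⟨ha, fun b => Subtype.ext (h b b.2).symm⟩

omit [Finite G] in
/-- The `K`-hypotheses of `bg83_sl2` in the elementwise form of `sl2l_main`. -/
theorem bg83h_K (P K : Subgroup G) (hK : IsCyclic ↥K) (hKP : K ≤ normalizer (P : Set G))
    (hfpf : ∀ k ∈ K, k ≠ 1 → P ⊓ centralizer ({k} : Set G) = ⁅P, P⁆) :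
    (∀ k ∈ K, ∀ a ∈ P, k * a * k⁻¹ ∈ P) ∧ (∀ k ∈ K, ∀ k' ∈ K, k * k' = k' * k) ∧
      (∀ k ∈ K, k ≠ 1 → ∀ a ∈ P, k * a = a * k → a ∈ ⁅P, P⁆) ∧
      (∀ k ∈ K, ∀ z ∈ ⁅P, P⁆, k * z = z * k) := by
  refine ⟨?_, ?_, ?_, ?_⟩
  · intro k hk a ha
    exact (Subgroup.mem_normalizer_iff.mp (hKP hk) a).mp ha
  · intro k hk k' hk'
    have h := (IsCyclic.isMulCommutative (α := ↥K)).is_comm.comm ⟨k, hk⟩ ⟨k', hk'⟩
    exact congrArg Subtype.val h
  · intro k hk hk1 a ha hka
    rw [← hfpf k hk hk1]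
    refine Subgroup.mem_inf.mpr ⟨ha, ?_⟩
    rw [Subgroup.mem_centralizer_iff]
    intro x hx
    rw [Set.mem_singleton_iff] at hx
    rw [hx]; exact hka
  · intro k hk z hz
    by_cases hk1 : k = 1
    · rw [hk1, one_mul, mul_one]
    · rw [← hfpf k hk hk1] at hz
      have h := (Subgroup.mem_inf.mp hz).2
      rw [Subgroup.mem_centralizer_iff] at h
      exact h k rfl

end Cfsg.Agent.Helper23
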