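/-
helper23: auxiliary lemmas for the CALL S0420 pieces (stars of adjacent Sylow 3-subgroups).
-/
import Mathlib
import Cfsg.Agent.Helper48.M11UGeo

set_option autoImplicit false
open scoped Pointwise

namespace Cfsg.Agent.Helper23

open Cfsg.Agent.Helper48.M11U

universe u

variable {G : Type u} [Group G] [Finite G]

omit [Finite G] in
/-- An element of `R` fixes `R`. -/
theorem m11u_aux_smul_self (R : Sylow 3 G) {r : G} (hr : r ∈ (R : Subgroup G)) : r • R = R :=
  (smul_eq_iff r R).mpr (Subgroup.le_normalizer hr)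

omit [Finite G] in
/-- The star only depends on the `R`-orbit of `S`. -/
theorem m11u_aux_star_orbit (R S : Sylow 3 G) {r : G} (hr : r ∈ (R : Subgroup G)) :
    star R (r • S) = star R S := by
  ext P
  rw [mem_star, mem_star]
  constructor
  · rintro (h | ⟨r', hr', h⟩)
    · exact Or.inl h
    · exact Or.inr ⟨r' * r, mul_mem hr' hr, by rw [h, mul_smul]⟩
  · rintro (h | ⟨r', hr', h⟩)
    · exact Or.inl h
    · refine Or.inr ⟨r' * r⁻¹, mul_mem hr' (inv_mem hr), ?_⟩
      rw [h, ← mul_smul, inv_mul_cancel_right]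

omit [Finite G] in
/-- `R` is adjacent to every `R`-conjugate of a neighbour. -/
theorem m11u_aux_adj_orbit {R S : Sylow 3 G} (hRS : Adj R S) {r : G}
    (hr : r ∈ (R : Subgroup G)) : Adj R (r • S) := by
  have h := adj_smul hRS r
  rwa [m11u_aux_smul_self R hr] at h

omit [Finite G] in
theorem m11u_aux_mem_star_left (R S : Sylow 3 G) : R ∈ star R S := Or.inl rfl

omit [Finite G] in
theorem m11u_aux_mem_star_right (R S : Sylow 3 G) : S ∈ star R S :=
  Or.inr ⟨1, one_mem _, (one_smul G S).symm⟩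

omit [Finite G] in
theorem m11u_aux_mem_star_orbit (R S : Sylow 3 G) {r : G} (hr : r ∈ (R : Subgroup G)) :
    r • S ∈ star R S := Or.inr ⟨r, hr, rfl⟩

/-- An involution inverting two Sylow 3-subgroups inverts a third one. -/
theorem m11u_aux_third (h : M11L1 G) {z : G} (hz : orderOf z = 2) (R S : Sylow 3 G) :
    ∃ T : Sylow 3 G, Inv z T ∧ R ≠ T ∧ S ≠ T := by
  by_contra hno
  have hsub : {P : Sylow 3 G | Inv z P} ⊆ ({R, S} : Set (Sylow 3 G)) := by
    intro P hP
    by_contra hPn
    apply hno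
    refine ⟨P, hP, ?_, ?_⟩
    · rintro rfl
      exact hPn (Set.mem_insert _ _)
    · rintro rfl
      exact hPn (Set.mem_insert_of_mem _ rfl)
  have h3 := h.tri z hz
  have h4 : Nat.card {P : Sylow 3 G // Inv z P} = ({P : Sylow 3 G | Inv z P} : Set _).ncard :=
    Nat.card_coe_set_eq _
  have h5 : ({P : Sylow 3 G | Inv z P} : Set _).ncard ≤ ({R, S} : Set (Sylow 3 G)).ncard :=
    Set.ncard_le_ncard hsub (Set.toFinite _)
  have h6 : ({R, S} : Set (Sylow 3 G)).ncard ≤ 2 := by
    refine (Set.ncard_insert_le R {S}).trans ?_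
    rw [Set.ncard_singleton]
  omega

end Cfsg.Agent.Helper23
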