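/-
helper23: CALL S0420 (helper48), piece SCA.
-/
import Mathlib
import Cfsg.Agent.Helper48.M11UGeo
import Cfsg.Agent.Helper23.M11UAux

set_option autoImplicit false
open scoped Pointwise

namespace Cfsg.Agent.Helper23

open Cfsg.Agent.Helper48.M11U

universe u

variable {G : Type u} [Group G] [Finite G]

theorem m11u_star_card (h : M11Gr G) (R S : Sylow 3 G) (hRS : Adj R S) :
    (star R S).ncard = 10 := by
  have hsemi := h.geo.l1.semireg
  have hSR : S ≠ R := fun e => hRS.1 e.symm
  have hinj : Function.Injective (fun r : ↥(R : Subgroup G) => (r : G) • S) := by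
    intro a b hab
    have hab' : (a : G) • S = (b : G) • S := hab
    have h1 : ((b : G)⁻¹ * (a : G)) • S = S := by
      rw [mul_smul, hab', inv_smul_smul]
    have h2 := hsemi R S _ (mul_mem (inv_mem b.2) a.2) h1 hSR
    apply Subtype.ext
    have h3 : (b : G) * ((b : G)⁻¹ * (a : G)) = (b : G) * 1 := by rw [h2]
    rw [mul_inv_cancel_left, mul_one] at h3
    exact h3
  have hstar : star R S = insert R (Set.range (fun r : ↥(R : Subgroup G) => (r : G) • S)) := by
    ext P
    rw [mem_star, Set.mem_insert_iff, Set.mem_range]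
    constructor
    · rintro (h1 | ⟨r, hr, h1⟩)
      · exact Or.inl h1
      · exact Or.inr ⟨⟨r, hr⟩, h1.symm⟩
    · rintro (h1 | ⟨r, h1⟩)
      · exact Or.inl h1
      · exact Or.inr ⟨r, r.2, h1.symm⟩
  have hnot : R ∉ Set.range (fun r : ↥(R : Subgroup G) => (r : G) • S) := by
    rintro ⟨⟨r, hr⟩, h1⟩
    have h1' : r • S = R := h1
    apply hRS.1
    have h2 : r⁻¹ • R = S := by
      have h3 : r⁻¹ • (r • S) = r⁻¹ • R := congrArg (fun Q => r⁻¹ • Q) h1'
      rw [inv_smul_smul] at h3
      exact h3.symm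
    rw [← h2, m11u_aux_smul_self R (inv_mem hr)]
  rw [hstar, Set.ncard_insert_of_notMem hnot (Set.toFinite _), Set.ncard_range_of_injective hinj,
    h.geo.l1.raw.card3 R]

end Cfsg.Agent.Helper23
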