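/-
helper23: CALL S0420 (helper48), piece SCL.
-/
import Mathlib
import Cfsg.Agent.Helper48.M11UGeo
import Cfsg.Agent.Helper23.M11UAux

set_option autoImplicit false
set_option linter.unusedVariables false
open scoped Pointwise

namespace Cfsg.Agent.Helper23

open Cfsg.Agent.Helper48.M11U

universe u

variable {G : Type u} [Group G] [Finite G]

theorem m11u_star_clique (h : M11Gr G) (hA : PropA G) (R S P P' : Sylow 3 G) (hRS : Adj R S)
    (hP : P ∈ star R S) (hP' : P' ∈ star R S) (hne : P ≠ P') : Adj P P' := by
  rcases hP with rfl | ⟨r, hr, rfl⟩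
  · rcases hP' with rfl | ⟨r', hr', rfl⟩
    · exact absurd rfl hne
    · exact m11u_aux_adj_orbit hRS hr'
  · rcases hP' with rfl | ⟨r', hr', rfl⟩
    · exact adj_symm (m11u_aux_adj_orbit hRS hr)
    · have hr1 : r⁻¹ * r' ≠ 1 := by
        intro h1
        apply hne
        have : r' = r := by
          have h2 : r * (r⁻¹ * r') = r * 1 := by rw [h1]
          rw [mul_inv_cancel_left, mul_one] at h2
          exact h2
        rw [this]
      have h1 := hA R S hRS (r⁻¹ * r') (mul_mem (inv_mem hr) hr') hr1
      have h2 := adj_smul h1 r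
      rwa [← mul_smul, mul_inv_cancel_left] at h2

end Cfsg.Agent.Helper23
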