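/-
helper23: CALL S0420 (helper48), piece SEQ.
-/
import Mathlib
import Cfsg.Agent.Helper48.M11UGeo
import Cfsg.Agent.Helper23.M11UAux

set_option autoImplicit false
set_option linter.unusedVariables false
open scoped Pointwise

namespace Cfsg.Agent.Helper23

open Cfsg.Agent.Helper48.M11U

universe u

variable {G : Type u} [Group G] [Finite G]

theorem m11u_star_eq (h : M11Gr G)
    (hcl : ∀ R S P P' : Sylow 3 G, Adj R S → P ∈ star R S → P' ∈ star R S → P ≠ P' → Adj P P')
    (hsym : ∀ R S : Sylow 3 G, Adj R S → star R S = star S R)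
    (R S P P' : Sylow 3 G) (hRS : Adj R S) (hP : P ∈ star R S) (hP' : P' ∈ star R S)
    (hne : P ≠ P') : star P P' = star R S := by
  rcases hP with rfl | ⟨r, hr, rfl⟩
  · rcases hP' with rfl | ⟨r', hr', rfl⟩
    · exact absurd rfl hne
    · exact m11u_aux_star_orbit P S hr'
  · have hAdj : Adj R (r • S) := m11u_aux_adj_orbit hRS hr
    have e1 : star (r • S) R = star R S := by
      rw [← hsym R (r • S) hAdj, m11u_aux_star_orbit R S hr]
    rcases hP' with rfl | ⟨r', hr', rfl⟩
    · exact e1
    · have hmem : r' • S ∈ star (r • S) R := by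
        rw [e1]
        exact m11u_aux_mem_star_orbit R S hr'
      rcases hmem with h1 | ⟨p, hp, h1⟩
      · exact absurd h1.symm hne
      · rw [h1, m11u_aux_star_orbit (r • S) R hp, e1]

end Cfsg.Agent.Helper23
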