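/-
helper23: CALL S0420 (helper48), piece SSY.
-/
import Mathlib
import Cfsg.Agent.Helper48.M11UGeo
import Cfsg.Agent.Helper23.M11UAux

set_option autoImplicit false
open scoped Pointwise

namespace Cfsg.Agent.Helper23

open Cfsg.Agent.Helper48.M11U

universe u

variable {G : Type u} [Group G] [Finite G]

/-- one inclusion of SSY -/
theorem m11u_aux_star_le (h : M11Gr G)
    (hw : ∀ (z : G) (R S T U : Sylow 3 G), orderOf z = 2 → Inv z R → Inv z S → Inv z T →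
      R ≠ S → R ≠ T → S ≠ T →
      ((Adj U R ∧ Adj U S) ↔ (U = T ∨ ∃ r ∈ (R : Subgroup G), r ≠ 1 ∧ U = r • S)))
    (z : G) (R S T : Sylow 3 G) (hz : orderOf z = 2) (h1 : Inv z R) (h2 : Inv z S)
    (h3 : Inv z T) (hRS : R ≠ S) (hRT : R ≠ T) (hST : S ≠ T) : star R S ⊆ star S R := by
  intro P hP
  rcases hP with rfl | ⟨r, hr, rfl⟩
  · exact m11u_aux_mem_star_right S P
  · by_cases hr1 : r = 1
    · rw [hr1, one_smul]
      exact m11u_aux_mem_star_left S R
    · have hA := (hw z R S T (r • S) hz h1 h2 h3 hRS hRT hST).mpr (Or.inr ⟨r, hr, hr1, rfl⟩)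
      rcases (hw z S R T (r • S) hz h2 h1 h3 (Ne.symm hRS) hST hRT).mp ⟨hA.2, hA.1⟩ with
        hT | ⟨s, hs, -, hsR⟩
      · exfalso
        apply h.orbdisj z R S T hz h1 h2 h3 hRS hRT hST r hr 1 (one_mem _)
        rw [one_smul]
        exact hT
      · exact Or.inr ⟨s, hs, hsR⟩

theorem m11u_star_symm (h : M11Gr G)
    (hw : ∀ (z : G) (R S T U : Sylow 3 G), orderOf z = 2 → Inv z R → Inv z S → Inv z T →
      R ≠ S → R ≠ T → S ≠ T →
      ((Adj U R ∧ Adj U S) ↔ (U = T ∨ ∃ r ∈ (R : Subgroup G), r ≠ 1 ∧ U = r • S)))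
    (R S : Sylow 3 G) (hRS : Adj R S) : star R S = star S R := by
  obtain ⟨hne, z, hz, h1, h2⟩ := hRS
  obtain ⟨T, h3, hRT, hST⟩ := m11u_aux_third h.geo.l1 hz R S
  exact Set.Subset.antisymm (m11u_aux_star_le h hw z R S T hz h1 h2 h3 hne hRT hST)
    (m11u_aux_star_le h hw z S R T hz h2 h1 h3 (Ne.symm hne) hST hRT)

end Cfsg.Agent.Helper23
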