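/-
helper23: CALL S0420 (helper48), piece STW.
-/
import Mathlib
import Cfsg.Agent.Helper48.M11UGeo
import Cfsg.Agent.Helper23.M11UAux

set_option autoImplicit false
set_option linter.unusedVariables false
open scoped Pointwise

namespace Cfsg.Agent.Helper23

open Cfsg.Agent.Helper48.M11U

universe u

variable {G : Type u} [Group G] [Finite G]

theorem m11u_star_two (h : M11Gr G)
    (hcl : ∀ R S P P' : Sylow 3 G, Adj R S → P ∈ star R S → P' ∈ star R S → P ≠ P' → Adj P P')
    (heq : ∀ R S P P' : Sylow 3 G, Adj R S → P ∈ star R S → P' ∈ star R S → P ≠ P' →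
      star P P' = star R S)
    (hcard : ∀ R S : Sylow 3 G, Adj R S → (star R S).ncard = 10)
    (z : G) (R S T : Sylow 3 G) (hz : orderOf z = 2) (h1 : Inv z R) (h2 : Inv z S)
    (h3 : Inv z T) (hRS : R ≠ S) (hRT : R ≠ T) (hST : S ≠ T) :
    star R S ≠ star R T ∧ ∀ P P' : Sylow 3 G, Adj P P' → R ∈ star P P' →
      star P P' = star R S ∨ star P P' = star R T := by
  constructor
  · intro e
    have hT : T ∈ star R S := by
      rw [e]
      exact m11u_aux_mem_star_right R T
    rcases hT with hT | ⟨r, hr, hT⟩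
    · exact hRT hT.symm
    · apply h.orbdisj z R S T hz h1 h2 h3 hRS hRT hST r hr 1 (one_mem _)
      rw [one_smul]
      exact hT.symm
  · intro P P' hPP' hR
    obtain ⟨Q, hQ, hQR⟩ := Set.exists_ne_of_one_lt_ncard
      (by rw [hcard P P' hPP']; norm_num) R
    have e := heq P P' R Q hPP' hR hQ (Ne.symm hQR)
    have hadj := hcl P P' R Q hPP' hR hQ (Ne.symm hQR)
    obtain ⟨r, hr, hQ' | hQ'⟩ := h.nbr z R S T Q hz h1 h2 h3 hRS hRT hST hadj
    · left
      rw [← e, hQ', m11u_aux_star_orbit R S hr]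
    · right
      rw [← e, hQ', m11u_aux_star_orbit R T hr]

end Cfsg.Agent.Helper23
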