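/-
helper23: CALL S0420 (helper48), piece WRS.
-/
import Mathlib
import Cfsg.Agent.Helper48.M11UGeo
import Cfsg.Agent.Helper23.M11UAux

set_option autoImplicit false
open scoped Pointwise

namespace Cfsg.Agent.Helper23

open Cfsg.Agent.Helper48.M11U

universe u

variable {G : Type u} [Group G] [Finite G]

theorem m11u_w (h : M11Gr G) (hA : PropA G) (hB : PropB' G) (z : G) (R S T U : Sylow 3 G)
    (hz : orderOf z = 2) (h1 : Inv z R) (h2 : Inv z S) (h3 : Inv z T) (hRS : R ≠ S)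
    (hRT : R ≠ T) (hST : S ≠ T) :
    (Adj U R ∧ Adj U S) ↔ (U = T ∨ ∃ r ∈ (R : Subgroup G), r ≠ 1 ∧ U = r • S) := by
  have hAdjRS : Adj R S := ⟨hRS, z, hz, h1, h2⟩
  constructor
  · rintro ⟨hUR, hUS⟩
    obtain ⟨r, hr, hU | hU⟩ := h.nbr z R S T U hz h1 h2 h3 hRS hRT hST (adj_symm hUR)
    · refine Or.inr ⟨r, hr, ?_, hU⟩
      rintro rfl
      rw [one_smul] at hU
      exact hUS.1 hU
    · by_cases hr1 : r = 1
      · left
        rw [hU, hr1, one_smul]
      · exfalso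
        apply hB z R S T hz h1 h2 h3 hRS hRT hST r hr hr1
        rw [← hU]
        exact adj_symm hUS
  · rintro (rfl | ⟨r, hr, hr1, rfl⟩)
    · exact ⟨⟨fun e => hRT e.symm, z, hz, h3, h1⟩, ⟨fun e => hST e.symm, z, hz, h3, h2⟩⟩
    · exact ⟨adj_symm (m11u_aux_adj_orbit hAdjRS hr), adj_symm (hA R S hAdjRS r hr hr1)⟩

end Cfsg.Agent.Helper23
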