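/-
CALL SL2L (helper2), piece F1 (double by helper23): `sl2l_quot`.
`P` of order `p³`, `Z ≤ P` central of order `p` equal to the centre: `P/Z` has order `p²`, so it is
abelian (commutators lie in `Z`), and `a ^ p` commutes with every `b` (class-2 power identity,
`[a,b] ^ p = 1`), hence lies in `Z`.
-/
import Mathlib

set_option autoImplicit false

namespace Cfsg.Agent.Helper23

open Subgroup

universe u

variable {Γ : Type u} [Group Γ] [Finite Γ]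

omit [Finite Γ] in
/-- Class-2 power identity: if `c = a b a⁻¹ b⁻¹` commutes with `a`, then
`a ^ i b a ^ (-i) b⁻¹ = c ^ i`. -/
theorem sl2l23_comm_pow {a b : Γ}
    (hc : (a * b * a⁻¹ * b⁻¹) * a = a * (a * b * a⁻¹ * b⁻¹)) (i : ℕ) :
    a ^ i * b * (a ^ i)⁻¹ * b⁻¹ = (a * b * a⁻¹ * b⁻¹) ^ i := by
  induction i with
  | zero => simp
  | succ n ih =>
    have h1 : a ^ (n + 1) * b * (a ^ (n + 1))⁻¹ * b⁻¹ =
        a * (a ^ n * b * (a ^ n)⁻¹ * b⁻¹) * a⁻¹ * (a * b * a⁻¹ * b⁻¹) := by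
      rw [pow_succ']; group
    rw [h1, ih]
    have h2 : a * (a * b * a⁻¹ * b⁻¹) ^ n * a⁻¹ = (a * b * a⁻¹ * b⁻¹) ^ n := by
      have hcm : Commute (a * b * a⁻¹ * b⁻¹) a := hc
      have h3 := (hcm.pow_left n).eq
      rw [← h3]; group
    rw [h2, pow_succ]

/-- PIECE F1: `P/Z` has order `p²`, so it is abelian (commutators lie in `Z`); and `P` has
exponent `p` modulo `Z`. -/
theorem sl2l_quot {p : ℕ} (hp : p.Prime) {P Z : Subgroup Γ} (hPc : Nat.card P = p ^ 3)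
    (hZP : Z ≤ P) (hZc : Nat.card Z = p) (hZcen : ∀ z ∈ Z, ∀ a ∈ P, z * a = a * z)
    (hZeq : ∀ a ∈ P, (∀ b ∈ P, a * b = b * a) → a ∈ Z) :
    (∀ a ∈ P, a ^ p ∈ Z) ∧ ∀ a ∈ P, ∀ b ∈ P, a * b * a⁻¹ * b⁻¹ ∈ Z := by
  haveI : Fact p.Prime := ⟨hp⟩
  haveI hn : (Z.subgroupOf P).Normal := by
    constructor
    intro n hn g
    rw [Subgroup.mem_subgroupOf] at hn ⊢
    have h1 := hZcen (n : Γ) hn (g : Γ) g.2
    have h2 : ((g * n * g⁻¹ : P) : Γ) = (n : Γ) := by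
      push_cast
      rw [← h1]; group
    rw [h2]; exact hn
  have hcZ' : Nat.card (Z.subgroupOf P) = p := by
    rw [← hZc]
    exact Nat.card_congr (Subgroup.subgroupOfEquivOfLe hZP).toEquiv
  have hQ : Nat.card (↥P ⧸ Z.subgroupOf P) = p ^ 2 := by
    have h1 := Subgroup.card_eq_card_quotient_mul_card_subgroup (Z.subgroupOf P)
    rw [hPc, hcZ'] at h1
    have hp0 : 0 < p := hp.pos
    have h2 : p ^ 3 = p ^ 2 * p := by ring
    rw [h2] at h1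
    exact (Nat.eq_of_mul_eq_mul_right hp0 h1).symm
  have hcomm : ∀ a b : ↥P ⧸ Z.subgroupOf P, a * b = b * a := fun a b =>
    (IsPGroup.isMulCommutative_of_card_eq_prime_sq hQ).is_comm.comm a b
  have hC : ∀ a ∈ P, ∀ b ∈ P, a * b * a⁻¹ * b⁻¹ ∈ Z := by
    intro a ha b hb
    have h1 := hcomm (QuotientGroup.mk (⟨a, ha⟩ : P)) (QuotientGroup.mk (⟨b, hb⟩ : P))
    have h2 : (QuotientGroup.mk ((⟨a, ha⟩ : P) * ⟨b, hb⟩ * (⟨a, ha⟩ : P)⁻¹ * (⟨b, hb⟩ : P)⁻¹) :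
        ↥P ⧸ Z.subgroupOf P) = 1 := by
      simp only [QuotientGroup.mk_mul, QuotientGroup.mk_inv]
      rw [h1]; group
    rw [QuotientGroup.eq_one_iff, Subgroup.mem_subgroupOf] at h2
    simpa using h2
  refine ⟨?_, hC⟩
  intro a ha
  apply hZeq _ (P.pow_mem ha p)
  intro b hb
  have hc := hC a ha b hb
  have hca : (a * b * a⁻¹ * b⁻¹) * a = a * (a * b * a⁻¹ * b⁻¹) := hZcen _ hc a ha
  have h1 := sl2l23_comm_pow (b := b) hca p
  have h2 : (a * b * a⁻¹ * b⁻¹) ^ p = 1 := by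
    have h3 := orderOf_dvd_natCard (⟨_, hc⟩ : Z)
    rw [Subgroup.orderOf_mk, hZc] at h3
    exact orderOf_dvd_iff_pow_eq_one.mp h3
  rw [h2] at h1
  calc a ^ p * b = (a ^ p * b * (a ^ p)⁻¹ * b⁻¹) * (b * a ^ p) := by group
    _ = b * a ^ p := by rw [h1, one_mul]

end Cfsg.Agent.Helper23
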